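import Groth.Agent.H29Omega.StalkCompat
import Groth.Agent.H29Blow.IdealMod
import Groth.Agent.H29Slice.QuasiReg
import Groth.Agent.H29Slice.RestrictKer
import Mathlib

/-!
# Stalks of conormal sheaves

For a quasi-compact immersion `i : Z ⟶ X` and `z : Z`, the stalk at `z` of `Omega.conormal i` is generated by
the classes `cgen i z a` of the elements `a` of the kernel of `O_{X, i z} → O_{Z, z}`, and is the universal
receptacle of semilinear maps on that kernel.
-/

set_option autoImplicit false
set_option linter.style.haveILetI false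
set_option maxHeartbeats 400000
universe u

open CategoryTheory CategoryTheory.Limits AlgebraicGeometry TopologicalSpace Opposite TensorProduct

namespace Groth.Agent.H29Omega

open Groth.Agent.H06Mod

attribute [local instance] Groth.Agent.H06Mod.stalkAlgebra

variable {X Z : Scheme.{u}}

/-- A morphism of modules which is surjective on all stalks is an epimorphism. -/
theorem epi_of_surjective_stalkLin {M N : X.Modules} (φ : M ⟶ N)
    (h : ∀ x, Function.Surjective (stalkLin φ x)) : Epi φ := by
  let F := SheafOfModules.toSheaf.{u} X.ringCatSheaf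
  have h1 : TopCat.Presheaf.IsLocallySurjective φ.mapPresheaf :=
    (TopCat.Presheaf.locally_surjective_iff_surjective_on_stalks φ.mapPresheaf).2 h
  have h2 : Epi (F.map φ) := (Sheaf.isLocallySurjective_iff_epi' (A := AddCommGrpCat.{u}) (F.map φ)).1 h1
  haveI := h2
  exact @Functor.epi_of_epi_map (SheafOfModules.{u} X.ringCatSheaf) _ _ _ F _ _ _ φ h2

theorem stalkLin_comp {M N P : X.Modules} (φ : M ⟶ N) (ψ : N ⟶ P) (x : X) (a : M.presheaf.stalk x) :
    stalkLin (φ ≫ ψ) x a = stalkLin ψ x (stalkLin φ x a) := by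
  obtain ⟨U, hU, s, rfl⟩ := M.presheaf.exists_germ_eq a
  rw [stalkLin_germ, stalkLin_germ, stalkLin_germ]
  rfl

theorem eq_zero_of_stalkLin {M N : X.Modules} (φ : M ⟶ N) (h : ∀ x a, stalkLin φ x a = 0) : φ = 0 := by
  refine Scheme.Modules.hom_ext _ _ fun U => ?_
  ext s
  refine TopCat.Presheaf.section_ext (⟨N.presheaf, N.isSheaf⟩ : TopCat.Sheaf Ab.{u} X) U _ _ fun x hx => ?_
  show N.presheaf.germ U x hx (φ.app U s) = N.presheaf.germ U x hx _
  rw [← stalkLin_germ, h]
  exact (map_zero (N.presheaf.germ U x hx).hom).symm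

section IdealStalk

variable (I : X.IdealSheafData) (x : X)

/-- The inclusion of the ideal module into the structure sheaf, on stalks. -/
noncomputable def idealStalkHom :
    (ClSub.idealMod I).presheaf.stalk x →+ X.presheaf.stalk x :=
  AddCommGrpCat.Hom.hom <| colimit.desc ((OpenNhds.inclusion x).op ⋙ (ClSub.idealMod I).presheaf)
    ⟨AddCommGrpCat.of (X.presheaf.stalk x),
      { app := fun U => AddCommGrpCat.ofHom
          ((X.presheaf.germ U.unop.1 x U.unop.2).hom.toAddMonoidHom.comp (OmegaSh.idealSect I U.unop.1))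
        naturality := fun U V i => by
          ext a
          show X.presheaf.germ V.unop.1 x V.unop.2
            (OmegaSh.idealSect I V.unop.1 ((ClSub.idealMod I).presheaf.map _ a)) = _
          refine (congrArg _ (H29Blow.idealSect_res I
            ((OpenNhds.inclusion x).map i.unop).le a)).trans ?_
          exact X.presheaf.germ_res_apply _ x _ _ }⟩

theorem idealStalkHom_germ (U : X.Opens) (h : x ∈ U) (m : Γ(ClSub.idealMod I, U)) :
    idealStalkHom I x ((ClSub.idealMod I).presheaf.germ U x h m) =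
      X.presheaf.germ U x h (OmegaSh.idealSect I U m) := by
  show (colimit.ι ((OpenNhds.inclusion x).op ⋙ (ClSub.idealMod I).presheaf)
    (op (⟨U, h⟩ : OpenNhds x)) ≫ colimit.desc _ _) m = _
  rw [colimit.ι_desc]
  rfl

theorem idealStalkHom_smul (r : X.presheaf.stalk x) (a : (ClSub.idealMod I).presheaf.stalk x) :
    idealStalkHom I x (r • a) = r * idealStalkHom I x a := by
  obtain ⟨U, h, r, a, rfl, rfl⟩ := exists_germ_pair (ClSub.idealMod I) x r a
  rw [← germ_smul, idealStalkHom_germ, idealStalkHom_germ, H29Blow.idealSect_smul, map_mul]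

/-- The inclusion of the ideal module into the structure sheaf, on stalks, as a linear map. -/
noncomputable def idealStalk :
    (ClSub.idealMod I).presheaf.stalk x →ₗ[X.presheaf.stalk x] X.presheaf.stalk x where
  toFun := idealStalkHom I x
  map_add' := map_add _
  map_smul' := idealStalkHom_smul I x

theorem idealStalk_germ (U : X.Opens) (h : x ∈ U) (m : Γ(ClSub.idealMod I, U)) :
    idealStalk I x ((ClSub.idealMod I).presheaf.germ U x h m) =
      X.presheaf.germ U x h (OmegaSh.idealSect I U m) :=
  idealStalkHom_germ I x U h m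

theorem idealStalk_injective : Function.Injective (idealStalk I x) := by
  rw [injective_iff_map_eq_zero]
  intro a ha
  obtain ⟨U, h, m, rfl⟩ := (ClSub.idealMod I).presheaf.exists_germ_eq a
  rw [idealStalk_germ, ← map_zero (X.presheaf.germ U x h).hom] at ha
  obtain ⟨W, hW, i, j, hij⟩ := X.presheaf.germ_eq x h h _ _ ha
  have h0 : (ClSub.idealMod I).presheaf.map i.op m = 0 := by
    refine H29Blow.idealSect_injective I W ?_
    rw [show i = homOfLE i.le from rfl, H29Blow.idealSect_res, map_zero]
    refine hij.trans ?_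
    exact map_zero _
  rw [← (ClSub.idealMod I).presheaf.germ_res_apply i x hW m, h0]
  exact map_zero _

theorem range_idealStalk (V : X.affineOpens) (hV : x ∈ V.1) :
    LinearMap.range (idealStalk I x) = (I.ideal V).map (X.presheaf.germ V.1 x hV).hom := by
  refine le_antisymm ?_ ?_
  · rintro _ ⟨a, rfl⟩
    obtain ⟨U, h, m, rfl⟩ := (ClSub.idealMod I).presheaf.exists_germ_eq a
    rw [idealStalk_germ]
    obtain ⟨_, ⟨W, hW : IsAffineOpen W, rfl⟩, hxW, hle : W ≤ U ⊓ V.1⟩ :=
      X.isBasis_affineOpens.exists_subset_of_mem_open (⟨h, hV⟩ : x ∈ U ⊓ V.1) (U ⊓ V.1).isOpen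
    have hWU : W ≤ U := hle.trans inf_le_left
    have hWV : W ≤ V.1 := hle.trans inf_le_right
    have h1 : X.presheaf.map (homOfLE hWU).op (OmegaSh.idealSect I U m) ∈ I.ideal ⟨W, hW⟩ :=
      (H29Blow.mem_ideal_iff_exists_idealSect I hW _).2 ⟨_, H29Blow.idealSect_res I hWU m⟩
    rw [← I.map_ideal (U := ⟨W, hW⟩) (V := V) hWV] at h1
    have h2 := Ideal.mem_map_of_mem (X.presheaf.germ W x hxW).hom h1
    rw [Ideal.map_map] at h2
    erw [X.presheaf.germ_res_apply (homOfLE hWU) x hxW] at h2
    have e : (X.presheaf.germ W x hxW).hom.comp (X.presheaf.map (homOfLE hWV).op).hom =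
        (X.presheaf.germ V.1 x hV).hom := by
      rw [← CommRingCat.hom_comp, X.presheaf.germ_res]
    rw [← e]
    exact h2
  · rw [Ideal.map_le_iff_le_comap]
    intro r hr
    obtain ⟨m, hm⟩ := (H29Blow.mem_ideal_iff_exists_idealSect I V.2 r).1 hr
    exact ⟨(ClSub.idealMod I).presheaf.germ V.1 x hV m, by rw [idealStalk_germ, hm]⟩

end IdealStalk

/-- An immersion is a closed immersion over a neighbourhood of each of its points. -/
theorem exists_affine_isClosedImmersion (i : Z ⟶ X) [IsImmersion i] (z : Z) (O : X.Opens) (hO : i z ∈ O) :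
    ∃ U : X.affineOpens, i z ∈ U.1 ∧ U.1 ≤ O ∧ IsClosedImmersion (i ∣_ U.1) := by
  have hz : i z ∈ i.coborderRange := subset_coborder ⟨z, rfl⟩
  obtain ⟨_, ⟨U, hU : IsAffineOpen U, rfl⟩, hxU, hle : U ≤ i.coborderRange ⊓ O⟩ :=
    X.isBasis_affineOpens.exists_subset_of_mem_open (⟨hz, hO⟩ : i z ∈ i.coborderRange ⊓ O)
      (i.coborderRange ⊓ O).isOpen
  refine ⟨⟨U, hU⟩, hxU, hle.trans inf_le_right, ?_⟩
  haveI : IsIso (i.coborderRange.ι ∣_ U) := by
    rw [isIso_iff_isOpenImmersion_and_surjective (i.coborderRange.ι ∣_ U)]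
    refine ⟨inferInstance, ⟨fun p => ?_⟩⟩
    have hp : Scheme.Opens.ι (U : X.Opens) p ∈ i.coborderRange := (hle p.2).1
    refine ⟨⟨⟨_, hp⟩, p.2⟩, Subtype.ext ?_⟩
    rw [morphismRestrict_base_coe]
    rfl
  haveI hcl : IsClosedImmersion (i.liftCoborder ∣_ (i.coborderRange.ι ⁻¹ᵁ U)) :=
    IsZariskiLocalAtTarget.restrict (P := @IsClosedImmersion) inferInstance _
  have : IsClosedImmersion ((i.liftCoborder ≫ i.coborderRange.ι) ∣_ U) := by
    rw [morphismRestrict_comp]
    exact MorphismProperty.IsStableUnderComposition.comp_mem _ _ hcl inferInstance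
  rwa [i.liftCoborder_ι] at this

variable (i : Z ⟶ X) [IsImmersion i] [QuasiCompact i] (z : Z)

theorem range_idealStalk_ker :
    LinearMap.range (idealStalk i.ker (i z)) = RingHom.ker (i.stalkMap z).hom := by
  obtain ⟨U, hU, -, hcl⟩ := exists_affine_isClosedImmersion i z ⊤ trivial
  rw [range_idealStalk i.ker (i z) U hU, Scheme.Hom.ker_apply, H29Slice.ker_stalkMap_of_restrict i U hcl z hU]

/-- The stalk of the ideal module at a point of `Z` is the kernel of the map of local rings. -/
noncomputable def idealStalkEquiv :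
    (ClSub.idealMod i.ker).presheaf.stalk (i z) ≃ₗ[X.presheaf.stalk (i z)] RingHom.ker (i.stalkMap z).hom :=
  (LinearEquiv.ofInjective (idealStalk i.ker (i z)) (idealStalk_injective _ _)).trans
    (LinearEquiv.ofEq _ _ (range_idealStalk_ker i z))

theorem coe_idealStalkEquiv (a : (ClSub.idealMod i.ker).presheaf.stalk (i z)) :
    (idealStalkEquiv i z a : X.presheaf.stalk (i z)) = idealStalk i.ker (i z) a := rfl

/-- The class in the stalk of the conormal sheaf of an element of the kernel of the map of local rings. -/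
noncomputable def cgen :
    RingHom.ker (i.stalkMap z).hom →+ (Omega.conormal i).presheaf.stalk z :=
  (pullStalk i (ClSub.idealMod i.ker) z).hom.comp (idealStalkEquiv i z).symm.toAddMonoidHom

theorem cgen_smul (r : X.presheaf.stalk (i z)) (a : RingHom.ker (i.stalkMap z).hom) :
    cgen i z (r • a) = (i.stalkMap z).hom r • cgen i z a := by
  show pullStalk i (ClSub.idealMod i.ker) z ((idealStalkEquiv i z).symm (r • a)) = _
  rw [map_smul]
  exact pullStalk_smul i (ClSub.idealMod i.ker) z r _

/-- `cgen` on germs of sections of the ideal. -/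
theorem cgen_germ (U : X.Opens) (h : i z ∈ U) (m : Γ(ClSub.idealMod i.ker, U))
    (a : RingHom.ker (i.stalkMap z).hom)
    (ha : (a : X.presheaf.stalk (i z)) = X.presheaf.germ U (i z) h (OmegaSh.idealSect i.ker U m)) :
    cgen i z a = (Omega.conormal i).presheaf.germ (i ⁻¹ᵁ U) z h (OmegaSh.conormalSect i U m) := by
  have e : (idealStalkEquiv i z).symm a = (ClSub.idealMod i.ker).presheaf.germ U (i z) h m := by
    rw [LinearEquiv.symm_apply_eq]
    refine Subtype.ext ?_
    rw [ha, coe_idealStalkEquiv, idealStalk_germ]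
  show pullStalk i (ClSub.idealMod i.ker) z ((idealStalkEquiv i z).symm a) = _
  rw [e]
  exact pullStalk_germ i (ClSub.idealMod i.ker) z U h m

/-- Every element of the kernel of the map of local rings is a germ of a section of the ideal. -/
theorem exists_germ_idealSect (O : X.Opens) (hO : i z ∈ O) (a : RingHom.ker (i.stalkMap z).hom) :
    ∃ (U : X.Opens) (h : i z ∈ U) (_ : U ≤ O) (m : Γ(ClSub.idealMod i.ker, U)),
      (a : X.presheaf.stalk (i z)) = X.presheaf.germ U (i z) h (OmegaSh.idealSect i.ker U m) := by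
  obtain ⟨U, h, m, hm⟩ := (ClSub.idealMod i.ker).presheaf.exists_germ_eq ((idealStalkEquiv i z).symm a)
  refine ⟨U ⊓ O, ⟨h, hO⟩, inf_le_right, (ClSub.idealMod i.ker).presheaf.map (homOfLE inf_le_left).op m, ?_⟩
  rw [← idealStalk_germ, TopCat.Presheaf.germ_res_apply, hm, ← coe_idealStalkEquiv, LinearEquiv.apply_symm_apply]

theorem span_cgen : Submodule.span (Z.presheaf.stalk z) (Set.range (cgen i z)) = ⊤ := by
  rw [eq_top_iff]
  intro w _
  obtain ⟨t, rfl⟩ := (pullStalkEquiv i (ClSub.idealMod i.ker) z).surjective w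
  induction t using TensorProduct.induction_on with
  | zero => rw [map_zero]; exact zero_mem _
  | add a b ha hb => rw [map_add]; exact add_mem (ha trivial) (hb trivial)
  | tmul r m =>
    have h : pullStalkEquiv i (ClSub.idealMod i.ker) z (r ⊗ₜ m) = r • cgen i z (idealStalkEquiv i z m) := by
      show pullStalkLin i (ClSub.idealMod i.ker) z (r ⊗ₜ m) = _
      rw [pullStalkLin_tmul]
      show _ = r • pullStalk i (ClSub.idealMod i.ker) z
        ((idealStalkEquiv i z).symm (idealStalkEquiv i z m))
      rw [LinearEquiv.symm_apply_apply]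
    rw [h]
    exact Submodule.smul_mem _ _ (Submodule.subset_span ⟨_, rfl⟩)

/-- Universal property of the stalk of the conormal sheaf. -/
theorem exists_lift_cgen {N : Type u} [AddCommGroup N] [Module (Z.presheaf.stalk z) N]
    (f : RingHom.ker (i.stalkMap z).hom →+ N)
    (hf : ∀ (r : X.presheaf.stalk (i z)) a, f (r • a) = (i.stalkMap z).hom r • f a) :
    ∃ g : (Omega.conormal i).presheaf.stalk z →ₗ[Z.presheaf.stalk z] N, ∀ a, g (cgen i z a) = f a := by
  letI : Module (X.presheaf.stalk (i.base z)) N := Module.compHom N (i.stalkMap z).hom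
  haveI : IsScalarTower (X.presheaf.stalk (i.base z)) (Z.presheaf.stalk z) N :=
    .of_algebraMap_smul fun _ _ => rfl
  let f' : (ClSub.idealMod i.ker).presheaf.stalk (i.base z) →ₗ[X.presheaf.stalk (i.base z)] N :=
    { toFun := fun m => f (idealStalkEquiv i z m)
      map_add' := fun a b => by rw [map_add, map_add]
      map_smul' := fun r m => by rw [map_smul]; exact hf r _ }
  refine ⟨(f'.liftBaseChange (Z.presheaf.stalk z)).comp
    (pullStalkEquiv i (ClSub.idealMod i.ker) z).symm.toLinearMap, fun a => ?_⟩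
  have h : (pullStalkEquiv i (ClSub.idealMod i.ker) z).symm (cgen i z a) =
      (1 : Z.presheaf.stalk z) ⊗ₜ ((idealStalkEquiv i z).symm a) := by
    rw [LinearEquiv.symm_apply_eq]
    show _ = pullStalkLin i (ClSub.idealMod i.ker) z (_ ⊗ₜ _)
    rw [pullStalkLin_tmul, one_smul]
    rfl
  show f'.liftBaseChange _ ((pullStalkEquiv i (ClSub.idealMod i.ker) z).symm (cgen i z a)) = _
  rw [h, LinearMap.liftBaseChange_tmul, one_smul]
  show f (idealStalkEquiv i z ((idealStalkEquiv i z).symm a)) = f a
  rw [LinearEquiv.apply_symm_apply]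

end Groth.Agent.H29Omega
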