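import Groth.Agent.H29Fitt.PullbackQCoh
import Groth.Agent.H29Fitt.FP
import Groth.Agent.H17.OmegaLocal
import Groth.Agent.H10Coh.FinType2

/-!
# `Omega.sheaf f` is quasi-coherent, of finite type / finite presentation
-/

set_option autoImplicit false

universe u

open CategoryTheory Limits AlgebraicGeometry TopologicalSpace Opposite

namespace Groth.Agent.H29Omega

variable {X S : Scheme.{u}}

theorem isQCoh_sheaf (f : X ⟶ S) : Coh.IsQCoh (Omega.sheaf f) :=
  H29Fitt.isQCoh_pullback _ _ (H17.OmegaLocal.isQuasicoherent_idealMod _)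

theorem finite_sections_sheaf (f : X ⟶ S) [QuasiSeparated f] [LocallyOfFiniteType f] {U : X.Opens}
    (hU : IsAffineOpen U) {V : S.Opens} (hV : IsAffineOpen V) (h : U ≤ f ⁻¹ᵁ V) :
    Module.Finite Γ(X, U) Γ(Omega.sheaf f, U) := by
  have := H17.OmegaLocal.isIso_toSect f hU hV h
  have hft : (f.appLE V U h).hom.FiniteType := f.finiteType_appLE hV hU h
  algebraize [(f.appLE V U h).hom]
  haveI : Module.Finite Γ(X, U) (CommRingCat.KaehlerDifferential (f.appLE V U h)) :=
    (inferInstance : Module.Finite Γ(X, U) Ω[Γ(X, U)⁄Γ(S, V)])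
  exact Module.Finite.equiv (asIso (OmAff.toSect f V U h)).toLinearEquiv

theorem finitePresentation_sections_sheaf (f : X ⟶ S) [QuasiSeparated f]
    [LocallyOfFinitePresentation f] {U : X.Opens}
    (hU : IsAffineOpen U) {V : S.Opens} (hV : IsAffineOpen V) (h : U ≤ f ⁻¹ᵁ V) :
    Module.FinitePresentation Γ(X, U) Γ(Omega.sheaf f, U) := by
  have := H17.OmegaLocal.isIso_toSect f hU hV h
  have hft : (f.appLE V U h).hom.FinitePresentation := f.finitePresentation_appLE hV hU h
  algebraize [(f.appLE V U h).hom]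
  haveI : Module.FinitePresentation Γ(X, U) (CommRingCat.KaehlerDifferential (f.appLE V U h)) :=
    (inferInstance : Module.FinitePresentation Γ(X, U) Ω[Γ(X, U)⁄Γ(S, V)])
  let e := (asIso (OmAff.toSect f V U h)).toLinearEquiv
  exact Module.finitePresentation_of_surjective e.toLinearMap e.surjective
    (by rw [LinearEquiv.ker]; exact Submodule.fg_bot)

theorem exists_affine_chart (f : X ⟶ S) (x : X) :
    ∃ (U : X.Opens) (V : S.Opens), x ∈ U ∧ IsAffineOpen U ∧ IsAffineOpen V ∧ U ≤ f ⁻¹ᵁ V := by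
  obtain ⟨_, ⟨V, hV : IsAffineOpen V, rfl⟩, hxV, -⟩ :=
    S.isBasis_affineOpens.exists_subset_of_mem_open (Set.mem_univ (f x)) isOpen_univ
  obtain ⟨_, ⟨U, hU : IsAffineOpen U, rfl⟩, hxU, hle⟩ :=
    X.isBasis_affineOpens.exists_subset_of_mem_open (show x ∈ f ⁻¹ᵁ V from hxV) (f ⁻¹ᵁ V).isOpen
  exact ⟨U, V, hxU, hU, hV, hle⟩

/-- Quasi-coherent modules with finitely presented sections on an affine cover are of finite
presentation. -/
theorem isFP_of_affineCover (M : X.Modules) [M.IsQuasicoherent] {I : Type u} (U : I → X.Opens)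
    (hU : IsOpenCover U) (hA : ∀ i, IsAffineOpen (U i))
    (h : ∀ i, Module.FinitePresentation Γ(X, U i) Γ(M, U i)) : CohB1.IsFP M := by
  classical
  have hq := fun i => Scheme.Modules.isQuasicoherent_restrictFunctor (hA i).fromSpec M
  have htop : ∀ i, (hA i).fromSpec ''ᵁ ⊤ = U i := fun i => by
    rw [Scheme.Hom.image_top_eq_opensRange, (hA i).opensRange_fromSpec]
  have hfp : ∀ i, Module.FinitePresentation Γ(X, U i)
      ((H10Coh.ΓSpec Γ(X, U i)).obj (M.restrict (hA i).fromSpec)) := by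
    intro i
    haveI : Module.FinitePresentation Γ(X, (hA i).fromSpec ''ᵁ ⊤) Γ(M, (hA i).fromSpec ''ᵁ ⊤) :=
      (htop i).symm ▸ h i
    haveI : Module.FinitePresentation Γ(Spec Γ(X, U i), ⊤) Γ(M.restrict (hA i).fromSpec, ⊤) :=
      H29Fitt.finitePresentation_of_semilinear ((hA i).fromSpec.appIso ⊤).hom.hom
        (ConcreteCategory.bijective_of_isIso ((hA i).fromSpec.appIso ⊤).hom)
        (M.restrictAppIso (hA i).fromSpec ⊤).inv.hom
        (fun a m => Scheme.Modules.smul_restrictAppIso_inv_apply (hA i).fromSpec M ⊤ a m)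
        (ConcreteCategory.bijective_of_isIso (M.restrictAppIso (hA i).fromSpec ⊤).inv)
    refine H29Fitt.finitePresentation_of_semilinear (M := Γ(M.restrict (hA i).fromSpec, ⊤))
      (Scheme.ΓSpecIso Γ(X, U i)).hom.hom
      (ConcreteCategory.bijective_of_isIso (Scheme.ΓSpecIso Γ(X, U i)).hom)
      (AddMonoidHom.id _) (fun a m => ?_) Function.bijective_id
    have h := Scheme.Modules.smul_Spec_def (M := M.restrict (hA i).fromSpec) (U := ⊤)
      ((Scheme.ΓSpecIso Γ(X, U i)).hom a) m
    have hid : (⊤ : (Spec Γ(X, U i)).Opens).leTop.op = 𝟙 _ := Subsingleton.elim _ _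
    rw [hid, CategoryTheory.Functor.map_id] at h
    refine Eq.trans ?_ h.symm
    exact congrArg (· • m) (congr($((Scheme.ΓSpecIso Γ(X, U i)).hom_inv_id) a)).symm
  have hfin : ∀ i, Module.Finite Γ(X, U i)
      ((H10Coh.ΓSpec Γ(X, U i)).obj (M.restrict (hA i).fromSpec)) := fun i => by
    haveI := hfp i
    infer_instance
  choose P hP1 hP2 using fun i => @H10Coh.exists_finite_presentation_tilde _ _ (hfin i)
  let e i := @H10Coh.tildeIso _ (M.restrict (hA i).fromSpec) (hq i)
  let Q i := H10Coh.presentationOver M (U i) (H10Coh.presOfIso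
    ((Scheme.Modules.restrictFunctorComp (hA i).isoSpec.hom (hA i).fromSpec).symm.app M ≪≫
      (Scheme.Modules.restrictFunctorCongr (hA i).isoSpec_hom_fromSpec).app M)
    (Scheme.Modules.presentationRestrict (hA i).isoSpec.hom (H10Coh.presOfIso (e i) (P i))))
  let σ : SheafOfModules.QuasicoherentData (R := X.ringCatSheaf) M :=
    { I := I
      X := U
      coversTop := (Opens.coversTop_iff _ _).2 hU
      presentation := Q }
  suffices hσ : σ.IsFinitePresentation by
    exact SheafOfModules.IsFinitePresentation.mk (R := X.ringCatSheaf) ⟨σ, hσ⟩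
  constructor
  intro j
  exact ⟨⟨(hP2 _ (hfp j)).isFiniteType_generators.finite⟩,
    ⟨(hP2 _ (hfp j)).isFiniteType_relations.finite⟩⟩

theorem isFT_sheaf (f : X ⟶ S) [QuasiSeparated f] [LocallyOfFiniteType f] :
    CohB1.IsFT (Omega.sheaf f) := by
  haveI : (Omega.sheaf f).IsQuasicoherent := isQCoh_sheaf f
  choose U V hxU hU hV hle using exists_affine_chart f
  exact (H10Coh.isFT_isFP_of_affineCover _ U
    (eq_top_iff.2 fun x _ => Opens.mem_iSup.2 ⟨x, hxU x⟩) hU
    fun x => finite_sections_sheaf f (hU x) (hV x) (hle x)).1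

theorem isFP_sheaf (f : X ⟶ S) [QuasiSeparated f] [LocallyOfFinitePresentation f] :
    CohB1.IsFP (Omega.sheaf f) := by
  haveI : (Omega.sheaf f).IsQuasicoherent := isQCoh_sheaf f
  choose U V hxU hU hV hle using exists_affine_chart f
  exact isFP_of_affineCover _ U
    (eq_top_iff.2 fun x _ => Opens.mem_iSup.2 ⟨x, hxU x⟩) hU
    fun x => finitePresentation_sections_sheaf f (hU x) (hV x) (hle x)

end Groth.Agent.H29Omega
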