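import Groth.Agent.H29Omega.StalkKaehler
import Groth.Agent.H06Mod.StalkBaseChange
import Groth.Agent.H17.PushColim
import Mathlib

/-!
# Stalks of comparison maps of differentials
-/

set_option autoImplicit false
set_option linter.style.haveILetI false
set_option maxHeartbeats 400000
universe u

open CategoryTheory CategoryTheory.Limits AlgebraicGeometry TopologicalSpace Opposite TensorProduct

namespace Groth.Agent.H29Omega

open Groth.Agent.H06Mod

/-- A linear map is a base change iff its lift is bijective. -/
theorem isBaseChange_iff_bijective {R S M N : Type u} [CommRing R] [CommRing S] [Algebra R S]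
    [AddCommGroup M] [AddCommGroup N] [Module R M] [Module R N] [Module S N] [IsScalarTower R S N]
    (f : M →ₗ[R] N) : IsBaseChange S f ↔ Function.Bijective (f.liftBaseChange S) := by
  unfold IsBaseChange IsTensorProduct
  refine Iff.of_eq (congrArg Function.Bijective ?_)
  funext t
  induction t using TensorProduct.induction_on with
  | zero => simp
  | add a b ha hb => rw [map_add, map_add, ha, hb]
  | tmul s m => simp

attribute [local instance] Groth.Agent.H06Mod.stalkAlgebra

variable {X S X' S' : Scheme.{u}}

/-- The map of local rings of the bases of a commutative square. -/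
noncomputable def baseStalkMap (f : X ⟶ S) (f' : X' ⟶ S') (g : S' ⟶ S) (g' : X' ⟶ X)
    (w : g' ≫ f = f' ≫ g) (x' : X') :
    S.presheaf.stalk (f.base (g'.base x')) ⟶ S'.presheaf.stalk (f'.base x') :=
  S.presheaf.stalkSpecializes (specializes_of_eq (by
    show g.base (f'.base x') = f.base (g'.base x')
    rw [← Scheme.Hom.comp_apply, ← Scheme.Hom.comp_apply, w])) ≫ g.stalkMap (f'.base x')

theorem specMap_baseStalkMap (f : X ⟶ S) (f' : X' ⟶ S') (g : S' ⟶ S) (g' : X' ⟶ X)
    (w : g' ≫ f = f' ≫ g) (x' : X') :
    Spec.map (baseStalkMap f f' g g' w x') ≫ S.fromSpecStalk (f.base (g'.base x')) =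
      S'.fromSpecStalk (f'.base x') ≫ g := by
  rw [baseStalkMap, Spec.map_comp, Category.assoc, Scheme.SpecMap_stalkSpecializes_fromSpecStalk,
    Scheme.SpecMap_stalkMap_fromSpecStalk]

theorem baseStalkMap_comp (f : X ⟶ S) (f' : X' ⟶ S') (g : S' ⟶ S) (g' : X' ⟶ X)
    (w : g' ≫ f = f' ≫ g) (x' : X') :
    baseStalkMap f f' g g' w x' ≫ f'.stalkMap x' = f.stalkMap (g'.base x') ≫ g'.stalkMap x' := by
  apply Spec.map_injective
  rw [← cancel_mono (S.fromSpecStalk (f.base (g'.base x'))), Spec.map_comp, Spec.map_comp, Category.assoc,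
    Category.assoc, specMap_baseStalkMap, Scheme.SpecMap_stalkMap_fromSpecStalk, ← Category.assoc,
    ← Category.assoc, Scheme.SpecMap_stalkMap_fromSpecStalk, Scheme.SpecMap_stalkMap_fromSpecStalk,
    Category.assoc, Category.assoc, w]

/-- The comparison map is bijective on stalks iff differentials of local rings base change. -/
theorem bijective_stalk_diffCompat_iff {f : X ⟶ S} {f' : X' ⟶ S'} (g : S' ⟶ S) (g' : X' ⟶ X)
    (w : g' ≫ f = f' ≫ g) {Ω : X.Modules} (d : OmegaSh.Der f Ω) (hd : OmegaSh.IsUniversal d)
    {Ω' : X'.Modules} (d' : OmegaSh.Der f' Ω') (hd' : OmegaSh.IsUniversal d')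
    (c : (Scheme.Modules.pullback g').obj Ω ⟶ Ω') (hc : OmegaSh.IsDiffCompat g' d d' c) (x' : X') :
    letI : Algebra (S.presheaf.stalk (f.base (g'.base x'))) (S'.presheaf.stalk (f'.base x')) :=
      (baseStalkMap f f' g g' w x').hom.toAlgebra
    letI : Algebra (S.presheaf.stalk (f.base (g'.base x'))) (X'.presheaf.stalk x') :=
      ((g'.stalkMap x').hom.comp (f.stalkMap (g'.base x')).hom).toAlgebra
    haveI : IsScalarTower (S.presheaf.stalk (f.base (g'.base x'))) (X.presheaf.stalk (g'.base x'))
      (X'.presheaf.stalk x') := .of_algebraMap_eq fun _ => rfl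
    haveI : IsScalarTower (S.presheaf.stalk (f.base (g'.base x'))) (S'.presheaf.stalk (f'.base x'))
      (X'.presheaf.stalk x') := .of_algebraMap_eq fun r =>
        (congr($(congrArg CommRingCat.Hom.hom (baseStalkMap_comp f f' g g' w x')) r)).symm
    (Function.Bijective (stalkLin c x') ↔
      IsBaseChange (X'.presheaf.stalk x')
        (KaehlerDifferential.map (S.presheaf.stalk (f.base (g'.base x'))) (S'.presheaf.stalk (f'.base x'))
          (X.presheaf.stalk (g'.base x')) (X'.presheaf.stalk x'))) := by
  letI : Algebra (S.presheaf.stalk (f.base (g'.base x'))) (S'.presheaf.stalk (f'.base x')) :=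
    (baseStalkMap f f' g g' w x').hom.toAlgebra
  letI : Algebra (S.presheaf.stalk (f.base (g'.base x'))) (X'.presheaf.stalk x') :=
    ((g'.stalkMap x').hom.comp (f.stalkMap (g'.base x')).hom).toAlgebra
  haveI : IsScalarTower (S.presheaf.stalk (f.base (g'.base x'))) (X.presheaf.stalk (g'.base x'))
    (X'.presheaf.stalk x') := .of_algebraMap_eq fun _ => rfl
  haveI : IsScalarTower (S.presheaf.stalk (f.base (g'.base x'))) (S'.presheaf.stalk (f'.base x'))
    (X'.presheaf.stalk x') := .of_algebraMap_eq fun r =>
      (congr($(congrArg CommRingCat.Hom.hom (baseStalkMap_comp f f' g g' w x')) r)).symm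
  obtain ⟨e, he⟩ := exists_stalkEquiv d hd (g'.base x')
  obtain ⟨e', he'⟩ := exists_stalkEquiv d' hd' x'
  rw [isBaseChange_iff_bijective]
  let P := pullStalkEquiv g' Ω x'
  let T := LinearEquiv.baseChange (R := X.presheaf.stalk (g'.base x')) (A := X'.presheaf.stalk x') _ _ e
  have hkey : ∀ z, e' (stalkLin c x' (P (T.symm z))) =
      LinearMap.liftBaseChange (X'.presheaf.stalk x')
        (KaehlerDifferential.map (S.presheaf.stalk (f.base (g'.base x'))) (S'.presheaf.stalk (f'.base x'))
          (X.presheaf.stalk (g'.base x')) (X'.presheaf.stalk x')) z := by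
    intro z
    induction z using TensorProduct.induction_on with
    | zero => simp
    | add a b ha hb => simp only [map_add, ha, hb]
    | tmul b' ω =>
      rw [LinearMap.liftBaseChange_tmul]
      have h1 : T.symm (b' ⊗ₜ ω) = b' • ((1 : X'.presheaf.stalk x') ⊗ₜ e.symm ω) := by
        rw [TensorProduct.smul_tmul', smul_eq_mul, mul_one]
        rfl
      rw [h1, map_smul, map_smul, map_smul]
      clear h1
      congr 1
      have hω : ω ∈ Submodule.span (X.presheaf.stalk (g'.base x'))
          (Set.range (KaehlerDifferential.D (S.presheaf.stalk (f.base (g'.base x')))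
            (X.presheaf.stalk (g'.base x')))) := by
        rw [KaehlerDifferential.span_range_derivation]; trivial
      induction hω using Submodule.span_induction with
      | zero => simp
      | add a b _ _ ha hb =>
        rw [LinearEquiv.map_add, TensorProduct.tmul_add, LinearEquiv.map_add, LinearMap.map_add,
          LinearEquiv.map_add, ha, hb, LinearMap.map_add]
      | smul r a _ ha =>
        have h2 : (1 : X'.presheaf.stalk x') ⊗ₜ[X.presheaf.stalk (g'.base x')] e.symm (r • a) =
            algebraMap (X.presheaf.stalk (g'.base x')) (X'.presheaf.stalk x') r •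
              ((1 : X'.presheaf.stalk x') ⊗ₜ e.symm a) := by
          rw [map_smul, TensorProduct.tmul_smul, algebraMap_smul]
        rw [h2, map_smul, map_smul, map_smul, ha, map_smul, algebraMap_smul]
      | mem a ha =>
        obtain ⟨t, rfl⟩ := ha
        obtain ⟨U, hU, s, rfl⟩ := X.presheaf.exists_germ_eq t
        rw [← he U hU s, LinearEquiv.symm_apply_apply,
          show P ((1 : X'.presheaf.stalk x') ⊗ₜ Ω.presheaf.germ U (g'.base x') hU (d.app U s)) =
            ((Scheme.Modules.pullback g').obj Ω).presheaf.germ (g' ⁻¹ᵁ U) x' hU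
              (OmegaSh.pullSect g' Ω U (d.app U s)) from
            (pullStalkLin_tmul g' Ω x' 1 _).trans ((one_smul _ _).trans (pullStalk_germ g' Ω x' U hU _)),
          stalkLin_germ, hc U s, he' (g' ⁻¹ᵁ U) hU, he U hU s, KaehlerDifferential.map_D]
        congr 1
        exact (Scheme.Hom.germ_stalkMap_apply g' U x' hU s).symm
  constructor
  · intro h
    have : Function.Bijective (fun z => e' (stalkLin c x' (P (T.symm z)))) :=
      e'.bijective.comp (h.comp (P.bijective.comp T.symm.bijective))
    rwa [funext hkey] at this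
  · intro h
    have h2 : Function.Bijective (fun z => e' (stalkLin c x' (P (T.symm z)))) := by rwa [funext hkey]
    have h3 : (stalkLin c x' : _ → _) =
        e'.symm ∘ (fun z => e' (stalkLin c x' (P (T.symm z)))) ∘ (T ∘ P.symm) := by
      funext m
      simp
    rw [h3]
    exact e'.symm.bijective.comp (h2.comp (T.bijective.comp P.symm.bijective))

/-- A morphism of modules bijective on stalks is an isomorphism. -/
theorem isIso_of_bijective_stalkLin {M N : X.Modules} (φ : M ⟶ N)
    (h : ∀ x, Function.Bijective (stalkLin φ x)) : IsIso φ :=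
  H17.PushColim.isIso_of_stalkAb φ fun x => (ConcreteCategory.isIso_iff_bijective _).2 (h x)

end Groth.Agent.H29Omega
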