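import Groth.Agent.H06Mod.StalkPullback
import Groth.Agent.H06Mod.StalkExact
import Mathlib

/-!
# Stalks of the receptacle of a universal derivation are modules of differentials
-/

set_option autoImplicit false
set_option linter.style.haveILetI false
set_option maxHeartbeats 400000
universe u

open CategoryTheory CategoryTheory.Limits AlgebraicGeometry TopologicalSpace Opposite TensorProduct

namespace Groth.Agent.H29Omega

open Groth.Agent.H06Mod

attribute [local instance] Groth.Agent.H06Mod.stalkAlgebra

variable {X S : Scheme.{u}}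

/-- The derivation into the skyscraper with value the differentials of the local rings. -/
noncomputable def skyDer (f : X ⟶ S) (x : X) :
    OmegaSh.Der f (sky x (KaehlerDifferential (S.presheaf.stalk (f.base x)) (X.presheaf.stalk x))) where
  d {U} :=
    { toFun := fun (s : Γ(X, U.unop)) (h : ULift.{u} (PLift (x ∈ U.unop))) =>
        KaehlerDifferential.D (S.presheaf.stalk (f.base x)) (X.presheaf.stalk x)
          (X.presheaf.germ U.unop x h.down.down s)
      map_zero' := funext fun h => by
        show KaehlerDifferential.D _ _ (X.presheaf.germ U.unop x h.down.down 0) = 0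
        rw [map_zero, map_zero]
      map_add' := fun a b => funext fun h => by
        show KaehlerDifferential.D _ _ (X.presheaf.germ U.unop x h.down.down (a + b)) = _
        rw [map_add, map_add]
        rfl }
  d_mul {U} a b := funext fun h => by
    change KaehlerDifferential.D _ _ (X.presheaf.germ U.unop x h.down.down ((show Γ(X, U.unop) from a) * b)) = _
    rw [map_mul, Derivation.leibniz]
    rfl
  d_map {U V} i a := funext fun h =>
    congrArg (KaehlerDifferential.D (S.presheaf.stalk (f.base x)) (X.presheaf.stalk x))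
      (X.presheaf.germ_res_apply' i x h.down.down a)
  d_app {W} c := funext fun h => by
    obtain ⟨W⟩ := W
    change KaehlerDifferential.D _ _ (X.presheaf.germ (f ⁻¹ᵁ W) x h.down.down (f.app W c)) = 0
    rw [← Scheme.Hom.germ_stalkMap_apply f W x h.down.down c]
    exact Derivation.map_algebraMap _ _

/-- The stalk of the receptacle of a universal derivation is the module of differentials of the local rings. -/
theorem exists_stalkEquiv {f : X ⟶ S} {Ω : X.Modules} (d : OmegaSh.Der f Ω) (hd : OmegaSh.IsUniversal d)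
    (x : X) :
    ∃ e : Ω.presheaf.stalk x ≃ₗ[X.presheaf.stalk x]
        KaehlerDifferential (S.presheaf.stalk (f.base x)) (X.presheaf.stalk x),
      ∀ (U : X.Opens) (hx : x ∈ U) (s : Γ(X, U)),
        e (Ω.presheaf.germ U x hx (d.app U s)) =
          KaehlerDifferential.D (S.presheaf.stalk (f.base x)) (X.presheaf.stalk x)
            (X.presheaf.germ U x hx s) := by
  let K := KaehlerDifferential (S.presheaf.stalk (f.base x)) (X.presheaf.stalk x)
  let M := Ω.presheaf.stalk x
  obtain ⟨α, hα, -⟩ := hd _ (skyDer f x)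
  let ψ : M →ₗ[X.presheaf.stalk x] K :=
    { toFun := fun m => stalkOfHom α m
      map_add' := fun a b => map_add _ a b
      map_smul' := fun r m => stalkOfHom_smul α r m }
  have hψ : ∀ (U : X.Opens) (hx : x ∈ U) (s : Γ(X, U)),
      ψ (Ω.presheaf.germ U x hx (d.app U s)) = KaehlerDifferential.D _ _ (X.presheaf.germ U x hx s) := by
    intro U hx s
    refine (stalkOfHom_germ α U hx _).trans ?_
    exact congrArg (skyEval x K U hx) (PresheafOfModules.Derivation.congr_d hα (X := op U) s)
  -- the derivation on germs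
  have hwd : ∀ (U V : X.Opens) (hU : x ∈ U) (hV : x ∈ V) (s : Γ(X, U)) (t : Γ(X, V)),
      X.presheaf.germ U x hU s = X.presheaf.germ V x hV t →
      Ω.presheaf.germ U x hU (d.app U s) = Ω.presheaf.germ V x hV (d.app V t) := by
    intro U V hU hV s t hst
    obtain ⟨W, hW, iU, iV, e⟩ := X.presheaf.germ_eq x hU hV s t hst
    rw [← Ω.presheaf.germ_res_apply iU x hW, ← Ω.presheaf.germ_res_apply iV x hW]
    exact congrArg _ ((d.d_map iU.op s).symm.trans ((congrArg (d.d (X := op W)) e).trans (d.d_map iV.op t)))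
  choose U₀ hU₀ s₀ hs₀ using fun t : X.presheaf.stalk x => X.presheaf.exists_germ_eq t
  let δf : X.presheaf.stalk x → M := fun t => Ω.presheaf.germ (U₀ t) x (hU₀ t) (d.app (U₀ t) (s₀ t))
  have hδ : ∀ (U : X.Opens) (hU : x ∈ U) (s : Γ(X, U)),
      δf (X.presheaf.germ U x hU s) = Ω.presheaf.germ U x hU (d.app U s) := fun U hU s =>
    hwd _ _ _ _ _ _ (hs₀ _)
  have hpair : ∀ a b : X.presheaf.stalk x, ∃ (U : X.Opens) (hU : x ∈ U) (s t : Γ(X, U)),
      a = X.presheaf.germ U x hU s ∧ b = X.presheaf.germ U x hU t := fun a b =>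
    ⟨U₀ a ⊓ U₀ b, ⟨hU₀ a, hU₀ b⟩, X.presheaf.map (homOfLE inf_le_left).op (s₀ a),
      X.presheaf.map (homOfLE inf_le_right).op (s₀ b),
      (hs₀ a).symm.trans (X.presheaf.germ_res_apply _ _ _ _).symm,
      (hs₀ b).symm.trans (X.presheaf.germ_res_apply _ _ _ _).symm⟩
  letI : Module (S.presheaf.stalk (f.base x)) M := Module.compHom M (f.stalkMap x).hom
  haveI : IsScalarTower (S.presheaf.stalk (f.base x)) (X.presheaf.stalk x) M :=
    .of_algebraMap_smul fun _ _ => rfl
  have hadd : ∀ a b, δf (a + b) = δf a + δf b := fun a b => by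
    obtain ⟨U, hU, s, t, rfl, rfl⟩ := hpair a b
    rw [← map_add, hδ, hδ, hδ, map_add]
    exact map_add _ _ _
  have hmul : ∀ a b, δf (a * b) = a • δf b + b • δf a := fun a b => by
    obtain ⟨U, hU, s, t, rfl, rfl⟩ := hpair a b
    rw [← map_mul, hδ, hδ, hδ, ← H06Mod.germ_smul Ω U hU, ← H06Mod.germ_smul Ω U hU]
    exact (congrArg (Ω.presheaf.germ U x hU) (d.d_mul (X := op U) s t)).trans (map_add _ _ _)
  have halg : ∀ c : S.presheaf.stalk (f.base x), δf (algebraMap _ (X.presheaf.stalk x) c) = 0 := fun c => by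
    obtain ⟨W, hW, c, rfl⟩ := S.presheaf.exists_germ_eq c
    show δf ((f.stalkMap x).hom (S.presheaf.germ W (f.base x) hW c)) = 0
    rw [Scheme.Hom.germ_stalkMap_apply, hδ]
    exact (congrArg (Ω.presheaf.germ (f ⁻¹ᵁ W) x hW) (d.d_app (X := op W) c)).trans (map_zero _)
  let δ : Derivation (S.presheaf.stalk (f.base x)) (X.presheaf.stalk x) M := Derivation.mk'
    { toFun := δf
      map_add' := hadd
      map_smul' := fun c a => by
        show δf (c • a) = c • δf a
        rw [Algebra.smul_def, hmul, halg, smul_zero, add_zero, algebraMap_smul] } hmul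
  let φ : K →ₗ[X.presheaf.stalk x] M := δ.liftKaehlerDifferential
  have hφ : ∀ t, φ (KaehlerDifferential.D _ _ t) = δf t := fun t => δ.liftKaehlerDifferential_comp_D t
  have h1 : ψ.comp φ = LinearMap.id := by
    refine Derivation.liftKaehlerDifferential_unique _ _ (Derivation.ext fun t => ?_)
    show ψ (φ (KaehlerDifferential.D _ _ t)) = KaehlerDifferential.D _ _ t
    rw [hφ]
    exact (hψ _ _ _).trans (congrArg _ (hs₀ t))
  have h2 : φ.comp ψ = LinearMap.id := by
    let G₁ : Ω ⟶ sky x M := homOfStalk (F := Ω) (φ.comp ψ)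
    let G₂ : Ω ⟶ sky x M := homOfStalk (F := Ω) (LinearMap.id)
    have heq : G₁ = G₂ := by
      obtain ⟨γ, -, huniq⟩ := hd _ (d.postcomp G₂.val)
      refine (huniq G₁ ?_).trans (huniq G₂ rfl).symm
      ext ⟨U⟩ s
      refine skyEval_ext (N := M) x fun hx => ?_
      show skyEval x M U hx ((homOfStalk (F := Ω) (φ.comp ψ)).app U (d.app U s)) =
        skyEval x M U hx ((homOfStalk (F := Ω) LinearMap.id).app U (d.app U s))
      rw [skyEval_homOfStalk, skyEval_homOfStalk, LinearMap.comp_apply, hψ, hφ, hδ]
      rfl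
    refine LinearMap.ext fun m => ?_
    obtain ⟨U, hx, m, rfl⟩ := Ω.presheaf.exists_germ_eq m
    have e1 := skyEval_homOfStalk (F := Ω) (φ.comp ψ) U hx m
    have e2 := skyEval_homOfStalk (F := Ω) (LinearMap.id : M →ₗ[X.presheaf.stalk x] M) U hx m
    exact (e1.symm.trans (congrArg (fun G : Ω ⟶ sky x M => skyEval x M U hx (G.app U m)) heq)).trans e2
  exact ⟨LinearEquiv.ofLinearMap ψ φ h1 h2, hψ⟩

end Groth.Agent.H29Omega
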