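import Groth.Prelude.Def_Omega3

/-!
Universal first order thickenings of formally unramified algebras.
-/

universe u

open MvPolynomial

namespace H29Omega

variable (R : Type u) [CommRing R] {σ : Type u} {A : Type u} [CommRing A] [Algebra R A]

/-- First order Taylor formula. -/
theorem aeval_add (t h : σ → A) (hh : ∀ i j, h i * h j = 0) (g : MvPolynomial σ R) :
    aeval (t + h) g = aeval t g +
      Finsupp.linearCombination A h (mkDerivation R
        (fun i : σ => (Finsupp.single i (1 : MvPolynomial σ R))) g |>.mapRange (aeval t) (map_zero _)) := by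
  classical
  set D := mkDerivation R (fun i : σ => (Finsupp.single i (1 : MvPolynomial σ R))) with hD
  set L : (σ →₀ MvPolynomial σ R) →+ A :=
    ((Finsupp.linearCombination A h).toAddMonoidHom).comp
      (Finsupp.mapRange.addMonoidHom (aeval (R := R) t).toRingHom.toAddMonoidHom) with hL
  have hLapply : ∀ v, L v = Finsupp.linearCombination A h (v.mapRange (aeval t) (map_zero _)) := fun v => rfl
  have hLsmul : ∀ (p : MvPolynomial σ R) v, L (p • v) = aeval t p * L v := fun p v => by
    rw [hLapply, hLapply, ← smul_eq_mul, ← map_smul]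
    congr 1
    ext i
    simp
  have hsq : ∀ v j, L v * h j = 0 := fun v j => by
    rw [hLapply, Finsupp.linearCombination_apply, Finsupp.sum, Finset.sum_mul]
    exact Finset.sum_eq_zero fun i _ => by rw [smul_eq_mul, mul_assoc, hh, mul_zero]
  rw [← hLapply]
  induction g using MvPolynomial.induction_on with
  | C a => rw [show C a = algebraMap R (MvPolynomial σ R) a from rfl, Derivation.map_algebraMap, map_zero, add_zero, AlgHom.commutes, AlgHom.commutes]
  | add p q hp hq => simp only [map_add, hp, hq]; abel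
  | mul_X p i hp =>
    have hX : L (D (X i)) = h i := by
      rw [hD, mkDerivation_X, hLapply]
      simp
    rw [Derivation.leibniz, map_add, hLsmul, hLsmul, hX, map_mul, map_mul, hp,
      aeval_X, aeval_X, Pi.add_apply]
    linear_combination hsq (D p) i

variable (S : Type u) [CommRing S] [Algebra R S]

/-- Formal unramifiedness in polynomial coordinates. -/
theorem exists_coordinate [Algebra.FormallyUnramified R S] (π : MvPolynomial σ R →ₐ[R] S)
    (hπ : Function.Surjective π) (i : σ) :
    ∃ g, π g = 0 ∧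
      (mkDerivation R (fun i : σ => (Finsupp.single i (1 : MvPolynomial σ R))) g).mapRange π (map_zero _) =
        Finsupp.single i (1 : S) := by
  classical
  let P := MvPolynomial σ R
  letI : Algebra P S := π.toRingHom.toAlgebra
  haveI : IsScalarTower R P S := .of_algebraMap_eq fun r => (π.commutes r).symm
  let q : (σ →₀ P) →ₗ[P] (σ →₀ S) := Finsupp.mapRange.linearMap (Algebra.linearMap P S)
  let D0 : Derivation R P (σ →₀ S) :=
    q.compDer (mkDerivation R (fun i : σ => (Finsupp.single i (1 : P))))
  let M : Submodule S (σ →₀ S) :=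
    { carrier := {m | ∃ g : P, π g = 0 ∧ D0 g = m}
      add_mem' := by
        rintro a b ⟨g, hg, rfl⟩ ⟨g', hg', rfl⟩
        exact ⟨g + g', by rw [map_add, hg, hg', add_zero], map_add _ _ _⟩
      zero_mem' := ⟨0, map_zero _, map_zero _⟩
      smul_mem' := by
        rintro s a ⟨g, hg, rfl⟩
        obtain ⟨p, rfl⟩ := hπ s
        refine ⟨p * g, by rw [map_mul, hg, mul_zero], ?_⟩
        rw [Derivation.leibniz, ← algebraMap_smul S g, show algebraMap P S g = 0 from hg, zero_smul,
          add_zero, ← algebraMap_smul S p]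
        rfl }
  suffices h : D0 (X i) ∈ M by
    obtain ⟨g, hg, hgeq⟩ := h
    refine ⟨g, hg, hgeq.trans ?_⟩
    change q (mkDerivation R _ (X i)) = _
    rw [mkDerivation_X]
    exact (Finsupp.mapRange_single (f := fun x => algebraMap P S x) (hf := map_zero _)).trans
      (congrArg _ (map_one π))
  have hker : ∀ a b : P, π a = π b → M.mkQ (D0 a) = M.mkQ (D0 b) := fun a b hab => by
    rw [Submodule.mkQ_apply, Submodule.mkQ_apply, Submodule.Quotient.eq]
    exact ⟨a - b, by rw [map_sub, hab, sub_self], map_sub _ _ _⟩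
  have hπ' := hπ
  choose sec hsec using hπ'
  let lin : S →ₗ[R] (σ →₀ S) ⧸ M :=
    { toFun := fun s => M.mkQ (D0 (sec s))
      map_add' := fun s s' => by
        rw [← map_add, ← map_add D0]; exact hker _ _ (by rw [hsec, map_add, hsec, hsec])
      map_smul' := fun r s => by
        rw [RingHom.id_apply, ← LinearMap.map_smul_of_tower, ← Derivation.map_smul]
        exact hker _ _ (by rw [hsec, map_smul, hsec]) }
  let δ : Derivation R S ((σ →₀ S) ⧸ M) :=
    Derivation.mk' lin (fun a b => by
      change M.mkQ (D0 (sec (a * b))) = a • M.mkQ (D0 (sec b)) + b • M.mkQ (D0 (sec a))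
      rw [hker (sec (a * b)) (sec a * sec b) (by rw [hsec, map_mul, hsec, hsec]), Derivation.leibniz,
        ← algebraMap_smul S (sec a), ← algebraMap_smul S (sec b), map_add, map_smul, map_smul,
        show algebraMap P S (sec a) = a from hsec a, show algebraMap P S (sec b) = b from hsec b])
  have h0 : δ (π (X i)) = 0 := by
    rw [← δ.liftKaehlerDifferential_comp_D, Subsingleton.elim (KaehlerDifferential.D R S (π (X i))) 0, map_zero]
  have h1 : M.mkQ (D0 (X i)) = 0 := (hker _ _ (hsec _).symm).trans h0
  exact (Submodule.Quotient.mk_eq_zero M).mp h1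

/-- A universal first order thickening exists for a formally unramified algebra. -/
theorem exists_univThickening [Algebra.FormallyUnramified R S] :
    ∃ (S' : Type u) (_ : CommRing S') (_ : Algebra R S') (π : S' →ₐ[R] S),
      OmegaSh.IsUnivThickeningRing R S S' π := by
  classical
  let P := MvPolynomial S R
  let π : P →ₐ[R] S := aeval id
  have hX : ∀ s, π (X s) = s := fun s => MvPolynomial.aeval_X (id : S → S) s
  have hπ : Function.Surjective π := fun s => ⟨X s, hX s⟩
  choose g hg hgd using exists_coordinate R S π hπ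
  let J : Ideal P := RingHom.ker π.toRingHom
  let K : Ideal P := J ^ 2 ⊔ Ideal.span (Set.range g)
  have hKJ : K ≤ J := sup_le (Ideal.pow_le_self two_ne_zero) (Ideal.span_le.mpr fun _ ⟨s, hs⟩ => hs ▸ hg s)
  let π' : P ⧸ K →ₐ[R] S := Ideal.Quotient.liftₐ K π hKJ
  have hker : RingHom.ker π'.toRingHom = J.map (Ideal.Quotient.mk K) :=
    (Ideal.ker_quotient_lift (f := π.toRingHom) hKJ).trans rfl
  refine ⟨P ⧸ K, inferInstance, inferInstance, π', ?_, ?_, ?_⟩
  · intro s; obtain ⟨p, hp⟩ := hπ s; exact ⟨Ideal.Quotient.mk K p, hp⟩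
  · rw [hker, ← Ideal.map_pow, eq_bot_iff, Ideal.map_le_iff_le_comap]
    intro x hx
    exact Ideal.Quotient.eq_zero_iff_mem.mpr (Submodule.mem_sup_left hx)
  intro A _ _ I hI a
  have hmul : ∀ x ∈ I, ∀ y ∈ I, x * y = 0 := fun x hx y hy => by
    have := Ideal.mul_mem_mul hx hy
    rw [← pow_two, hI] at this
    exact this
  choose t ht using fun s : S => Ideal.Quotient.mk_surjective (a s)
  have hcomp : ∀ (t : S → A), (∀ s, Ideal.Quotient.mk I (t s) = a s) →
      ∀ p : P, Ideal.Quotient.mk I (aeval t p) = a (π p) := fun t ht p => by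
    have : ((Ideal.Quotient.mkₐ R I).comp (aeval t)) = a.comp π :=
      MvPolynomial.algHom_ext fun s => by
        change Ideal.Quotient.mk I (aeval t (X s : MvPolynomial S R)) = a (π (X s))
        rw [hX, MvPolynomial.aeval_X, ht]
    exact AlgHom.congr_fun this p
  have hJI : ∀ (t : S → A), (∀ s, Ideal.Quotient.mk I (t s) = a s) → ∀ p ∈ J, aeval t p ∈ I :=
    fun t ht p hp => Ideal.Quotient.eq_zero_iff_mem.mp (by rw [hcomp t ht, show π p = 0 from hp, map_zero])
  have key : ∀ (t h : S → A), (∀ s, Ideal.Quotient.mk I (t s) = a s) → (∀ s, h s ∈ I) →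
      ∀ s, aeval (t + h) (g s) = aeval t (g s) + h s := by
    intro t h ht hh s
    rw [aeval_add R t h fun i j => hmul _ (hh i) _ (hh j), Finsupp.linearCombination_apply]
    congr 1
    set v := mkDerivation R (fun i : S => (Finsupp.single i (1 : P))) (g s)
    rw [Finsupp.sum_mapRange_index fun b => by simp]
    have hv : ∀ j, π (v j) = (Finsupp.single s (1 : S)) j := fun j => DFunLike.congr_fun (hgd s) j
    have hterm : ∀ j, aeval t (v j) • h j = if j = s then h j else 0 := by
      intro j
      rw [smul_eq_mul]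
      split_ifs with hj
      · subst hj
        have hv1 : π (v j - 1) = 0 := by rw [map_sub, hv, Finsupp.single_eq_same, map_one, sub_self]
        have := hmul _ (hJI t ht _ hv1) _ (hh j)
        rwa [map_sub, map_one, sub_mul, one_mul, sub_eq_zero] at this
      · exact hmul _ (hJI t ht _ (show v j ∈ J from (hv j).trans (Finsupp.single_eq_of_ne hj))) _ (hh j)
    rw [Finsupp.sum, Finset.sum_congr rfl fun j _ => hterm j, Finset.sum_ite_eq']
    split_ifs with hs
    · rfl
    · rw [Finsupp.notMem_support_iff] at hs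
      have := hterm s
      rw [if_pos rfl, hs, map_zero, zero_smul] at this
      exact this
  let h : S → A := fun s => - aeval t (g s)
  have hh : ∀ s, h s ∈ I := fun s => neg_mem (hJI t ht _ (hg s))
  have ht' : ∀ s, Ideal.Quotient.mk I ((t + h) s) = a s := fun s => by
    rw [Pi.add_apply, map_add, ht, Ideal.Quotient.eq_zero_iff_mem.mpr (hh s), add_zero]
  have hK : K ≤ RingHom.ker (aeval (R := R) (t + h)).toRingHom := by
    refine sup_le ?_ (Ideal.span_le.mpr ?_)
    · rw [pow_two, Ideal.mul_le]
      intro x hx y hy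
      change aeval (t + h) (x * y) = 0
      rw [map_mul]
      exact hmul _ (hJI _ ht' x hx) _ (hJI _ ht' y hy)
    · rintro _ ⟨s, rfl⟩
      change aeval (t + h) (g s) = 0
      rw [key t h ht hh]
      simp [h]
  refine ⟨Ideal.Quotient.liftₐ K (aeval (t + h)) hK, ?_, fun b hb => ?_⟩
  · refine Ideal.Quotient.algHom_ext _ (MvPolynomial.algHom_ext fun s => ?_)
    change Ideal.Quotient.mk I (aeval (t + h) (X s : MvPolynomial S R)) = a (π (X s))
    rw [hX, MvPolynomial.aeval_X]; exact ht' s
  · refine Ideal.Quotient.algHom_ext _ (MvPolynomial.algHom_ext fun s => ?_)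
    let t₁ : S → A := fun s => b (Ideal.Quotient.mk K (X s))
    have ht₁ : ∀ s, Ideal.Quotient.mk I (t₁ s) = a s := fun s => by
      have := AlgHom.congr_fun hb (Ideal.Quotient.mk K (X s))
      exact this.trans (congrArg a (hX s))
    have hb0 : ∀ p : P, aeval t₁ p = b (Ideal.Quotient.mk K p) := fun p =>
      AlgHom.congr_fun (show aeval t₁ = b.comp (Ideal.Quotient.mkₐ R K) from
        MvPolynomial.algHom_ext fun s => by simp [t₁]) p
    let d : S → A := t₁ - (t + h)
    have hd : ∀ s, d s ∈ I := fun s => by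
      rw [← Ideal.Quotient.eq_zero_iff_mem]
      simp only [d, Pi.sub_apply, map_sub, ht₁, ht', sub_self]
    have e1 := key (t + h) d ht' hd s
    rw [show (t + h) + d = t₁ from add_sub_cancel _ _, hb0, key t h ht hh,
      show Ideal.Quotient.mk K (g s) = 0 from Ideal.Quotient.eq_zero_iff_mem.mpr
        (Submodule.mem_sup_right (Ideal.subset_span ⟨s, rfl⟩)), map_zero] at e1
    have e2 : d s = 0 := by simpa [h] using e1.symm
    have e3 : t₁ s = (t + h) s := sub_eq_zero.mp e2
    exact e3.trans (MvPolynomial.aeval_X (t + h) s).symm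

/-- Being a universal thickening of a localization on the source. -/
theorem isUnivThickeningRing_of_localization {A B B' : Type u} [CommRing A] [CommRing B] [CommRing B']
    [Algebra A B] [Algebra A B'] {π : B' →ₐ[A] B}
    (hπ : OmegaSh.IsUnivThickeningRing A B B' π) (M : Submonoid B')
    {A' BS B'S : Type u} [CommRing A'] [CommRing BS] [CommRing B'S] [Algebra A A']
    [Algebra B BS] [IsLocalization (M.map π.toRingHom) BS]
    [Algebra B' B'S] [IsLocalization M B'S]
    [Algebra A' BS] [Algebra A BS] [IsScalarTower A A' BS] [IsScalarTower A B BS]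
    [Algebra A' B'S] [Algebra A B'S] [IsScalarTower A A' B'S] [IsScalarTower A B' B'S]
    (hA' : ∀ (C : Type u) [CommRing C] [Algebra A' C] (f g : B'S →ₐ[A'] C),
      f.toRingHom.comp (algebraMap B' B'S) = g.toRingHom.comp (algebraMap B' B'S) → f = g)
    (hA'' : ∀ (C : Type u) [CommRing C] [Algebra A' C] (f : B'S →+* C),
      (∀ r : A, f (algebraMap A B'S r) = algebraMap A' C (algebraMap A A' r)) →
        ∀ r : A', f (algebraMap A' B'S r) = algebraMap A' C r)
    (πS : B'S →ₐ[A'] BS) (hπS : ∀ x : B', πS (algebraMap B' B'S x) = algebraMap B BS (π x)) :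
    OmegaSh.IsUnivThickeningRing A' BS B'S πS := by
  obtain ⟨hsurj, hsq, huniv⟩ := hπ
  refine ⟨fun y => ?_, ?_, fun C _ _ I hI a => ?_⟩
  · obtain ⟨⟨b, ⟨_, m, hm, rfl⟩⟩, hb⟩ := IsLocalization.surj (M.map π.toRingHom) y
    obtain ⟨b', rfl⟩ := hsurj b
    refine ⟨IsLocalization.mk' B'S b' ⟨m, hm⟩, ?_⟩
    have h1 : IsUnit (algebraMap B BS (π m)) :=
      IsLocalization.map_units BS (⟨π m, m, hm, rfl⟩ : M.map π.toRingHom)
    refine h1.mul_right_cancel ?_
    rw [← hπS, ← map_mul, IsLocalization.mk'_spec, hπS, hπS]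
    exact hb.symm
  · rw [eq_bot_iff, pow_two, Ideal.mul_le]
    intro x hx y hy
    have key : ∀ x ∈ RingHom.ker πS.toRingHom, ∃ (k : B') (u : B'S), π k = 0 ∧ x = algebraMap B' B'S k * u := by
      intro x hx
      obtain ⟨x, s, rfl⟩ := IsLocalization.exists_mk'_eq M x
      have h0 : algebraMap B BS (π x) = 0 := by
        rw [← hπS, ← IsLocalization.mk'_spec B'S x s, map_mul, show πS (IsLocalization.mk' B'S x s) = 0 from hx, zero_mul]
      obtain ⟨⟨_, m, hm, rfl⟩, h⟩ := (IsLocalization.map_eq_zero_iff (M.map π.toRingHom) BS _).mp h0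
      refine ⟨m * x, IsLocalization.mk' B'S 1 (⟨m, hm⟩ * s), by rw [map_mul]; exact h, ?_⟩
      rw [IsLocalization.mul_mk'_eq_mk'_of_mul, mul_one, IsLocalization.mk'_eq_iff_eq]
      simp [mul_comm, mul_left_comm]
    obtain ⟨k, u, hk, rfl⟩ := key x hx
    obtain ⟨l, v, hl, rfl⟩ := key y hy
    have hkl : k * l = 0 := by
      have := Ideal.mul_mem_mul (show k ∈ RingHom.ker π.toRingHom from hk) (show l ∈ RingHom.ker π.toRingHom from hl)
      rwa [← pow_two, hsq] at this
    rw [Ideal.mem_bot, mul_mul_mul_comm, ← map_mul, hkl, map_zero, zero_mul]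
  · letI : Algebra A C := ((algebraMap A' C).comp (algebraMap A A')).toAlgebra
    haveI : IsScalarTower A A' C := .of_algebraMap_eq fun _ => rfl
    let a₀ : B →ₐ[A] C ⧸ I := (a.restrictScalars A).comp (IsScalarTower.toAlgHom A B BS)
    obtain ⟨b, hb, hbu⟩ := huniv C I hI a₀
    have hb' : ∀ x, Ideal.Quotient.mk I (b x) = a (algebraMap B BS (π x)) := fun x => AlgHom.congr_fun hb x
    have hunit : ∀ m : M, IsUnit (b.toRingHom m) := by
      intro m
      have h1 : IsUnit (Ideal.Quotient.mk I (b m)) := by
        rw [hb']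
        exact (IsLocalization.map_units BS (⟨π m, m, m.2, rfl⟩ : M.map π.toRingHom)).map a
      obtain ⟨c, hc⟩ := Ideal.Quotient.mk_surjective (↑h1.unit⁻¹ : C ⧸ I)
      have h2 : b m * c - 1 ∈ I := Ideal.Quotient.eq.mp (by rw [map_mul, hc, IsUnit.mul_val_inv, map_one])
      have hn : IsNilpotent (b m * c - 1) := ⟨2, by
        have := Ideal.pow_mem_pow h2 2
        rwa [hI] at this⟩
      have h3 := hn.isUnit_one_add
      rw [add_sub_cancel] at h3
      exact isUnit_of_mul_isUnit_left h3
    let F : B'S →+* C := IsLocalization.lift hunit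
    have hF : ∀ x, F (algebraMap B' B'S x) = b x := IsLocalization.lift_eq hunit
    let F' : B'S →ₐ[A'] C :=
      { F with commutes' := hA'' C F (fun r => (congrArg F (IsScalarTower.algebraMap_apply A B' B'S r)).trans
          ((hF _).trans (b.commutes r))) }
    refine ⟨F', ?_, fun G hG => ?_⟩
    · refine hA' _ _ _ (RingHom.ext fun x => ?_)
      change Ideal.Quotient.mk I (F (algebraMap B' B'S x)) = a (πS (algebraMap B' B'S x))
      rw [hF, hπS, hb']
    · refine hA' _ _ _ (RingHom.ext fun x => ?_)
      have hG' : (G.restrictScalars A).comp (IsScalarTower.toAlgHom A B' B'S) = b := hbu _ (AlgHom.ext fun z => by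
        have := AlgHom.congr_fun hG (algebraMap B' B'S z)
        exact this.trans (congrArg a (hπS z)))
      exact (AlgHom.congr_fun hG' x).trans (hF x).symm

end H29Omega
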