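import Groth.Prelude.Def_Omega3
import Mathlib.Algebra.TrivSqZeroExt.Ideal
import Mathlib.RingTheory.Kaehler.Basic
import Mathlib.RingTheory.Unramified.Basic
import Mathlib.LinearAlgebra.TensorProduct.Quotient
import Mathlib.LinearAlgebra.TensorProduct.RightExactness

/-!
Derivations and differentials of universal first order thickenings.
-/

universe u

open TensorProduct

namespace H29Omega

variable {R A B : Type u} [CommRing R] [CommRing A] [CommRing B] [Algebra R A] [Algebra A B]
  {M : Type u} [AddCommGroup M] [Module R M] [Module A M] [Module B M] [Module Bᵐᵒᵖ M]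
  [IsCentralScalar B M] [IsScalarTower A B M] [IsScalarTower R A M]

variable (B) in
/-- `B ⊕ M` with the `A`-algebra structure twisted by a derivation. -/
def Twist (_δ : Derivation R A M) : Type u := TrivSqZeroExt B M

noncomputable instance (δ : Derivation R A M) : CommRing (Twist B δ) :=
  inferInstanceAs (CommRing (TrivSqZeroExt B M))

/-- The structure map of the twist. -/
def twistMap (δ : Derivation R A M) : A →+* TrivSqZeroExt B M where
  toFun a := (algebraMap A B a, δ a)
  map_one' := TrivSqZeroExt.ext (map_one _) δ.map_one_eq_zero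
  map_mul' a b := TrivSqZeroExt.ext (map_mul _ _ _) (by
    change δ (a * b) = algebraMap A B a • δ b + MulOpposite.op (algebraMap A B b) • δ a
    rw [op_smul_eq_smul, algebraMap_smul, algebraMap_smul, Derivation.leibniz])
  map_zero' := TrivSqZeroExt.ext (map_zero _) (map_zero δ)
  map_add' a b := TrivSqZeroExt.ext (map_add _ _ _) (map_add δ _ _)

noncomputable instance (δ : Derivation R A M) : Algebra A (Twist B δ) :=
  RingHom.toAlgebra (twistMap (B := B) δ : A →+* Twist B δ)

/-- Derivations extend uniquely to a universal thickening. -/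
theorem existsUnique_derivation_lift {B' : Type u} [CommRing B'] [Algebra A B'] [Algebra R B']
    [IsScalarTower R A B'] [Algebra B' B] [IsScalarTower A B' B] [Module B' M] [IsScalarTower B' B M]
    (h : OmegaSh.IsUnivThickeningRing A B B' (IsScalarTower.toAlgHom A B' B)) (δ : Derivation R A M) :
    ∃! D : Derivation R B' M, ∀ a, D (algebraMap A B' a) = δ a := by
  let π₀ : Twist B δ →ₐ[A] B :=
    { toFun := fun x => TrivSqZeroExt.fst x
      map_one' := rfl
      map_mul' := fun _ _ => rfl
      map_zero' := rfl
      map_add' := fun _ _ => rfl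
      commutes' := fun _ => rfl }
  have hπ₀ : Function.Surjective π₀ := fun b => ⟨(b, 0), rfl⟩
  let I : Ideal (Twist B δ) := RingHom.ker π₀
  have hI : I ^ 2 = ⊥ := by
    rw [pow_two, eq_bot_iff, Ideal.mul_le]
    intro x hx y hy
    have hx' : TrivSqZeroExt.fst x = 0 := hx
    have hy' : TrivSqZeroExt.fst y = 0 := hy
    refine Ideal.mem_bot.mpr (TrivSqZeroExt.ext ?_ ?_)
    · change TrivSqZeroExt.fst x * TrivSqZeroExt.fst y = 0
      rw [hx', zero_mul]
    · change TrivSqZeroExt.fst x • TrivSqZeroExt.snd y + MulOpposite.op (TrivSqZeroExt.fst y) • TrivSqZeroExt.snd x = (0 : M)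
      rw [hx', hy', zero_smul, MulOpposite.op_zero, zero_smul, add_zero]
  let e : (Twist B δ ⧸ I) ≃ₐ[A] B := Ideal.quotientKerAlgEquivOfSurjective hπ₀
  obtain ⟨b, hb, hbu⟩ := h.2.2 (Twist B δ) I hI e.symm.toAlgHom
  have hfst : ∀ x, TrivSqZeroExt.fst (b x) = algebraMap B' B x := fun x => by
    have := congrArg e (AlgHom.congr_fun hb x)
    exact this.trans (e.apply_symm_apply _)
  have hsc : ∀ (x : B') (m : M), algebraMap B' B x • m = x • m := fun x m => algebraMap_smul B x m
  let Dl : B' →ₗ[R] M :=
    { toFun := fun x => TrivSqZeroExt.snd (b x)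
      map_add' := fun x y => by rw [map_add]; rfl
      map_smul' := fun r x => by
        rw [RingHom.id_apply, Algebra.smul_def, map_mul, IsScalarTower.algebraMap_apply R A B', b.commutes]
        change algebraMap A B (algebraMap R A r) • TrivSqZeroExt.snd (b x) +
          MulOpposite.op (TrivSqZeroExt.fst (b x)) • δ (algebraMap R A r) = _
        rw [δ.map_algebraMap, smul_zero, add_zero, algebraMap_smul]
        rw [algebraMap_smul] }
  let D : Derivation R B' M := Derivation.mk' Dl fun x y => by
    change TrivSqZeroExt.snd (b (x * y)) = x • TrivSqZeroExt.snd (b y) + y • TrivSqZeroExt.snd (b x)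
    rw [map_mul]
    change TrivSqZeroExt.fst (b x) • TrivSqZeroExt.snd (b y) +
      MulOpposite.op (TrivSqZeroExt.fst (b y)) • TrivSqZeroExt.snd (b x) = _
    rw [hfst, hfst, op_smul_eq_smul, hsc, hsc]
  refine ⟨D, fun a => ?_, fun D₁ hD₁ => ?_⟩
  · change TrivSqZeroExt.snd (b (algebraMap A B' a)) = δ a
    rw [b.commutes]
    rfl
  let b₁ : B' →ₐ[A] Twist B δ :=
    { toFun := fun x => ((algebraMap B' B x, D₁ x) : TrivSqZeroExt B M)
      map_one' := TrivSqZeroExt.ext (map_one _) D₁.map_one_eq_zero
      map_mul' := fun x y => TrivSqZeroExt.ext (map_mul _ _ _) (by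
        change D₁ (x * y) = algebraMap B' B x • D₁ y + MulOpposite.op (algebraMap B' B y) • D₁ x
        rw [op_smul_eq_smul, hsc, hsc, Derivation.leibniz])
      map_zero' := TrivSqZeroExt.ext (map_zero _) (map_zero D₁)
      map_add' := fun x y => TrivSqZeroExt.ext (map_add _ _ _) (map_add D₁ _ _)
      commutes' := fun a => TrivSqZeroExt.ext (IsScalarTower.algebraMap_apply A B' B a).symm (hD₁ a) }
  have hb₁ : b₁ = b := hbu b₁ (AlgHom.ext fun x => e.injective ((e.apply_symm_apply _).symm ▸ rfl))
  refine Derivation.ext fun x => ?_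
  exact congrArg TrivSqZeroExt.snd (AlgHom.congr_fun hb₁ x)

section

variable {R A B B' : Type u} [CommRing R] [CommRing A] [CommRing B] [CommRing B'] [Algebra R A]
  [Algebra A B] [Algebra A B'] [Algebra R B'] [IsScalarTower R A B'] [Algebra B' B] [IsScalarTower A B' B]

omit [Algebra R A] [Algebra R B'] [IsScalarTower R A B'] in
/-- A universal thickening is formally unramified. -/
theorem formallyUnramified_univThickening
    (h : OmegaSh.IsUnivThickeningRing A B B' (IsScalarTower.toAlgHom A B' B)) :
    Algebra.FormallyUnramified A B' := by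
  let N := B ⊗[B'] Ω[B'⁄A]
  haveI : IsCentralScalar B N := inferInstance
  let D₀ : Derivation A B' N := ((TensorProduct.mk B' B (Ω[B'⁄A])) 1).compDer (KaehlerDifferential.D A B')
  have h0 : D₀ = 0 := (existsUnique_derivation_lift (R := A) (M := N) (B := B) h 0).unique
    (fun a => by rw [D₀.map_algebraMap]; rfl) (fun a => rfl)
  have hN : ∀ ω : Ω[B'⁄A], (1 : B) ⊗ₜ[B'] ω = 0 := by
    intro ω
    have hω : ω ∈ Submodule.span B' (Set.range (KaehlerDifferential.D A B')) := by
      rw [KaehlerDifferential.span_range_derivation]; trivial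
    induction hω using Submodule.span_induction with
    | mem ω hω => obtain ⟨x, rfl⟩ := hω; exact Derivation.congr_fun h0 x
    | zero => rw [tmul_zero]
    | add x y _ _ hx hy => rw [tmul_add, hx, hy, add_zero]
    | smul r x _ hx => rw [tmul_smul, hx, smul_zero]
  let K : Ideal B' := RingHom.ker (algebraMap B' B)
  have hK2 : K ^ 2 = ⊥ := h.2.1
  let eB : (B' ⧸ K) ≃ₗ[B'] B := (Submodule.quotEquivOfEq K (LinearMap.ker (Algebra.linearMap B' B)) rfl).trans
    (LinearMap.quotKerEquivOfSurjective (Algebra.linearMap B' B) h.1)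
  have htop : K • (⊤ : Submodule B' (Ω[B'⁄A])) = ⊤ := by
    refine eq_top_iff.mpr fun ω _ => ?_
    rw [← Submodule.Quotient.mk_eq_zero]
    have h1 : Ideal.Quotient.mk K 1 ⊗ₜ[B'] ω = 0 := by
      apply (eB.rTensor (Ω[B'⁄A])).injective
      rw [map_zero, LinearEquiv.rTensor_tmul]
      exact (congrArg (· ⊗ₜ[B'] ω) (map_one (algebraMap B' B))).trans (hN ω)
    have h2 := congrArg (TensorProduct.quotTensorEquivQuotSMul (Ω[B'⁄A]) K) h1
    rw [TensorProduct.quotTensorEquivQuotSMul_mk_tmul, one_smul, map_zero] at h2
    exact h2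
  refine ⟨subsingleton_of_forall_eq 0 fun ω => ?_⟩
  have h3 : (⊤ : Submodule B' (Ω[B'⁄A])) = ⊥ :=
    calc (⊤ : Submodule B' (Ω[B'⁄A])) = K • K • ⊤ := by rw [htop, htop]
      _ = ⊥ := by rw [← Submodule.mul_smul, ← pow_two, hK2, Submodule.bot_smul]
  exact (Submodule.mem_bot B').mp (h3 ▸ (trivial : ω ∈ (⊤ : Submodule B' (Ω[B'⁄A]))))

/-- Differentials of a universal thickening are those of the base. -/
theorem bijective_baseChange_mapBaseChange
    (h : OmegaSh.IsUnivThickeningRing A B B' (IsScalarTower.toAlgHom A B' B)) :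
    Function.Bijective ((KaehlerDifferential.mapBaseChange R A B').baseChange B) := by
  set f := (KaehlerDifferential.mapBaseChange R A B').baseChange B with hf
  letI : Algebra R B := ((algebraMap A B).comp (algebraMap R A)).toAlgebra
  haveI : IsScalarTower R A B := .of_algebraMap_eq fun _ => rfl
  haveI : IsScalarTower R B' B := .of_algebraMap_eq fun r => by
    rw [IsScalarTower.algebraMap_apply R A B', ← IsScalarTower.algebraMap_apply A B' B]; rfl
  let M := B ⊗[B'] (B' ⊗[A] Ω[A⁄R])
  haveI : IsCentralScalar B M := inferInstance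
  let δ : Derivation R A M :=
    ((((TensorProduct.mk B' B (B' ⊗[A] Ω[A⁄R])) 1).restrictScalars A).comp
      (TensorProduct.mk A B' (Ω[A⁄R]) 1)).compDer (KaehlerDifferential.D R A)
  obtain ⟨D, hD, -⟩ := existsUnique_derivation_lift (M := M) (B := B) h δ
  let g : B ⊗[B'] Ω[B'⁄R] →ₗ[B] M := D.liftKaehlerDifferential.liftBaseChange B
  have hfδ : ∀ a, f (δ a) = (1 : B) ⊗ₜ[B'] KaehlerDifferential.D R B' (algebraMap A B' a) := fun a => by
    change f ((1 : B) ⊗ₜ[B'] ((1 : B') ⊗ₜ[A] KaehlerDifferential.D R A a)) = _
    rw [hf, LinearMap.baseChange_tmul, KaehlerDifferential.mapBaseChange_tmul, one_smul,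
      KaehlerDifferential.map_D]
  have hgf : g.comp f = LinearMap.id := by
    refine TensorProduct.AlgebraTensorModule.curry_injective (LinearMap.ext_ring (LinearMap.ext fun y => ?_))
    change g (f ((1 : B) ⊗ₜ[B'] y)) = (1 : B) ⊗ₜ[B'] y
    induction y using TensorProduct.induction_on with
    | zero => rw [tmul_zero, map_zero, map_zero]
    | add y z hy hz => rw [tmul_add, map_add, map_add, hy, hz]
    | tmul c ω =>
      have hω : ω ∈ Submodule.span A (Set.range (KaehlerDifferential.D R A)) := by
        rw [KaehlerDifferential.span_range_derivation]; trivial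
      induction hω using Submodule.span_induction generalizing c with
      | zero => rw [tmul_zero, tmul_zero, map_zero, map_zero]
      | add y z _ _ hy hz => rw [tmul_add, tmul_add, map_add, map_add, hy, hz]
      | smul r y _ hy => rw [← smul_tmul]; exact hy _
      | mem ω hω =>
        obtain ⟨a, rfl⟩ := hω
        have hc : c ⊗ₜ[A] KaehlerDifferential.D R A a = c • ((1 : B') ⊗ₜ[A] KaehlerDifferential.D R A a) := by
          rw [smul_tmul', smul_eq_mul, mul_one]
        rw [hc, tmul_smul, ← algebraMap_smul B c, map_smul, map_smul]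
        congr 1
        change g (f (δ a)) = δ a
        rw [hfδ, LinearMap.liftBaseChange_tmul, one_smul, Derivation.liftKaehlerDifferential_comp_D, hD]
  have hfg : f.comp g = LinearMap.id := by
    refine TensorProduct.AlgebraTensorModule.curry_injective (LinearMap.ext_ring (LinearMap.ext fun y => ?_))
    change f (g ((1 : B) ⊗ₜ[B'] y)) = (1 : B) ⊗ₜ[B'] y
    let T := B ⊗[B'] Ω[B'⁄R]
    haveI : IsCentralScalar B T := inferInstance
    let d : Derivation R B' T := ((TensorProduct.mk B' B (Ω[B'⁄R])) 1).compDer (KaehlerDifferential.D R B')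
    have heq : (f.restrictScalars B').compDer D = d :=
      (existsUnique_derivation_lift (M := T) (B := B) h (d.compAlgebraMap A)).unique
        (fun a => by
          change f (D (algebraMap A B' a)) = _
          rw [hD, hfδ]; rfl)
        (fun a => rfl)
    have hy : y ∈ Submodule.span B' (Set.range (KaehlerDifferential.D R B')) := by
      rw [KaehlerDifferential.span_range_derivation]; trivial
    induction hy using Submodule.span_induction with
    | zero => rw [tmul_zero, map_zero, map_zero]
    | add y z _ _ hy hz => rw [tmul_add, map_add, map_add, hy, hz]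
    | smul r y _ hy => rw [tmul_smul, ← algebraMap_smul B r, map_smul, map_smul, hy]
    | mem y hy =>
      obtain ⟨x, rfl⟩ := hy
      rw [LinearMap.liftBaseChange_tmul, one_smul, Derivation.liftKaehlerDifferential_comp_D]
      exact Derivation.congr_fun heq x
  exact ⟨Function.LeftInverse.injective (g := g) fun x => LinearMap.congr_fun hgf x,
    Function.RightInverse.surjective (g := g) fun x => LinearMap.congr_fun hfg x⟩

end

end H29Omega
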