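import Groth.Prelude.Def_Omega3
import Groth.Prelude.Def_MoreMor
import Groth.Agent.H29Blow.Basic
import Groth.Agent.H29Omega.UnivThickDiff
import Mathlib

/-!
# First order thickenings of schemes: base change, restriction, passage to rings
-/

set_option autoImplicit false
set_option linter.style.haveILetI false
set_option maxHeartbeats 400000
universe u

open CategoryTheory CategoryTheory.Limits AlgebraicGeometry TopologicalSpace

namespace Groth.Agent.H29Omega

variable {Z Z' X : Scheme.{u}}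

/-- First order thickenings are stable under base change. -/
theorem fot_of_isPullback {i : Z ⟶ Z'} (hi : MoreMor.IsFirstOrderThickening i) {T' P : Scheme.{u}}
    {f : T' ⟶ Z'} {j : P ⟶ T'} {g : P ⟶ Z} (H : IsPullback j g f i) :
    MoreMor.IsFirstOrderThickening j := by
  obtain ⟨⟨hci, hsi⟩, hsq⟩ := hi
  haveI := hci
  refine ⟨⟨MorphismProperty.of_isPullback (P := @IsClosedImmersion) H.flip hci,
    MorphismProperty.of_isPullback (P := @Surjective) H.flip hsi⟩, ?_⟩
  have hker : j.ker = i.ker.comap f := by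
    rw [← H.isoPullback_hom_fst, Scheme.Hom.ker_comp_of_isIso,
      Scheme.IdealSheafData.ker_fst_of_isClosedImmersion]
  rw [hker, ← H29Blow.comap_mul, hsq, Scheme.IdealSheafData.comap_bot]

/-- Restriction of a first order thickening to an open. -/
theorem fot_resLE {i : Z ⟶ Z'} (hi : MoreMor.IsFirstOrderThickening i) (V' : Z'.Opens) (V : Z.Opens)
    (hV : i ⁻¹ᵁ V' = V) : MoreMor.IsFirstOrderThickening (i.resLE V' V hV.ge) := by
  subst hV
  have h : i.resLE V' (i ⁻¹ᵁ V') le_rfl = i ∣_ V' := by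
    rw [← cancel_mono V'.ι, Scheme.Hom.resLE_comp_ι, morphismRestrict_ι]
  rw [h]
  exact fot_of_isPullback hi (isPullback_morphismRestrict i V').flip.flip

theorem mem_of_fot {i : Z ⟶ Z'} {T T' : Scheme.{u}} {j : T ⟶ T'} (hj : MoreMor.IsFirstOrderThickening j)
    {a : T ⟶ Z} {a' : T' ⟶ Z'} (ha : j ≫ a' = a ≫ i) (O : Z'.Opens) (h : ∀ t, i (a t) ∈ O) (t' : T') :
    a' t' ∈ O := by
  obtain ⟨t, rfl⟩ := hj.1.2.surj t'
  have e : a' (j t) = i (a t) := by
    rw [← Scheme.Hom.comp_apply, ha, Scheme.Hom.comp_apply]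
  rw [e]; exact h t

/-- Restriction of a universal thickening to opens. -/
theorem isUnivThickening_resLE {h : Z ⟶ X} {i : Z ⟶ Z'} {h' : Z' ⟶ X}
    (hu : OmegaSh.IsUnivThickening h i h') (V : Z.Opens) (U : X.Opens) (hVU : V ≤ h ⁻¹ᵁ U)
    (V' : Z'.Opens) (hV' : i ⁻¹ᵁ V' = V) (hV'U : V' ≤ h' ⁻¹ᵁ U) :
    OmegaSh.IsUnivThickening (h.resLE U V hVU) (i.resLE V' V hV'.ge) (h'.resLE U V' hV'U) := by
  obtain ⟨hfot, hcomp, huniv⟩ := hu
  refine ⟨fot_resLE hfot V' V hV', ?_, fun T T' j b a hj hb => ?_⟩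
  · rw [← cancel_mono U.ι, Category.assoc, Scheme.Hom.resLE_comp_ι, Scheme.Hom.resLE_comp_ι,
      Scheme.Hom.resLE_comp_ι_assoc, hcomp]
  have hb' : j ≫ b ≫ U.ι = (a ≫ V.ι) ≫ h := by
    rw [← Category.assoc, hb, Category.assoc, Scheme.Hom.resLE_comp_ι, Category.assoc]
  obtain ⟨a', ⟨ha1, ha2⟩, huq⟩ := huniv T T' j (b ≫ U.ι) (a ≫ V.ι) hj hb'
  have hr : Set.range a' ⊆ Set.range V'.ι := by
    rintro _ ⟨t', rfl⟩
    rw [Scheme.Opens.range_ι]
    exact mem_of_fot hj ha1 V' (fun t => by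
      show (a ≫ V.ι) t ∈ i ⁻¹ᵁ V'
      rw [hV']; exact (a t).2) t'
  have hl := IsOpenImmersion.lift_fac V'.ι a' hr
  refine ⟨IsOpenImmersion.lift V'.ι a' hr, ⟨?_, ?_⟩, fun a'' ⟨h1, h2⟩ => ?_⟩
  · rw [← cancel_mono V'.ι, Category.assoc, hl, ha1, Category.assoc, Category.assoc, Scheme.Hom.resLE_comp_ι]
  · rw [← cancel_mono U.ι, Category.assoc, Scheme.Hom.resLE_comp_ι, ← Category.assoc, hl, ha2]
  · rw [← cancel_mono V'.ι, hl]
    refine huq _ ⟨?_, ?_⟩
    · rw [← Category.assoc, h1, Category.assoc, Scheme.Hom.resLE_comp_ι, Category.assoc]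
    · rw [Category.assoc, ← Scheme.Hom.resLE_comp_ι h' hV'U, ← Category.assoc, h2]

/-- `Spec (C/I) → Spec C` is a first order thickening when `I² = 0`. -/
theorem fot_Spec (C : Type u) [CommRing C] (I : Ideal C) (hI : I ^ 2 = ⊥) :
    MoreMor.IsFirstOrderThickening (Spec.map (CommRingCat.ofHom (Ideal.Quotient.mk I))) := by
  set φ := CommRingCat.ofHom (Ideal.Quotient.mk I) with hφ
  haveI hcl : IsClosedImmersion (Spec.map φ) := IsClosedImmersion.spec_of_surjective _ Ideal.Quotient.mk_surjective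
  refine ⟨⟨hcl, ⟨fun p => ?_⟩⟩, ?_⟩
  · have hle : I ≤ p.asIdeal := fun x hx => by
      have h2 : x ^ 2 = 0 := by rw [← Ideal.mem_bot, ← hI]; exact Ideal.pow_mem_pow hx 2
      exact p.isPrime.mem_of_pow_mem 2 (by rw [h2]; exact zero_mem _)
    let p' : PrimeSpectrum C := p
    have hr : p' ∈ Set.range (PrimeSpectrum.comap (Ideal.Quotient.mk I)) := by
      rw [range_comap_of_surjective _ _ Ideal.Quotient.mk_surjective]
      show ((RingHom.ker (Ideal.Quotient.mk I) : Ideal C) : Set C) ⊆ p'.asIdeal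
      rw [Ideal.mk_ker]
      exact hle
    exact hr
  · refine Scheme.IdealSheafData.ext_of_isAffine ?_
    rw [Scheme.IdealSheafData.ideal_mul, Pi.mul_apply, Scheme.IdealSheafData.ideal_bot, Pi.bot_apply,
      Scheme.Hom.ker_apply, ← le_bot_iff, Ideal.mul_le]
    intro x hx y hy
    rw [RingHom.mem_ker] at hx hy
    let e := (Scheme.ΓSpecIso (CommRingCat.of C)).hom
    have key : ∀ x, (Spec.map φ).app ⊤ x = 0 → e x ∈ I := by
      intro x hx
      have h := congr($(Scheme.ΓSpecIso_naturality φ) x)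
      rw [CommRingCat.comp_apply, CommRingCat.comp_apply] at h
      erw [hx, map_zero] at h
      exact Ideal.Quotient.eq_zero_iff_mem.1 h.symm
    rw [Ideal.mem_bot]
    apply (ConcreteCategory.bijective_of_isIso e).1
    rw [map_zero, map_mul, ← Ideal.mem_bot, ← hI, pow_two]
    exact Ideal.mul_mem_mul (key x hx) (key y hy)

theorem isAffineOpen_preimage {i : Z ⟶ Z'} (hi : MoreMor.IsFirstOrderThickening i) {V' : Z'.Opens}
    (hV' : IsAffineOpen V') : IsAffineOpen (i ⁻¹ᵁ V') :=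
  haveI := hi.1.1
  hV'.preimage i

/-- On affine charts a universal thickening gives a universal thickening of rings. -/
theorem isUnivThickeningRing_appLE {h : Z ⟶ X} {i : Z ⟶ Z'} {h' : Z' ⟶ X}
    (hu : OmegaSh.IsUnivThickening h i h') {U : X.Opens} (hU : IsAffineOpen U) {V' : Z'.Opens}
    (hV' : IsAffineOpen V') (e : V' ≤ h' ⁻¹ᵁ U) :
    letI := (h'.appLE U V' e).hom.toAlgebra
    letI := ((i.app V').hom.comp (h'.appLE U V' e).hom).toAlgebra
    OmegaSh.IsUnivThickeningRing Γ(X, U) Γ(Z, i ⁻¹ᵁ V') Γ(Z', V')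
      { (i.app V').hom with commutes' := fun _ => rfl } := by
  obtain ⟨hfot, hcomp, huniv⟩ := hu
  letI := (h'.appLE U V' e).hom.toAlgebra
  letI := ((i.app V').hom.comp (h'.appLE U V' e).hom).toAlgebra
  haveI := hfot.1.1
  have hV : IsAffineOpen (i ⁻¹ᵁ V') := hV'.preimage i
  have eV : i ⁻¹ᵁ V' ≤ h ⁻¹ᵁ U := fun z hz => by
    show h z ∈ U
    rw [← hcomp]; exact e hz
  have happ : ∀ r, i.app V' (h'.appLE U V' e r) = h.appLE U (i ⁻¹ᵁ V') eV r := by
    intro r
    subst hcomp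
    rw [← Scheme.Hom.appLE_comp_appLE i h' U V' (i ⁻¹ᵁ V') e le_rfl, CommRingCat.comp_apply,
      Scheme.Hom.app_eq_appLE]
  refine ⟨i.app_surjective V' hV', ?_, fun C _ _ I hI a => ?_⟩
  · show RingHom.ker (i.app V').hom ^ 2 = ⊥
    rw [pow_two, ← Scheme.Hom.ker_apply i ⟨V', hV'⟩]
    have h2 := congrArg (fun J => Scheme.IdealSheafData.ideal J ⟨V', hV'⟩) hfot.2
    simpa using h2
  let R := Γ(X, U)
  let q := CommRingCat.ofHom (Ideal.Quotient.mk I)
  let aS : Spec (CommRingCat.of (C ⧸ I)) ⟶ Z := Spec.map (CommRingCat.ofHom a.toRingHom) ≫ hV.fromSpec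
  let bS : Spec (CommRingCat.of C) ⟶ X := Spec.map (CommRingCat.ofHom (algebraMap R C)) ≫ hU.fromSpec
  have hw : Spec.map q ≫ bS = aS ≫ h := by
    simp only [aS, bS]
    rw [Category.assoc, ← hU.SpecMap_appLE_fromSpec h hV eV, ← Category.assoc, ← Category.assoc,
      ← Spec.map_comp, ← Spec.map_comp]
    congr 2
    refine CommRingCat.hom_ext (RingHom.ext fun r => ?_)
    show Ideal.Quotient.mk I (algebraMap R C r) = a (h.appLE U (i ⁻¹ᵁ V') eV r)
    rw [← happ]
    exact (a.commutes r).symm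
  obtain ⟨a', ⟨ha1, ha2⟩, huq⟩ := huniv _ _ (Spec.map q) bS aS (fot_Spec C I hI) hw
  have hr : Set.range a' ⊆ Set.range hV'.fromSpec := by
    rintro _ ⟨t', rfl⟩
    rw [hV'.range_fromSpec]
    refine mem_of_fot (fot_Spec C I hI) ha1 V' (fun t => ?_) t'
    have ht : aS t ∈ Set.range hV.fromSpec := ⟨_, rfl⟩
    rw [hV.range_fromSpec] at ht
    exact ht
  obtain ⟨ψ, hψ⟩ := Spec.map_surjective (IsOpenImmersion.lift hV'.fromSpec a' hr)
  have hψ' : Spec.map ψ ≫ hV'.fromSpec = a' := by rw [hψ, IsOpenImmersion.lift_fac]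
  have hi : Spec.map (i.app V') ≫ hV'.fromSpec = hV.fromSpec ≫ i := by
    rw [← hV'.SpecMap_appLE_fromSpec i hV le_rfl, Scheme.Hom.app_eq_appLE]
  have hψ1 : CommRingCat.ofHom (Ideal.Quotient.mk I |>.comp ψ.hom) = i.app V' ≫ CommRingCat.ofHom a.toRingHom := by
    apply Spec.map_injective
    rw [← cancel_mono hV'.fromSpec, Spec.map_comp, Category.assoc, hi, CommRingCat.ofHom_comp,
      CommRingCat.ofHom_hom, Spec.map_comp, Category.assoc, hψ', ha1, Category.assoc]
  have hψ2 : h'.appLE U V' e ≫ ψ = CommRingCat.ofHom (algebraMap R C) := by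
    apply Spec.map_injective
    rw [← cancel_mono hU.fromSpec, Spec.map_comp, Category.assoc, hU.SpecMap_appLE_fromSpec h' hV' e,
      ← Category.assoc, hψ', ha2]
  refine ⟨{ ψ.hom with commutes' := fun r => congr($hψ2 r) },
    AlgHom.ext fun x => congr($hψ1 x), fun a'' ha'' => ?_⟩
  have h3 : Spec.map (CommRingCat.ofHom a''.toRingHom) ≫ hV'.fromSpec = a' := by
    refine huq _ ⟨?_, ?_⟩
    · have h4 : CommRingCat.ofHom a''.toRingHom ≫ q = i.app V' ≫ CommRingCat.ofHom a.toRingHom :=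
        CommRingCat.hom_ext (RingHom.ext fun x => DFunLike.congr_fun ha'' x)
      rw [← Category.assoc, ← Spec.map_comp, h4, Spec.map_comp, Category.assoc, hi, Category.assoc]
    · rw [Category.assoc, ← hU.SpecMap_appLE_fromSpec h' hV' e, ← Category.assoc, ← Spec.map_comp]
      congr 2
      exact CommRingCat.hom_ext (RingHom.ext fun r => a''.commutes r)
  have h5 : CommRingCat.ofHom a''.toRingHom = ψ := by
    apply Spec.map_injective
    rw [← cancel_mono hV'.fromSpec, h3, hψ']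
  exact AlgHom.ext fun x => congr($h5 x)

/-- The projection of a universal thickening is formally unramified. -/
theorem formallyUnramified_of_isUnivThickening {h : Z ⟶ X} {i : Z ⟶ Z'} {h' : Z' ⟶ X}
    (hu : OmegaSh.IsUnivThickening h i h') : FormallyUnramified h' := by
  refine ⟨fun {U} hU {V'} hV' e => ?_⟩
  letI := (h'.appLE U V' e).hom.toAlgebra
  letI := ((i.app V').hom.comp (h'.appLE U V' e).hom).toAlgebra
  letI : Algebra Γ(Z', V') Γ(Z, i ⁻¹ᵁ V') := (i.app V').hom.toAlgebra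
  haveI : IsScalarTower Γ(X, U) Γ(Z', V') Γ(Z, i ⁻¹ᵁ V') := .of_algebraMap_eq fun _ => rfl
  exact _root_.H29Omega.formallyUnramified_univThickening (A := Γ(X, U)) (B' := Γ(Z', V')) (B := Γ(Z, i ⁻¹ᵁ V'))
    (isUnivThickeningRing_appLE hu hU hV' e)

/-- Base change of universal thickenings. -/
theorem isUnivThickening_baseChange {W Y W' : Scheme.{u}} (h : Z ⟶ X) (f : Z ⟶ W) (g : X ⟶ Y) (h₀ : W ⟶ Y)
    (hc : IsPullback h f g h₀) (j : W ⟶ W') (k : W' ⟶ Y) (hu : OmegaSh.IsUnivThickening h₀ j k)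
    (hw : h ≫ g = (f ≫ j) ≫ k) :
    OmegaSh.IsUnivThickening h (pullback.lift h (f ≫ j) hw) (pullback.fst g k) := by
  obtain ⟨hfot, hcomp, huniv⟩ := hu
  have sq : IsPullback (pullback.lift h (f ≫ j) hw) f (pullback.snd g k) j := by
    refine IsPullback.of_right (h₁₂ := pullback.fst g k) (v₁₃ := g) (h₂₂ := k) ?_
      (pullback.lift_snd h (f ≫ j) hw) (IsPullback.of_hasPullback g k)
    rw [hcomp, pullback.lift_fst]
    exact hc
  refine ⟨fot_of_isPullback hfot sq, pullback.lift_fst _ _ _, fun T T' t b a ht hb => ?_⟩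
  obtain ⟨c, ⟨hc1, hc2⟩, huq⟩ := huniv T T' t (b ≫ g) (a ≫ f) ht (by
    rw [← Category.assoc, hb, Category.assoc, Category.assoc, hc.w])
  refine ⟨pullback.lift b c hc2.symm, ⟨?_, pullback.lift_fst _ _ _⟩, fun a' ⟨h1, h2⟩ => ?_⟩
  · apply pullback.hom_ext
    · rw [Category.assoc, pullback.lift_fst, Category.assoc, pullback.lift_fst, hb]
    · rw [Category.assoc, pullback.lift_snd, Category.assoc, pullback.lift_snd, hc1, Category.assoc]
  · apply pullback.hom_ext
    · rw [pullback.lift_fst, h2]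
    · rw [pullback.lift_snd]
      refine huq _ ⟨?_, ?_⟩
      · rw [← Category.assoc, h1, Category.assoc, pullback.lift_snd, Category.assoc]
      · rw [Category.assoc, ← pullback.condition, ← Category.assoc, h2]

end Groth.Agent.H29Omega
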