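import Groth.Prelude.Def_Omega3
import Groth.Agent.H29Omega.UnivThick
import Groth.Agent.H29Omega.UnivThickScheme
import Groth.Agent.H29Omega.StalkKaehler
import Groth.Agent.H29Omega.StalkCompat
import Groth.Agent.H06Mod.StalkPullback

/-!
# Universal thickenings on local rings, and their differentials
-/

set_option autoImplicit false
set_option linter.style.haveILetI false
set_option maxHeartbeats 400000
universe u

open CategoryTheory CategoryTheory.Limits AlgebraicGeometry TopologicalSpace TensorProduct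

namespace Groth.Agent.H29Omega

open Groth.Agent.H06Mod

attribute [local instance] Groth.Agent.H06Mod.stalkAlgebra

variable {Z Z' X S : Scheme.{u}}

/-- The local rings of a universal thickening form a universal thickening of rings. -/
theorem isUnivThickeningRing_stalk {h : Z ⟶ X} {i : Z ⟶ Z'} {h' : Z' ⟶ X}
    (hu : OmegaSh.IsUnivThickening h i h') (z : Z) :
    letI : Algebra (X.presheaf.stalk (h'.base (i.base z))) (Z.presheaf.stalk z) :=
      ((i.stalkMap z).hom.comp (h'.stalkMap (i.base z)).hom).toAlgebra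
    OmegaSh.IsUnivThickeningRing (X.presheaf.stalk (h'.base (i.base z))) (Z.presheaf.stalk z)
      (Z'.presheaf.stalk (i.base z)) { (i.stalkMap z).hom with commutes' := fun _ => rfl } := by
  obtain ⟨_, ⟨U, hU, rfl⟩, hxU, -⟩ :=
    X.isBasis_affineOpens.exists_subset_of_mem_open (Set.mem_univ (h'.base (i.base z))) isOpen_univ
  obtain ⟨_, ⟨V', hV', rfl⟩, hzV, hle⟩ :=
    Z'.isBasis_affineOpens.exists_subset_of_mem_open (show i.base z ∈ ((h' ⁻¹ᵁ U : Z'.Opens) : Set Z') from hxU)
      (h' ⁻¹ᵁ U).2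
  have e : V' ≤ h' ⁻¹ᵁ U := hle
  have hV : IsAffineOpen (i ⁻¹ᵁ V') := isAffineOpen_preimage hu.1 hV'
  letI : Algebra Γ(X, U) Γ(Z', V') := (h'.appLE U V' e).hom.toAlgebra
  letI : Algebra Γ(X, U) Γ(Z, i ⁻¹ᵁ V') := ((i.app V').hom.comp (h'.appLE U V' e).hom).toAlgebra
  have hπ := isUnivThickeningRing_appLE hu hU hV' e
  letI : Algebra Γ(X, U) (X.presheaf.stalk (h'.base (i.base z))) := (X.presheaf.germ U _ hxU).hom.toAlgebra
  letI : Algebra Γ(Z', V') (Z'.presheaf.stalk (i.base z)) := (Z'.presheaf.germ V' _ hzV).hom.toAlgebra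
  letI : Algebra Γ(Z, i ⁻¹ᵁ V') (Z.presheaf.stalk z) := (Z.presheaf.germ (i ⁻¹ᵁ V') z hzV).hom.toAlgebra
  letI : Algebra (X.presheaf.stalk (h'.base (i.base z))) (Z.presheaf.stalk z) :=
    ((i.stalkMap z).hom.comp (h'.stalkMap (i.base z)).hom).toAlgebra
  letI : Algebra Γ(X, U) (Z'.presheaf.stalk (i.base z)) :=
    ((h'.stalkMap (i.base z)).hom.comp (X.presheaf.germ U _ hxU).hom).toAlgebra
  letI : Algebra Γ(X, U) (Z.presheaf.stalk z) :=
    (((i.stalkMap z).hom.comp (h'.stalkMap (i.base z)).hom).comp (X.presheaf.germ U _ hxU).hom).toAlgebra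
  haveI : IsScalarTower Γ(X, U) (X.presheaf.stalk (h'.base (i.base z))) (Z'.presheaf.stalk (i.base z)) :=
    .of_algebraMap_eq fun _ => rfl
  haveI : IsScalarTower Γ(X, U) (X.presheaf.stalk (h'.base (i.base z))) (Z.presheaf.stalk z) :=
    .of_algebraMap_eq fun _ => rfl
  have key : ∀ r, (h'.stalkMap (i.base z)).hom (X.presheaf.germ U _ hxU r) =
      Z'.presheaf.germ V' _ hzV (h'.appLE U V' e r) := fun r => by
    rw [Scheme.Hom.germ_stalkMap_apply, Scheme.Hom.appLE, CommRingCat.comp_apply,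
      TopCat.Presheaf.germ_res_apply]
  haveI : IsScalarTower Γ(X, U) Γ(Z', V') (Z'.presheaf.stalk (i.base z)) := .of_algebraMap_eq fun r => key r
  haveI : IsScalarTower Γ(X, U) Γ(Z, i ⁻¹ᵁ V') (Z.presheaf.stalk z) := .of_algebraMap_eq fun r => by
    show (i.stalkMap z).hom ((h'.stalkMap (i.base z)).hom (X.presheaf.germ U _ hxU r)) = _
    rw [key, Scheme.Hom.germ_stalkMap_apply]
    rfl
  haveI hlU : IsLocalization (hU.primeIdealOf ⟨_, hxU⟩).asIdeal.primeCompl
      (X.presheaf.stalk (h'.base (i.base z))) := hU.isLocalization_stalk ⟨_, hxU⟩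
  haveI hlV' : IsLocalization (hV'.primeIdealOf ⟨_, hzV⟩).asIdeal.primeCompl
      (Z'.presheaf.stalk (i.base z)) := hV'.isLocalization_stalk ⟨_, hzV⟩
  let π : Γ(Z', V') →ₐ[Γ(X, U)] Γ(Z, i ⁻¹ᵁ V') := { (i.app V').hom with commutes' := fun _ => rfl }
  have hc := congrArg PrimeSpectrum.asIdeal
    (IsAffineOpen.comap_primeIdealOf_appLE (f := i) (x := z) V' hV' (i ⁻¹ᵁ V') hV le_rfl hzV)
  rw [PrimeSpectrum.comap_asIdeal, ← Scheme.Hom.app_eq_appLE] at hc
  have hmap : (hV'.primeIdealOf ⟨_, hzV⟩).asIdeal.primeCompl.map π.toRingHom =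
      (hV.primeIdealOf ⟨z, hzV⟩).asIdeal.primeCompl := by
    ext x
    constructor
    · rintro ⟨m, hm, rfl⟩ hmem
      exact hm (hc ▸ (show m ∈ Ideal.comap (i.app V').hom _ from hmem))
    · intro hx
      obtain ⟨m, rfl⟩ := hπ.1 x
      refine ⟨m, fun hm => hx ?_, rfl⟩
      rw [← hc] at hm
      exact hm
  haveI : IsLocalization ((hV'.primeIdealOf ⟨_, hzV⟩).asIdeal.primeCompl.map π.toRingHom)
      (Z.presheaf.stalk z) := by
    rw [hmap]; exact hV.isLocalization_stalk ⟨z, hzV⟩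
  refine _root_.H29Omega.isUnivThickeningRing_of_localization hπ (hV'.primeIdealOf ⟨_, hzV⟩).asIdeal.primeCompl
    (fun C _ _ f g hfg => AlgHom.coe_ringHom_injective
      (IsLocalization.ringHom_ext (hV'.primeIdealOf ⟨_, hzV⟩).asIdeal.primeCompl hfg))
    (fun C _ _ f hf r => ?_) _ (fun x => ?_)
  · exact RingHom.congr_fun (IsLocalization.ringHom_ext (hU.primeIdealOf ⟨_, hxU⟩).asIdeal.primeCompl
      (j := f.comp (algebraMap (X.presheaf.stalk (h'.base (i.base z))) (Z'.presheaf.stalk (i.base z))))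
      (k := algebraMap (X.presheaf.stalk (h'.base (i.base z))) C) (RingHom.ext fun a => hf a)) r
  · exact Scheme.Hom.germ_stalkMap_apply i V' z hzV x

/-- The compatible map on differentials along `h'`, on local rings. -/
theorem exists_stalk_diffCompat {q : X ⟶ S} (h' : Z' ⟶ X) {ΩX : X.Modules} (dX : OmegaSh.Der q ΩX)
    (hdX : OmegaSh.IsUniversal dX) {ΩZ' : Z'.Modules} (dZ' : OmegaSh.Der (h' ≫ q) ΩZ')
    (hdZ' : OmegaSh.IsUniversal dZ') (c : (Scheme.Modules.pullback h').obj ΩX ⟶ ΩZ')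
    (hc : OmegaSh.IsDiffCompat h' dX dZ' c) (z' : Z') :
    letI : Algebra (S.presheaf.stalk ((h' ≫ q).base z')) (X.presheaf.stalk (h'.base z')) :=
      (q.stalkMap (h'.base z')).hom.toAlgebra
    letI : Algebra (S.presheaf.stalk ((h' ≫ q).base z')) (Z'.presheaf.stalk z') := stalkAlgebra (h' ≫ q) z'
    haveI : IsScalarTower (S.presheaf.stalk ((h' ≫ q).base z')) (X.presheaf.stalk (h'.base z'))
      (Z'.presheaf.stalk z') := .of_algebraMap_eq fun r => congr($(Scheme.Hom.stalkMap_comp h' q z') r)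
    ∃ (e₁ : ((Scheme.Modules.pullback h').obj ΩX).presheaf.stalk z' ≃ₗ[Z'.presheaf.stalk z']
        Z'.presheaf.stalk z' ⊗[X.presheaf.stalk (h'.base z')]
          KaehlerDifferential (S.presheaf.stalk ((h' ≫ q).base z')) (X.presheaf.stalk (h'.base z')))
      (e₂ : ΩZ'.presheaf.stalk z' ≃ₗ[Z'.presheaf.stalk z']
        KaehlerDifferential (S.presheaf.stalk ((h' ≫ q).base z')) (Z'.presheaf.stalk z')),
      ∀ a, e₂ (stalkLin c z' a) =
        KaehlerDifferential.mapBaseChange (S.presheaf.stalk ((h' ≫ q).base z'))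
          (X.presheaf.stalk (h'.base z')) (Z'.presheaf.stalk z') (e₁ a) := by
  letI : Algebra (S.presheaf.stalk ((h' ≫ q).base z')) (X.presheaf.stalk (h'.base z')) :=
    (q.stalkMap (h'.base z')).hom.toAlgebra
  letI : Algebra (S.presheaf.stalk ((h' ≫ q).base z')) (Z'.presheaf.stalk z') := stalkAlgebra (h' ≫ q) z'
  haveI : IsScalarTower (S.presheaf.stalk ((h' ≫ q).base z')) (X.presheaf.stalk (h'.base z'))
    (Z'.presheaf.stalk z') := .of_algebraMap_eq fun r => congr($(Scheme.Hom.stalkMap_comp h' q z') r)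
  obtain ⟨ε, hε⟩ := exists_stalkEquiv dX hdX (h'.base z')
  obtain ⟨e₂, he₂⟩ := exists_stalkEquiv dZ' hdZ' z'
  let T : Z'.presheaf.stalk z' ⊗[X.presheaf.stalk (h'.base z')] ΩX.presheaf.stalk (h'.base z')
      ≃ₗ[Z'.presheaf.stalk z'] Z'.presheaf.stalk z' ⊗[X.presheaf.stalk (h'.base z')]
        KaehlerDifferential (S.presheaf.stalk ((h' ≫ q).base z')) (X.presheaf.stalk (h'.base z')) :=
    TensorProduct.AlgebraTensorModule.congr (LinearEquiv.refl _ _) ε
  refine ⟨(pullStalkEquiv h' ΩX z').symm.trans T, e₂, ?_⟩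
  have key : (e₂.toLinearMap ∘ₗ stalkLin c z') ∘ₗ (pullStalkEquiv h' ΩX z').toLinearMap ∘ₗ T.symm.toLinearMap =
      KaehlerDifferential.mapBaseChange (S.presheaf.stalk ((h' ≫ q).base z'))
        (X.presheaf.stalk (h'.base z')) (Z'.presheaf.stalk z') := by
    refine TensorProduct.AlgebraTensorModule.curry_injective (LinearMap.ext_ring
      (Derivation.liftKaehlerDifferential_unique _ _ (Derivation.ext fun t => ?_)))
    obtain ⟨U, hU, s, rfl⟩ := X.presheaf.exists_germ_eq t
    show e₂ (stalkLin c z' (pullStalkEquiv h' ΩX z' (T.symm (1 ⊗ₜ KaehlerDifferential.D _ _ (X.presheaf.germ U _ hU s))))) =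
      KaehlerDifferential.mapBaseChange _ _ _ (1 ⊗ₜ KaehlerDifferential.D _ _ (X.presheaf.germ U _ hU s))
    rw [show T.symm (1 ⊗ₜ KaehlerDifferential.D _ _ (X.presheaf.germ U (h'.base z') hU s)) =
        1 ⊗ₜ ΩX.presheaf.germ U (h'.base z') hU (dX.app U s) from
      T.symm_apply_eq.2 (congrArg (1 ⊗ₜ ·) (hε U hU s).symm)]
    rw [show pullStalkEquiv h' ΩX z' ((1 : Z'.presheaf.stalk z') ⊗ₜ ΩX.presheaf.germ U (h'.base z') hU (dX.app U s)) =
        ((Scheme.Modules.pullback h').obj ΩX).presheaf.germ (h' ⁻¹ᵁ U) z' hU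
          (OmegaSh.pullSect h' ΩX U (dX.app U s)) from
      (pullStalkLin_tmul h' ΩX z' 1 _).trans ((one_smul _ _).trans (pullStalk_germ h' ΩX z' U hU _)),
      stalkLin_germ, hc U s, he₂ (h' ⁻¹ᵁ U) hU, KaehlerDifferential.mapBaseChange_tmul, one_smul,
      KaehlerDifferential.map_D]
    exact congrArg _ (Scheme.Hom.germ_stalkMap_apply h' U z' hU s).symm
  intro a
  rw [← key]
  show _ = e₂ (stalkLin c z' (pullStalkEquiv h' ΩX z' (T.symm (T ((pullStalkEquiv h' ΩX z').symm a)))))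
  rw [LinearEquiv.symm_apply_apply, LinearEquiv.apply_symm_apply]

/-- Pullback commutes with maps on stalks. -/
theorem stalkLin_pullback_map {Y : Scheme.{u}} (f : Z ⟶ Y) {M N : Y.Modules} (φ : M ⟶ N) (z : Z)
    (t : Z.presheaf.stalk z ⊗[Y.presheaf.stalk (f.base z)] M.presheaf.stalk (f.base z)) :
    stalkLin ((Scheme.Modules.pullback f).map φ) z (pullStalkEquiv f M z t) =
      pullStalkEquiv f N z ((stalkLin φ (f.base z)).baseChange (Z.presheaf.stalk z) t) := by
  induction t using TensorProduct.induction_on with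
  | zero => simp
  | add a b ha hb => simp only [map_add, ha, hb]
  | tmul r m =>
    show stalkLin _ z (pullStalkLin f M z (r ⊗ₜ m)) = pullStalkLin f N z (r ⊗ₜ stalkLin φ (f.base z) m)
    rw [pullStalkLin_tmul, pullStalkLin_tmul, map_smul]
    exact congrArg (r • ·) (pullStalk_naturality f M z φ m)

/-- The pullback along a universal thickening of the comparison of differentials is an isomorphism. -/
theorem isIso_pullback_diffCompat {h : Z ⟶ X} {i : Z ⟶ Z'} {h' : Z' ⟶ X}
    (hu : OmegaSh.IsUnivThickening h i h') {q : X ⟶ S} {ΩX : X.Modules} (dX : OmegaSh.Der q ΩX)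
    (hdX : OmegaSh.IsUniversal dX) {ΩZ' : Z'.Modules} (dZ' : OmegaSh.Der (h' ≫ q) ΩZ')
    (hdZ' : OmegaSh.IsUniversal dZ') (c : (Scheme.Modules.pullback h').obj ΩX ⟶ ΩZ')
    (hc : OmegaSh.IsDiffCompat h' dX dZ' c) :
    IsIso ((Scheme.Modules.pullback i).map c) := by
  refine isIso_of_bijective_stalkLin _ fun z => ?_
  letI : Algebra (S.presheaf.stalk ((h' ≫ q).base (i.base z))) (X.presheaf.stalk (h'.base (i.base z))) :=
    (q.stalkMap (h'.base (i.base z))).hom.toAlgebra
  letI : Algebra (S.presheaf.stalk ((h' ≫ q).base (i.base z))) (Z'.presheaf.stalk (i.base z)) :=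
    stalkAlgebra (h' ≫ q) (i.base z)
  haveI : IsScalarTower (S.presheaf.stalk ((h' ≫ q).base (i.base z))) (X.presheaf.stalk (h'.base (i.base z)))
    (Z'.presheaf.stalk (i.base z)) :=
    .of_algebraMap_eq fun r => congr($(Scheme.Hom.stalkMap_comp h' q (i.base z)) r)
  letI : Algebra (X.presheaf.stalk (h'.base (i.base z))) (Z.presheaf.stalk z) :=
    ((i.stalkMap z).hom.comp (h'.stalkMap (i.base z)).hom).toAlgebra
  haveI : IsScalarTower (X.presheaf.stalk (h'.base (i.base z))) (Z'.presheaf.stalk (i.base z))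
    (Z.presheaf.stalk z) := .of_algebraMap_eq fun _ => rfl
  obtain ⟨e₁, e₂, he⟩ := exists_stalk_diffCompat h' dX hdX dZ' hdZ' c hc (i.base z)
  have hb := _root_.H29Omega.bijective_baseChange_mapBaseChange (R := S.presheaf.stalk ((h' ≫ q).base (i.base z)))
    (A := X.presheaf.stalk (h'.base (i.base z))) (B' := Z'.presheaf.stalk (i.base z)) (B := Z.presheaf.stalk z)
    (isUnivThickeningRing_stalk hu z)
  have hbe : Function.Bijective ((stalkLin c (i.base z)).baseChange (Z.presheaf.stalk z)) := by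
    have heq : stalkLin c (i.base z) = e₂.symm.toLinearMap ∘ₗ
        (KaehlerDifferential.mapBaseChange (S.presheaf.stalk ((h' ≫ q).base (i.base z)))
          (X.presheaf.stalk (h'.base (i.base z))) (Z'.presheaf.stalk (i.base z))) ∘ₗ e₁.toLinearMap :=
      LinearMap.ext fun a => by
        show _ = e₂.symm (KaehlerDifferential.mapBaseChange _ _ _ (e₁ a))
        rw [← he, LinearEquiv.symm_apply_apply]
    rw [heq, LinearMap.baseChange_comp, LinearMap.baseChange_comp, LinearMap.coe_comp, LinearMap.coe_comp]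
    exact (LinearEquiv.baseChange _ (Z.presheaf.stalk z) _ _ e₂.symm).bijective.comp
      (hb.comp (LinearEquiv.baseChange _ (Z.presheaf.stalk z) _ _ e₁).bijective)
  have hfun : (stalkLin ((Scheme.Modules.pullback i).map c) z : _ → _) =
      (pullStalkEquiv i ΩZ' z) ∘ ((stalkLin c (i.base z)).baseChange (Z.presheaf.stalk z)) ∘
        (pullStalkEquiv i _ z).symm := funext fun a => by
    show _ = pullStalkEquiv i ΩZ' z ((stalkLin c (i.base z)).baseChange (Z.presheaf.stalk z)
      ((pullStalkEquiv i _ z).symm a))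
    rw [← stalkLin_pullback_map, LinearEquiv.apply_symm_apply]
  rw [hfun]
  exact (pullStalkEquiv i ΩZ' z).bijective.comp (hbe.comp (pullStalkEquiv i _ z).symm.bijective)

end Groth.Agent.H29Omega
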