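import Groth.Agent.H29Omega.ConormalMapStalk
import Groth.Agent.H29Omega.StalkKaehler
import Mathlib

/-!
# The conormal map to differentials on stalks; exactness from stalks
-/

set_option autoImplicit false
set_option linter.style.haveILetI false
set_option maxHeartbeats 400000
universe u

open CategoryTheory CategoryTheory.Limits AlgebraicGeometry TopologicalSpace Opposite TensorProduct

namespace Groth.Agent.H29Omega

open Groth.Agent.H06Mod

attribute [local instance] Groth.Agent.H06Mod.stalkAlgebra

variable {X S Z : Scheme.{u}}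

theorem stalkLin_injective_of_mono {M N : X.Modules} (φ : M ⟶ N) [Mono φ] (x : X) :
    Function.Injective (stalkLin φ x) :=
  TopCat.Presheaf.stalkFunctor_map_injective_of_app_injective (f := φ.mapPresheaf)
    (fun U => S9371.app_injective_of_mono φ U) x

/-- A complex of modules which is exact on all stalks is exact. -/
theorem exact_of_stalks (T : ShortComplex X.Modules)
    (h : ∀ x b, stalkLin T.g x b = 0 → ∃ a, stalkLin T.f x a = b) : T.Exact := by
  rw [T.exact_iff_epi_kernel_lift]
  refine epi_of_surjective_stalkLin _ fun x k => ?_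
  obtain ⟨a, ha⟩ := h x (stalkLin (kernel.ι T.g) x k) (by
    rw [← stalkLin_comp, kernel.condition]
    obtain ⟨U, hU, s, rfl⟩ := (kernel T.g).presheaf.exists_germ_eq k
    rw [stalkLin_germ]
    exact map_zero _)
  refine ⟨a, stalkLin_injective_of_mono (kernel.ι T.g) x ?_⟩
  rw [← ha, ← stalkLin_comp, kernel.lift_ι]

/-- The stalk of the pullback of the receptacle of a universal derivation. -/
theorem exists_pullEquiv {f : X ⟶ S} {Ω : X.Modules} (d : OmegaSh.Der f Ω) (hd : OmegaSh.IsUniversal d)
    (i : Z ⟶ X) (z : Z) :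
    ∃ e : ((Scheme.Modules.pullback i).obj Ω).presheaf.stalk z ≃ₗ[Z.presheaf.stalk z]
        Z.presheaf.stalk z ⊗[X.presheaf.stalk (i.base z)]
          KaehlerDifferential (S.presheaf.stalk (f.base (i.base z))) (X.presheaf.stalk (i.base z)),
      ∀ (U : X.Opens) (h : i.base z ∈ U) (s : Γ(X, U)),
        e (((Scheme.Modules.pullback i).obj Ω).presheaf.germ (i ⁻¹ᵁ U) z h
            (OmegaSh.pullSect i Ω U (d.app U s))) =
          1 ⊗ₜ KaehlerDifferential.D (S.presheaf.stalk (f.base (i.base z)))
            (X.presheaf.stalk (i.base z)) (X.presheaf.germ U (i.base z) h s) := by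
  obtain ⟨ε, hε⟩ := exists_stalkEquiv d hd (i.base z)
  refine ⟨(pullStalkEquiv i Ω z).symm.trans
    (TensorProduct.AlgebraTensorModule.congr (LinearEquiv.refl _ _) ε), fun U h s => ?_⟩
  have h1 : (pullStalkEquiv i Ω z).symm (((Scheme.Modules.pullback i).obj Ω).presheaf.germ (i ⁻¹ᵁ U) z h
      (OmegaSh.pullSect i Ω U (d.app U s))) = 1 ⊗ₜ Ω.presheaf.germ U (i.base z) h (d.app U s) := by
    rw [LinearEquiv.symm_apply_eq]
    show _ = pullStalkLin i Ω z (_ ⊗ₜ _)
    rw [pullStalkLin_tmul, one_smul, pullStalk_germ]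
  rw [LinearEquiv.trans_apply, h1, TensorProduct.AlgebraTensorModule.congr_tmul, hε]
  rfl



/-- The conormal map to differentials on classes. -/
theorem stalkLin_conormalDiff {i : Z ⟶ X} [IsImmersion i] [QuasiCompact i] {f : X ⟶ S} {Ω : X.Modules}
    {d : OmegaSh.Der f Ω}
    {φ : Omega.conormal i ⟶ (Scheme.Modules.pullback i).obj Ω} (hφ : OmegaSh.IsConormalDiff i d φ) (z : Z)
    {e : ((Scheme.Modules.pullback i).obj Ω).presheaf.stalk z ≃ₗ[Z.presheaf.stalk z]
        Z.presheaf.stalk z ⊗[X.presheaf.stalk (i.base z)]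
          KaehlerDifferential (S.presheaf.stalk (f.base (i.base z))) (X.presheaf.stalk (i.base z))}
    (he : ∀ (U : X.Opens) (h : i.base z ∈ U) (s : Γ(X, U)),
        e (((Scheme.Modules.pullback i).obj Ω).presheaf.germ (i ⁻¹ᵁ U) z h
            (OmegaSh.pullSect i Ω U (d.app U s))) =
          1 ⊗ₜ KaehlerDifferential.D (S.presheaf.stalk (f.base (i.base z)))
            (X.presheaf.stalk (i.base z)) (X.presheaf.germ U (i.base z) h s))
    (a : RingHom.ker (i.stalkMap z).hom) :
    e (stalkLin φ z (cgen i z a)) =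
      1 ⊗ₜ KaehlerDifferential.D (S.presheaf.stalk (f.base (i.base z))) (X.presheaf.stalk (i.base z))
        (a : X.presheaf.stalk (i z)) := by
  obtain ⟨U, hU, -, m, hm⟩ := exists_germ_idealSect i z ⊤ trivial a
  rw [cgen_germ i z U hU m a hm, stalkLin_germ, hφ U m, he U hU, hm]

end Groth.Agent.H29Omega
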