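import Groth.Agent.H29Omega.ConormalStalk
import Groth.Agent.S9371
import Mathlib

/-!
# Maps of conormal sheaves on stalks
-/

set_option autoImplicit false
set_option linter.style.haveILetI false
set_option maxHeartbeats 400000
universe u

open CategoryTheory CategoryTheory.Limits AlgebraicGeometry TopologicalSpace Opposite TensorProduct

namespace Groth.Agent.H29Omega

open Groth.Agent.H06Mod

attribute [local instance] Groth.Agent.H06Mod.stalkAlgebra

variable {Z X Z' X' : Scheme.{u}} {i : Z ⟶ X} {i' : Z' ⟶ X'} {g : X ⟶ X'} {gZ : Z ⟶ Z'}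

/-- The comparison of local rings on germs. -/
theorem baseStalkMap_germ (w : gZ ≫ i' = i ≫ g) (z : Z) (U : X'.Opens) (hU : i' (gZ z) ∈ U)
    (W : X.Opens) (e : W ≤ g ⁻¹ᵁ U) (hW : i z ∈ W) (s : Γ(X', U)) :
    baseStalkMap i' i g gZ w z (X'.presheaf.germ U (i' (gZ z)) hU s) =
      X.presheaf.germ W (i z) hW (g.appLE U W e s) := by
  show g.stalkMap (i z) (X'.presheaf.stalkSpecializes _ (X'.presheaf.germ U _ hU s)) = _
  rw [X'.presheaf.germ_stalkSpecializes_apply hU]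
  erw [Scheme.Hom.germ_stalkMap_apply]
  rw [Scheme.Hom.appLE]
  exact (X.presheaf.germ_res_apply (homOfLE e) (i z) hW _).symm

variable [IsImmersion i] [IsImmersion i'] [QuasiCompact i] [QuasiCompact i']

theorem baseStalkMap_mem_ker (w : gZ ≫ i' = i ≫ g) (z : Z)
    (a : RingHom.ker (i'.stalkMap (gZ z)).hom) :
    (baseStalkMap i' i g gZ w z).hom a ∈ RingHom.ker (i.stalkMap z).hom := by
  rw [RingHom.mem_ker]
  have h := congr($(congrArg CommRingCat.Hom.hom (baseStalkMap_comp i' i g gZ w z)) a.1)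
  refine h.trans ?_
  show (gZ.stalkMap z).hom ((i'.stalkMap (gZ z)).hom a.1) = 0
  rw [RingHom.mem_ker.1 a.2, map_zero]

/-- A conormal map sends the class of `a` to the class of the image of `a`. -/
theorem stalkLin_conormalMap {φ : (Scheme.Modules.pullback gZ).obj (Omega.conormal i') ⟶ Omega.conormal i}
    (hφ : OmegaSh.IsConormalMap i i' g gZ φ) (z : Z) (a : RingHom.ker (i'.stalkMap (gZ z)).hom) :
    stalkLin φ z (pullStalk gZ (Omega.conormal i') z (cgen i' (gZ z) a)) =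
      cgen i z ⟨(baseStalkMap i' i g gZ hφ.1 z).hom a, baseStalkMap_mem_ker hφ.1 z a⟩ := by
  obtain ⟨U', hU', -, m', hm'⟩ := exists_germ_idealSect i' (gZ z) ⊤ trivial a
  have hz : i z ∈ g ⁻¹ᵁ U' := by
    show (i ≫ g) z ∈ U'
    rw [← hφ.1]; exact hU'
  let s := (S9371.idealMap i i' g gZ hφ.1).app U' m'
  have hs : OmegaSh.idealSect i.ker (g ⁻¹ᵁ U') s = g.app U' (OmegaSh.idealSect i'.ker U' m') :=
    S9371.idealSect_idealMap i i' g gZ hφ.1 U' m'
  rw [cgen_germ i' (gZ z) U' hU' m' a hm']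
  erw [pullStalk_germ gZ (Omega.conormal i') z (i' ⁻¹ᵁ U') hU']
  erw [stalkLin_germ]
  rw [cgen_germ i z (g ⁻¹ᵁ U') hz s _ (by
    rw [hs]
    show baseStalkMap i' i g gZ hφ.1 z a.1 = _
    rw [hm', baseStalkMap_germ hφ.1 z U' hU' (g ⁻¹ᵁ U') le_rfl hz]
    simp [Scheme.Hom.appLE])]
  refine TopCat.Presheaf.germ_ext _ (i ⁻¹ᵁ (g ⁻¹ᵁ U') ⊓ gZ ⁻¹ᵁ (i' ⁻¹ᵁ U')) ⟨hz, hU'⟩
    (homOfLE inf_le_right) (homOfLE inf_le_left) ?_
  exact hφ.2 U' m' s hs _ inf_le_right inf_le_left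

end Groth.Agent.H29Omega
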