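import Groth.Prelude.Def_Omega3
import Groth.Prelude.Def_MoreMor
import Groth.Agent.H29Omega.UnivThick
import Groth.Agent.H29Omega.UnivThickScheme
import Mathlib

/-!
# Existence of universal first order thickenings of schemes
-/

set_option autoImplicit false
set_option linter.style.haveILetI false
set_option maxHeartbeats 400000
universe u

open CategoryTheory CategoryTheory.Limits AlgebraicGeometry TopologicalSpace

namespace Groth.Agent.H29Omega

variable {Z Z' X : Scheme.{u}}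

/-- The open of the thickening over an open. -/
theorem exists_open_of_fot {T T' : Scheme.{u}} {j : T ⟶ T'} (hj : MoreMor.IsFirstOrderThickening j)
    (V : T.Opens) : ∃ V' : T'.Opens, j ⁻¹ᵁ V' = V := by
  haveI := hj.1.1
  have hc : IsClosed (j '' (V : Set T)ᶜ) := j.isClosedEmbedding.isClosedMap _ V.2.isClosed_compl
  refine ⟨⟨(j '' (V : Set T)ᶜ)ᶜ, hc.isOpen_compl⟩, ?_⟩
  ext t
  show ¬ (j t ∈ j '' (V : Set T)ᶜ) ↔ t ∈ V
  rw [j.isClosedEmbedding.injective.mem_set_image]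
  exact not_not

/-- Opens of a thickening covering the source cover the thickening. -/
theorem iSup_eq_top_of_fot {T T' : Scheme.{u}} {j : T ⟶ T'} (hj : MoreMor.IsFirstOrderThickening j)
    {ι : Type u} (W : ι → T'.Opens) (hW : ∀ t, ∃ k, j t ∈ W k) : ⨆ k, W k = ⊤ := by
  refine eq_top_iff.mpr fun t' _ => ?_
  obtain ⟨t, rfl⟩ := hj.1.2.surj t'
  obtain ⟨k, hk⟩ := hW t
  exact Opens.mem_iSup.mpr ⟨k, hk⟩

/-- Gluing morphisms along opens. -/
theorem exists_glue_opens {T Y : Scheme.{u}} {ι : Type u} (W : ι → T.Opens) (hW : ⨆ k, W k = ⊤)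
    (f : ∀ k, (W k : Scheme.{u}) ⟶ Y)
    (hf : ∀ k l (S : Scheme.{u}) (p : S ⟶ W k) (q : S ⟶ W l) [IsOpenImmersion p],
      p ≫ (W k).ι = q ≫ (W l).ι → p ≫ f k = q ≫ f l) :
    ∃ g : T ⟶ Y, ∀ k, (W k).ι ≫ g = f k := by
  let 𝒰 := T.openCoverOfIsOpenCover W hW
  refine ⟨𝒰.glueMorphisms f fun k l => hf k l _ (pullback.fst (W k).ι (W l).ι) _ pullback.condition, fun k => ?_⟩
  exact 𝒰.ι_glueMorphisms f _ k

/-- Local kernels detect vanishing. -/
theorem eq_bot_of_comap_eq_bot (J : Z'.IdealSheafData) (𝒰 : Z'.OpenCover)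
    (h : ∀ k, J.comap (𝒰.f k) = ⊥) : J = ⊥ := by
  rw [← Scheme.isIso_subschemeι_iff_eq_bot J]
  show (MorphismProperty.isomorphisms Scheme) J.subschemeι
  refine IsZariskiLocalAtTarget.of_openCover 𝒰 fun k => ?_
  haveI : IsIso (J.comap (𝒰.f k)).subschemeι :=
    (Scheme.isIso_subschemeι_iff_eq_bot _).2 (h k)
  haveI : IsIso (pullback.fst (𝒰.f k) J.subschemeι) := by
    rw [← Scheme.IdealSheafData.comapIso_inv_subschemeι]; infer_instance
  show IsIso (pullback.snd J.subschemeι (𝒰.f k))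
  rw [← pullbackSymmetry_hom_comp_fst]
  infer_instance

section Cover

variable {h : Z ⟶ X} {i : Z ⟶ Z'} {h' : Z' ⟶ X} {ι : Type u} {V : ι → Z.Opens} {P : ι → Scheme.{u}}
  {o : ∀ k, P k ⟶ Z'} [∀ k, IsOpenImmersion (o k)] {s : ∀ k, (V k : Scheme.{u}) ⟶ P k}

/-- A thickening which is locally universal is universal. -/
theorem isUnivThickening_of_cover (hV : ∀ z, ∃ k, z ∈ V k) (hfot : MoreMor.IsFirstOrderThickening i)
    (hc : i ≫ h' = h) (hs : ∀ k, s k ≫ o k = (V k).ι ≫ i)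
    (hr : ∀ k, i ⁻¹ᵁ (o k).opensRange = V k)
    (hu : ∀ k, OmegaSh.IsUnivThickening ((V k).ι ≫ h) (s k) (o k ≫ h')) :
    OmegaSh.IsUnivThickening h i h' := by
  have uniqOn : ∀ (k : ι) (S S' : Scheme.{u}) (t : S ⟶ S') (b : S' ⟶ X) (a : S ⟶ Z),
      MoreMor.IsFirstOrderThickening t → t ≫ b = a ≫ h → (∀ x, a x ∈ V k) →
      ∀ a₁ a₂ : S' ⟶ Z', (t ≫ a₁ = a ≫ i ∧ a₁ ≫ h' = b) → (t ≫ a₂ = a ≫ i ∧ a₂ ≫ h' = b) → a₁ = a₂ := by
    intro k S S' t b a ht hb ha a₁ a₂ h₁ h₂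
    have hr' : ∀ a' : S' ⟶ Z', t ≫ a' = a ≫ i → Set.range a' ⊆ Set.range (o k) := by
      rintro a' ha' _ ⟨x, rfl⟩
      exact mem_of_fot ht ha' (o k).opensRange (fun y => by
        show a y ∈ i ⁻¹ᵁ (o k).opensRange
        rw [hr]; exact ha y) x
    have hra : Set.range a ⊆ Set.range (V k).ι := by
      rintro _ ⟨y, rfl⟩
      rw [Scheme.Opens.range_ι]
      exact ha y
    obtain ⟨-, -, huniv⟩ := hu k
    obtain ⟨e, -, heu⟩ := huniv S S' t b (IsOpenImmersion.lift (V k).ι a hra) ht (by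
      rw [IsOpenImmersion.lift_fac_assoc, hb])
    have key : ∀ (a' : S' ⟶ Z') (h1 : t ≫ a' = a ≫ i), a' ≫ h' = b →
        IsOpenImmersion.lift (o k) a' (hr' a' h1) = e := fun a' h1 h2 => heu _ ⟨by
      rw [← cancel_mono (o k), Category.assoc, IsOpenImmersion.lift_fac, h1, Category.assoc, hs,
        IsOpenImmersion.lift_fac_assoc], by rw [IsOpenImmersion.lift_fac_assoc, h2]⟩
    rw [← IsOpenImmersion.lift_fac (o k) a₁ (hr' a₁ h₁.1), ← IsOpenImmersion.lift_fac (o k) a₂ (hr' a₂ h₂.1),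
      key a₁ h₁.1 h₁.2, key a₂ h₂.1 h₂.2]
  refine ⟨hfot, hc, fun T T' j b a hj hb => ?_⟩
  choose W hW using fun k => exists_open_of_fot hj (a ⁻¹ᵁ V k)
  have hWtop : ⨆ k, W k = ⊤ := iSup_eq_top_of_fot hj W fun t => by
    obtain ⟨k, hk⟩ := hV (a t)
    exact ⟨k, show t ∈ j ⁻¹ᵁ W k by rw [hW]; exact hk⟩
  -- the local lifts
  have hloc : ∀ k, ∃ e : (W k : Scheme.{u}) ⟶ Z',
      (j ∣_ W k) ≫ e = ((j ⁻¹ᵁ W k).ι ≫ a) ≫ i ∧ e ≫ h' = (W k).ι ≫ b := by
    intro k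
    have hra : Set.range ((j ⁻¹ᵁ W k).ι ≫ a) ⊆ Set.range (V k).ι := by
      rintro _ ⟨y, rfl⟩
      rw [Scheme.Opens.range_ι]
      show y.1 ∈ a ⁻¹ᵁ V k
      rw [← hW k]; exact y.2
    obtain ⟨e, ⟨he1, he2⟩, -⟩ := (hu k).2.2 _ _ (j ∣_ W k) ((W k).ι ≫ b) (IsOpenImmersion.lift (V k).ι _ hra)
      (fot_of_isPullback hj (isPullback_morphismRestrict j (W k)).flip.flip) (by
        rw [IsOpenImmersion.lift_fac_assoc, morphismRestrict_ι_assoc, hb, Category.assoc])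
    refine ⟨e ≫ o k, ?_, by rw [Category.assoc, he2]⟩
    rw [← Category.assoc, he1, Category.assoc, hs, IsOpenImmersion.lift_fac_assoc]
  choose e he1 he2 using hloc
  have hcompat : ∀ k (S' : Scheme.{u}) (p : S' ⟶ W k),
      pullback.fst j (p ≫ (W k).ι) ≫ a ≫ i = pullback.snd j (p ≫ (W k).ι) ≫ p ≫ e k := by
    intro k S' p
    have hl : Set.range (pullback.fst j (p ≫ (W k).ι)) ⊆ Set.range (j ⁻¹ᵁ W k).ι := by
      rintro _ ⟨y, rfl⟩
      rw [Scheme.Opens.range_ι]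
      show j (pullback.fst j (p ≫ (W k).ι) y) ∈ W k
      rw [← Scheme.Hom.comp_apply, pullback.condition, Scheme.Hom.comp_apply, Scheme.Hom.comp_apply]
      exact (p _).2
    have hl2 : IsOpenImmersion.lift (j ⁻¹ᵁ W k).ι _ hl ≫ (j ∣_ W k) = pullback.snd j (p ≫ (W k).ι) ≫ p := by
      rw [← cancel_mono (W k).ι, Category.assoc, morphismRestrict_ι, IsOpenImmersion.lift_fac_assoc,
        pullback.condition, Category.assoc]
    rw [← Category.assoc (pullback.snd j _), ← hl2, Category.assoc, he1, Category.assoc,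
      IsOpenImmersion.lift_fac_assoc]
  obtain ⟨g, hg⟩ := exists_glue_opens W hWtop e fun k l S' p q _ hpq => by
    refine uniqOn k (pullback j (p ≫ (W k).ι)) S' (pullback.snd _ _) (p ≫ (W k).ι ≫ b)
      (pullback.fst _ _ ≫ a) (fot_of_isPullback hj (IsPullback.of_hasPullback j (p ≫ (W k).ι)).flip) ?_ ?_
      _ _ ⟨?_, by rw [Category.assoc, he2]⟩ ⟨?_, by rw [Category.assoc, he2, ← reassoc_of% hpq]⟩
    · rw [Category.assoc, ← hb, ← Category.assoc p, ← pullback.condition_assoc]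
    · intro x
      show pullback.fst j (p ≫ (W k).ι) x ∈ a ⁻¹ᵁ V k
      rw [← hW k]
      show j (pullback.fst j (p ≫ (W k).ι) x) ∈ W k
      rw [← Scheme.Hom.comp_apply, pullback.condition, Scheme.Hom.comp_apply, Scheme.Hom.comp_apply]
      exact (p _).2
    · rw [Category.assoc]; exact (hcompat k S' p).symm
    · have h1 := hcompat l S' q
      rw [← hpq] at h1
      rw [Category.assoc]; exact h1.symm
  have hg1 : j ≫ g = a ≫ i := by
    refine Scheme.hom_ext_of_forall _ _ fun t => ?_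
    obtain ⟨k, hk⟩ := hV (a t)
    refine ⟨j ⁻¹ᵁ W k, by rw [hW]; exact hk, ?_⟩
    rw [← morphismRestrict_ι_assoc, hg, he1, Category.assoc]
  have hg2 : g ≫ h' = b := (T'.openCoverOfIsOpenCover W hWtop).hom_ext _ _ fun k => by
    show (W k).ι ≫ g ≫ h' = (W k).ι ≫ b
    rw [← Category.assoc, hg, he2]
  refine ⟨g, ⟨hg1, hg2⟩, fun g' ⟨h1, h2⟩ => (T'.openCoverOfIsOpenCover W hWtop).hom_ext _ _ fun k => ?_⟩
  show (W k).ι ≫ g' = (W k).ι ≫ g
  refine uniqOn k _ _ (j ∣_ W k) ((W k).ι ≫ b) ((j ⁻¹ᵁ W k).ι ≫ a)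
    (fot_of_isPullback hj (isPullback_morphismRestrict j (W k)).flip.flip)
    (by rw [morphismRestrict_ι_assoc, hb, Category.assoc]) ?_ _ _
    ⟨by rw [morphismRestrict_ι_assoc, h1, Category.assoc], by rw [Category.assoc, h2]⟩
    ⟨by rw [morphismRestrict_ι_assoc, hg1, Category.assoc], by rw [Category.assoc, hg2]⟩
  intro x
  show ((j ⁻¹ᵁ W k).ι x) ∈ a ⁻¹ᵁ V k
  rw [← hW k]; exact x.2

end Cover

/-- It suffices to test universality on affine thickenings. -/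
theorem isUnivThickening_of_affine_test {h : Z ⟶ X} {i : Z ⟶ Z'} {h' : Z' ⟶ X}
    (hfot : MoreMor.IsFirstOrderThickening i) (hc : i ≫ h' = h)
    (H : ∀ (T T' : Scheme.{u}) [IsAffine T'] (j : T ⟶ T') (b : T' ⟶ X) (a : T ⟶ Z),
      MoreMor.IsFirstOrderThickening j → j ≫ b = a ≫ h →
        ∃! a' : T' ⟶ Z', j ≫ a' = a ≫ i ∧ a' ≫ h' = b) :
    OmegaSh.IsUnivThickening h i h' := by
  have huniq : ∀ (T T' : Scheme.{u}) (j : T ⟶ T') (b : T' ⟶ X) (a : T ⟶ Z),
      MoreMor.IsFirstOrderThickening j → j ≫ b = a ≫ h → ∀ a₁ a₂ : T' ⟶ Z',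
        (j ≫ a₁ = a ≫ i ∧ a₁ ≫ h' = b) → (j ≫ a₂ = a ≫ i ∧ a₂ ≫ h' = b) → a₁ = a₂ := by
    intro T T' j b a hj hb a₁ a₂ h₁ h₂
    refine (T'.openCoverOfIsOpenCover (fun W : T'.affineOpens => W.1) (iSup_affineOpens_eq_top T')).hom_ext _ _
      fun W => ?_
    haveI : IsAffine (W.1 : Scheme.{u}) := W.2
    show W.1.ι ≫ a₁ = W.1.ι ≫ a₂
    exact (H _ _ (j ∣_ W.1) (W.1.ι ≫ b) ((j ⁻¹ᵁ W.1).ι ≫ a)
      (fot_of_isPullback hj (isPullback_morphismRestrict j W.1).flip.flip)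
      (by rw [morphismRestrict_ι_assoc, hb, Category.assoc])).unique
      ⟨by rw [morphismRestrict_ι_assoc, h₁.1, Category.assoc], by rw [Category.assoc, h₁.2]⟩
      ⟨by rw [morphismRestrict_ι_assoc, h₂.1, Category.assoc], by rw [Category.assoc, h₂.2]⟩
  refine ⟨hfot, hc, fun T T' j b a hj hb => ?_⟩
  let W : T'.affineOpens → T'.Opens := fun W => W.1
  have hWtop : ⨆ k, W k = ⊤ := iSup_affineOpens_eq_top T'
  have hloc : ∀ k, ∃ e : (W k : Scheme.{u}) ⟶ Z',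
      (j ∣_ W k) ≫ e = ((j ⁻¹ᵁ W k).ι ≫ a) ≫ i ∧ e ≫ h' = (W k).ι ≫ b := fun k => by
    haveI : IsAffine (W k : Scheme.{u}) := k.2
    exact (H _ _ (j ∣_ W k) ((W k).ι ≫ b) ((j ⁻¹ᵁ W k).ι ≫ a)
      (fot_of_isPullback hj (isPullback_morphismRestrict j (W k)).flip.flip)
      (by rw [morphismRestrict_ι_assoc, hb, Category.assoc])).exists
  choose e he1 he2 using hloc
  have hcompat : ∀ k (S' : Scheme.{u}) (p : S' ⟶ W k),
      pullback.fst j (p ≫ (W k).ι) ≫ a ≫ i = pullback.snd j (p ≫ (W k).ι) ≫ p ≫ e k := by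
    intro k S' p
    have sq := isPullback_morphismRestrict j (W k)
    have w : (pullback.snd j (p ≫ (W k).ι) ≫ p) ≫ (W k).ι = pullback.fst j (p ≫ (W k).ι) ≫ j := by
      rw [Category.assoc, pullback.condition]
    rw [← Category.assoc (pullback.snd j _), ← sq.lift_fst _ _ w, Category.assoc, he1, Category.assoc,
      sq.lift_snd_assoc]
  obtain ⟨g, hg⟩ := exists_glue_opens W hWtop e fun k l S' p q _ hpq => by
    refine huniq (pullback j (p ≫ (W k).ι)) S' (pullback.snd _ _) (p ≫ (W k).ι ≫ b)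
      (pullback.fst _ _ ≫ a) (fot_of_isPullback hj (IsPullback.of_hasPullback j (p ≫ (W k).ι)).flip) ?_
      _ _ ⟨?_, by rw [Category.assoc, he2]⟩ ⟨?_, by rw [Category.assoc, he2, ← reassoc_of% hpq]⟩
    · rw [Category.assoc, ← hb, ← Category.assoc p, ← pullback.condition_assoc]
    · rw [Category.assoc]; exact (hcompat k S' p).symm
    · have h1 := hcompat l S' q
      rw [← hpq] at h1
      rw [Category.assoc]; exact h1.symm
  have hg1 : j ≫ g = a ≫ i := by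
    refine Scheme.hom_ext_of_forall _ _ fun t => ?_
    obtain ⟨_, ⟨U, hU, rfl⟩, htU, -⟩ :=
      T'.isBasis_affineOpens.exists_subset_of_mem_open (Set.mem_univ (j t)) isOpen_univ
    refine ⟨j ⁻¹ᵁ U, htU, ?_⟩
    rw [← morphismRestrict_ι_assoc, hg ⟨U, hU⟩]
    exact (he1 ⟨U, hU⟩).trans (Category.assoc _ _ _)
  have hg2 : g ≫ h' = b := (T'.openCoverOfIsOpenCover W hWtop).hom_ext _ _ fun k => by
    show (W k).ι ≫ g ≫ h' = (W k).ι ≫ b
    rw [← Category.assoc, hg, he2]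
  exact ⟨g, ⟨hg1, hg2⟩, fun g' hg' => huniq T T' j b a hj hb _ _ hg' ⟨hg1, hg2⟩⟩

/-- Existence for a morphism of affine schemes. -/
theorem exists_univThickening_affine (h : Z ⟶ X) [IsAffine Z] [IsAffine X] [FormallyUnramified h] :
    ∃ (Z' : Scheme.{u}) (i : Z ⟶ Z') (h' : Z' ⟶ X), OmegaSh.IsUnivThickening h i h' := by
  letI : Algebra Γ(X, ⊤) Γ(Z, ⊤) := h.appTop.hom.toAlgebra
  haveI : Algebra.FormallyUnramified Γ(X, ⊤) Γ(Z, ⊤) :=
    HasRingHomProperty.appTop (P := @FormallyUnramified) h inferInstance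
  obtain ⟨B', _, _, π, hπ, hsq, huniv⟩ := _root_.H29Omega.exists_univThickening Γ(X, ⊤) Γ(Z, ⊤)
  let π' : CommRingCat.of B' ⟶ Γ(Z, ⊤) := CommRingCat.ofHom π.toRingHom
  let i : Z ⟶ Spec (CommRingCat.of B') := Z.isoSpec.hom ≫ Spec.map π'
  let φ : Γ(X, ⊤) ⟶ CommRingCat.of B' := CommRingCat.ofHom (algebraMap Γ(X, ⊤) B')
  let h' : Spec (CommRingCat.of B') ⟶ X := Spec.map φ ≫ X.isoSpec.inv
  let ν := Scheme.ΓSpecIso (CommRingCat.of B')
  have hi : i.appTop = ν.hom ≫ π' := by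
    simp only [i, Scheme.Hom.comp_appTop, Scheme.isoSpec_hom, Scheme.toSpecΓ_appTop]
    exact Scheme.ΓSpecIso_naturality π'
  have hh' : h'.appTop = φ ≫ ν.inv := by
    have key : X.isoSpec.inv.appTop ≫ (Scheme.ΓSpecIso Γ(X, ⊤)).hom = 𝟙 _ := by
      rw [← Scheme.toSpecΓ_appTop, ← Scheme.isoSpec_hom, ← Scheme.Hom.comp_appTop, Iso.hom_inv_id]
      rfl
    rw [Iso.eq_comp_inv]
    simp only [h', Scheme.Hom.comp_appTop, Category.assoc]
    rw [Scheme.ΓSpecIso_naturality, reassoc_of% key]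
  have hc : i ≫ h' = h := by
    refine ext_of_isAffine ?_
    rw [Scheme.Hom.comp_appTop, hh', hi, Category.assoc, Iso.inv_hom_id_assoc]
    exact CommRingCat.hom_ext (RingHom.ext fun r => π.commutes r)
  have hfot : MoreMor.IsFirstOrderThickening i := by
    let K := RingHom.ker π.toRingHom
    let eb : (B' ⧸ K) ≃+* Γ(Z, ⊤) := RingHom.quotientKerEquivOfSurjective hπ
    let e : Z ≅ Spec (CommRingCat.of (B' ⧸ K)) := Z.isoSpec ≪≫ Scheme.Spec.mapIso (eb.toCommRingCatIso).op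
    have he : π' = CommRingCat.ofHom (Ideal.Quotient.mk K) ≫ eb.toCommRingCatIso.hom :=
      CommRingCat.hom_ext (RingHom.ext fun x => (RingHom.quotientKerEquivOfSurjective_apply_mk hπ x).symm)
    refine fot_of_isPullback (fot_Spec B' K hsq) (f := 𝟙 _) (g := e.hom) ?_
    refine IsPullback.of_vert_isIso ⟨?_⟩
    show i ≫ 𝟙 _ = (Z.isoSpec.hom ≫ Spec.map eb.toCommRingCatIso.hom) ≫ _
    rw [Category.comp_id, Category.assoc, ← Spec.map_comp, ← he]
  refine ⟨_, i, h', isUnivThickening_of_affine_test hfot hc fun T T' _ j b a hj hb => ?_⟩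
  haveI := hj.1.1
  let C := Γ(T', ⊤)
  let I : Ideal C := RingHom.ker j.appTop.hom
  have hI : I ^ 2 = ⊥ := by
    rw [pow_two]
    have h2 := congrArg (fun J => Scheme.IdealSheafData.ideal J ⟨⊤, isAffineOpen_top T'⟩) hj.2
    simp [Scheme.Hom.ker_apply] at h2
    exact h2
  have hsurj : Function.Surjective j.appTop := j.app_surjective ⊤ (isAffineOpen_top T')
  let eC : (C ⧸ I) ≃+* Γ(T, ⊤) := RingHom.quotientKerEquivOfSurjective hsurj
  have heC : ∀ c, eC (Ideal.Quotient.mk I c) = j.appTop c := fun c =>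
    RingHom.quotientKerEquivOfSurjective_apply_mk hsurj c
  letI : Algebra Γ(X, ⊤) C := b.appTop.hom.toAlgebra
  have hb' := congrArg Scheme.Hom.appTop hb
  rw [Scheme.Hom.comp_appTop, Scheme.Hom.comp_appTop] at hb'
  let a₀ : Γ(Z, ⊤) →ₐ[Γ(X, ⊤)] C ⧸ I :=
    { eC.symm.toRingHom.comp a.appTop.hom with
      commutes' := fun r => eC.injective (by
        show eC (eC.symm (a.appTop (h.appTop r))) = eC (Ideal.Quotient.mk I (b.appTop r))
        rw [RingEquiv.apply_symm_apply, heC]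
        exact (congr($hb' r)).symm) }
  obtain ⟨ψ, hψ, hψu⟩ := huniv C I hI a₀
  have hψ' : ∀ x, j.appTop (ψ x) = a.appTop (π x) := fun x => by
    rw [← heC]
    exact (congrArg eC (AlgHom.congr_fun hψ x)).trans (eC.apply_symm_apply _)
  obtain ⟨a', ha'⟩ : ∃ a' : T' ⟶ Spec (CommRingCat.of B'),
      a'.appTop = ν.hom ≫ CommRingCat.ofHom ψ.toRingHom := by
    refine ⟨T'.toSpecΓ ≫ Spec.map (CommRingCat.ofHom ψ.toRingHom), ?_⟩
    rw [Scheme.Hom.comp_appTop, Scheme.toSpecΓ_appTop]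
    exact Scheme.ΓSpecIso_naturality _
  refine ⟨a', ⟨?_, ?_⟩, fun a'' ⟨h1, h2⟩ => ?_⟩
  · refine ext_of_isAffine ?_
    rw [Scheme.Hom.comp_appTop, Scheme.Hom.comp_appTop, ha', hi, Category.assoc, Category.assoc]
    exact congrArg (ν.hom ≫ ·) (CommRingCat.hom_ext (RingHom.ext hψ'))
  · refine ext_of_isAffine ?_
    rw [Scheme.Hom.comp_appTop, hh', ha', Category.assoc, Iso.inv_hom_id_assoc]
    exact CommRingCat.hom_ext (RingHom.ext fun r => ψ.commutes r)
  · refine ext_of_isAffine ?_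
    rw [ha', ← Iso.inv_comp_eq]
    have h1' := congrArg Scheme.Hom.appTop h1
    have h2' := congrArg Scheme.Hom.appTop h2
    rw [Scheme.Hom.comp_appTop, Scheme.Hom.comp_appTop, hi, Category.assoc, ← Iso.inv_comp_eq, ← Category.assoc] at h1'
    rw [Scheme.Hom.comp_appTop, hh', Category.assoc] at h2'
    let ψ₂ : B' →ₐ[Γ(X, ⊤)] C := { (ν.inv ≫ a''.appTop).hom with commutes' := fun r => congr($h2' r) }
    have h3 : ψ₂ = ψ := hψu ψ₂ (AlgHom.ext fun x => eC.injective (by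
      show eC (Ideal.Quotient.mk I (ψ₂ x)) = eC (eC.symm (a.appTop (π x)))
      rw [RingEquiv.apply_symm_apply, heC]
      exact congr($h1' x)))
    exact CommRingCat.hom_ext (RingHom.ext fun x => AlgHom.congr_fun h3 x)

/-- A universal thickening over an open of the base is one over the base. -/
theorem isUnivThickening_comp_openImmersion {U : Scheme.{u}} (k : U ⟶ X) [IsOpenImmersion k] {h : Z ⟶ U}
    {i : Z ⟶ Z'} {h' : Z' ⟶ U} (hu : OmegaSh.IsUnivThickening h i h') :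
    OmegaSh.IsUnivThickening (h ≫ k) i (h' ≫ k) := by
  obtain ⟨hfot, hc, huniv⟩ := hu
  refine ⟨hfot, by rw [← Category.assoc, hc], fun T T' j b a hj hb => ?_⟩
  have hr : Set.range b ⊆ Set.range k := by
    rintro _ ⟨t', rfl⟩
    obtain ⟨t, rfl⟩ := hj.1.2.surj t'
    refine ⟨(a ≫ h) t, ?_⟩
    rw [← Scheme.Hom.comp_apply, ← Scheme.Hom.comp_apply, hb, Category.assoc]
  obtain ⟨e, ⟨he1, he2⟩, heu⟩ := huniv T T' j (IsOpenImmersion.lift k b hr) a hj (by
    rw [← cancel_mono k, Category.assoc, IsOpenImmersion.lift_fac, Category.assoc, hb])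
  refine ⟨e, ⟨he1, by rw [← Category.assoc, he2, IsOpenImmersion.lift_fac]⟩, fun e' ⟨h1, h2⟩ => heu e' ⟨h1, ?_⟩⟩
  rw [← cancel_mono k, Category.assoc, h2, IsOpenImmersion.lift_fac]

/-- Restriction of a universal thickening along an open immersion into the source. -/
theorem exists_univThickening_restrict {Y : Scheme.{u}} (k : Y ⟶ Z) [IsOpenImmersion k] {h : Z ⟶ X}
    {i : Z ⟶ Z'} {h' : Z' ⟶ X} (hu : OmegaSh.IsUnivThickening h i h') :
    ∃ (V' : Z'.Opens) (i₀ : Y ⟶ V'), i ⁻¹ᵁ V' = k.opensRange ∧ i₀ ≫ V'.ι = k ≫ i ∧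
      OmegaSh.IsUnivThickening (k ≫ h) i₀ (V'.ι ≫ h') := by
  obtain ⟨hfot, hc, huniv⟩ := hu
  obtain ⟨V', hV'⟩ := exists_open_of_fot hfot k.opensRange
  have sq : IsPullback k.isoOpensRange.hom k k.opensRange.ι (𝟙 Z) :=
    IsPullback.of_horiz_isIso ⟨by simp⟩
  have hr : Set.range (k ≫ i) ⊆ Set.range V'.ι := by
    rintro _ ⟨y, rfl⟩
    rw [Scheme.Opens.range_ι]
    show k y ∈ i ⁻¹ᵁ V'
    rw [hV']; exact ⟨y, rfl⟩
  refine ⟨V', IsOpenImmersion.lift V'.ι _ hr, hV', IsOpenImmersion.lift_fac _ _ _, ?_, ?_, fun T T' j b a hj hb => ?_⟩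
  · exact fot_of_isPullback hfot (g := k) (f := V'.ι)
      (IsOpenImmersion.isPullback (IsOpenImmersion.lift V'.ι (k ≫ i) hr) k V'.ι i
        (IsOpenImmersion.lift_fac _ _ _).symm (by rw [Scheme.Opens.opensRange_ι, hV']))
  · rw [IsOpenImmersion.lift_fac_assoc, Category.assoc, hc]
  obtain ⟨e, ⟨he1, he2⟩, heu⟩ := huniv T T' j b (a ≫ k) hj (by rw [hb, Category.assoc])
  have her : Set.range e ⊆ Set.range V'.ι := by
    rintro _ ⟨t', rfl⟩
    rw [Scheme.Opens.range_ι]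
    exact mem_of_fot hj he1 V' (fun t => by
      show (a ≫ k) t ∈ i ⁻¹ᵁ V'
      rw [hV']; exact ⟨a t, rfl⟩) t'
  refine ⟨IsOpenImmersion.lift V'.ι e her, ⟨?_, ?_⟩, fun e' ⟨h1, h2⟩ => ?_⟩
  · rw [← cancel_mono V'.ι, Category.assoc, IsOpenImmersion.lift_fac, he1, Category.assoc, Category.assoc,
      IsOpenImmersion.lift_fac]
  · rw [IsOpenImmersion.lift_fac_assoc, he2]
  · rw [← cancel_mono V'.ι, IsOpenImmersion.lift_fac]
    refine heu _ ⟨?_, ?_⟩
    · rw [← Category.assoc, h1, Category.assoc, IsOpenImmersion.lift_fac, Category.assoc]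
    · rw [Category.assoc, h2]

/-- Two universal thickenings are isomorphic. -/
theorem exists_iso_univThickening {h : Z ⟶ X} {i : Z ⟶ Z'} {h' : Z' ⟶ X} {Z'' : Scheme.{u}} {i₂ : Z ⟶ Z''}
    {h₂ : Z'' ⟶ X} (hu : OmegaSh.IsUnivThickening h i h') (hu₂ : OmegaSh.IsUnivThickening h i₂ h₂) :
    ∃ e : Z' ≅ Z'', i ≫ e.hom = i₂ ∧ e.hom ≫ h₂ = h' := by
  obtain ⟨hf₁, hc₁, hu₁⟩ := hu
  obtain ⟨hf₂, hc₂, hu₂⟩ := hu₂
  obtain ⟨m, ⟨hm1, hm2⟩, -⟩ := hu₂ Z Z' i h' (𝟙 _) hf₁ (by rw [hc₁, Category.id_comp])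
  obtain ⟨n, ⟨hn1, hn2⟩, -⟩ := hu₁ Z Z'' i₂ h₂ (𝟙 _) hf₂ (by rw [hc₂, Category.id_comp])
  rw [Category.id_comp] at hm1 hn1
  refine ⟨⟨m, n, ?_, ?_⟩, hm1, hm2⟩
  · exact (hu₁ Z Z' i h' (𝟙 _) hf₁ (by rw [hc₁, Category.id_comp])).unique
      ⟨by rw [reassoc_of% hm1, hn1, Category.id_comp], by rw [Category.assoc, hn2, hm2]⟩
      ⟨by rw [Category.comp_id, Category.id_comp], Category.id_comp _⟩
  · exact (hu₂ Z Z'' i₂ h₂ (𝟙 _) hf₂ (by rw [hc₂, Category.id_comp])).unique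
      ⟨by rw [reassoc_of% hn1, hm1, Category.id_comp], by rw [Category.assoc, hm2, hn2]⟩
      ⟨by rw [Category.comp_id, Category.id_comp], Category.id_comp _⟩

/-- The opens of the source admitting a universal thickening. -/
def Good (h : Z ⟶ X) : Type u :=
  { V : Z.Opens // ∃ (T : Scheme.{u}) (i : (V : Scheme.{u}) ⟶ T) (h' : T ⟶ X),
      OmegaSh.IsUnivThickening (V.ι ≫ h) i h' }

instance (h : Z ⟶ X) : Preorder (Good h) := Preorder.lift Subtype.val

theorem good_of_le {h : Z ⟶ X} {V W : Z.Opens} (hVW : V ≤ W) {T : Scheme.{u}} {i : (W : Scheme.{u}) ⟶ T}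
    {h' : T ⟶ X} (hu : OmegaSh.IsUnivThickening (W.ι ≫ h) i h') :
    ∃ (V' : T.Opens) (i₀ : (V : Scheme.{u}) ⟶ V'), i₀ ≫ V'.ι = Z.homOfLE hVW ≫ i ∧
      OmegaSh.IsUnivThickening (V.ι ≫ h) i₀ (V'.ι ≫ h') := by
  obtain ⟨V', i₀, -, h1, h2⟩ := exists_univThickening_restrict (Z.homOfLE hVW) hu
  rw [Scheme.homOfLE_ι_assoc] at h2
  exact ⟨V', i₀, h1, h2⟩

theorem exists_good (h : Z ⟶ X) [FormallyUnramified h] (z : Z) : ∃ V : Good h, z ∈ V.1 := by
  obtain ⟨_, ⟨U, hU, rfl⟩, hzU, -⟩ :=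
    X.isBasis_affineOpens.exists_subset_of_mem_open (Set.mem_univ (h z)) isOpen_univ
  obtain ⟨_, ⟨V, hV, rfl⟩, hzV, hle⟩ :=
    Z.isBasis_affineOpens.exists_subset_of_mem_open (show z ∈ ((h ⁻¹ᵁ U : Z.Opens) : Set Z) from hzU)
      (h ⁻¹ᵁ U).2
  have e : V ≤ h ⁻¹ᵁ U := hle
  haveI : IsAffine (V : Scheme.{u}) := hV
  haveI : IsAffine (U : Scheme.{u}) := hU
  haveI : FormallyUnramified (h.resLE U V e) := by
    haveI : FormallyUnramified (h.resLE U V e ≫ Scheme.Opens.ι U) := by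
      rw [Scheme.Hom.resLE_comp_ι]
      haveI : IsIso (pullback.diagonal (Scheme.Opens.ι V)) := inferInstance
      haveI : FormallyUnramified (Scheme.Opens.ι V) := inferInstance
      exact MorphismProperty.comp_mem @FormallyUnramified _ _ inferInstance inferInstance
    exact FormallyUnramified.of_comp _ (Scheme.Opens.ι U)
  obtain ⟨T, i, h', hu⟩ := exists_univThickening_affine (h.resLE U V e)
  have h2 := isUnivThickening_comp_openImmersion (Scheme.Opens.ι U) hu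
  rw [Scheme.Hom.resLE_comp_ι] at h2
  exact ⟨⟨V, T, i, _, h2⟩, hzV⟩

section Glue

variable (h : Z ⟶ X)

noncomputable def gT (V : Good h) : Scheme.{u} := V.2.choose
noncomputable def gi (V : Good h) : (V.1 : Scheme.{u}) ⟶ gT h V := V.2.choose_spec.choose
noncomputable def gh (V : Good h) : gT h V ⟶ X := V.2.choose_spec.choose_spec.choose
theorem gu (V : Good h) : OmegaSh.IsUnivThickening (V.1.ι ≫ h) (gi h V) (gh h V) :=
  V.2.choose_spec.choose_spec.choose_spec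

theorem exists_gmap {V W : Good h} (hVW : V ≤ W) :
    ∃! m : gT h V ⟶ gT h W, gi h V ≫ m = Z.homOfLE hVW ≫ gi h W ∧ m ≫ gh h W = gh h V :=
  (gu h W).2.2 _ _ (gi h V) (gh h V) (Z.homOfLE hVW) (gu h V).1 (by
    rw [(gu h V).2.1, Scheme.homOfLE_ι_assoc])

noncomputable def gmap {V W : Good h} (hVW : V ≤ W) : gT h V ⟶ gT h W := (exists_gmap h hVW).exists.choose

theorem gmap_spec {V W : Good h} (hVW : V ≤ W) :
    gi h V ≫ gmap h hVW = Z.homOfLE hVW ≫ gi h W ∧ gmap h hVW ≫ gh h W = gh h V :=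
  (exists_gmap h hVW).exists.choose_spec

theorem gmap_unique {V W : Good h} (hVW : V ≤ W) {m : gT h V ⟶ gT h W}
    (h1 : gi h V ≫ m = Z.homOfLE hVW ≫ gi h W) (h2 : m ≫ gh h W = gh h V) : gmap h hVW = m :=
  (exists_gmap h hVW).unique (gmap_spec h hVW) ⟨h1, h2⟩

noncomputable def gFun : Good h ⥤ Scheme.{u} where
  obj := gT h
  map f := gmap h (leOfHom f)
  map_id V := gmap_unique h _ (by simp) (Category.id_comp _)
  map_comp {U V W} f g := gmap_unique h _
    (by rw [reassoc_of% (gmap_spec h (leOfHom f)).1, (gmap_spec h (leOfHom g)).1, ← Category.assoc,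
      Scheme.homOfLE_homOfLE])
    (by rw [Category.assoc, (gmap_spec h (leOfHom g)).2, (gmap_spec h (leOfHom f)).2])

instance gFun_isOpenImmersion {V W : Good h} (f : V ⟶ W) : IsOpenImmersion ((gFun h).map f) := by
  show IsOpenImmersion (gmap h (leOfHom f))
  obtain ⟨V', i₀, h1, h2⟩ := good_of_le (leOfHom f) (gu h W)
  obtain ⟨e, he1, he2⟩ := exists_iso_univThickening (gu h V) h2
  rw [gmap_unique h (leOfHom f) (m := e.hom ≫ V'.ι) (by rw [reassoc_of% he1, h1]) (by rw [Category.assoc, he2])]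
  infer_instance

instance gFun_isLocallyDirected : (gFun h ⋙ Scheme.forget).IsLocallyDirected := by
  constructor
  intro V W U f g xv xw hxy
  obtain ⟨zv, rfl⟩ := (gu h V).1.1.2.surj xv
  obtain ⟨zw, rfl⟩ := (gu h W).1.1.2.surj xw
  haveI := (gu h U).1.1.1
  have e1 : gi h U (Z.homOfLE (leOfHom f) zv) = gi h U (Z.homOfLE (leOfHom g) zw) := by
    rw [← Scheme.Hom.comp_apply, ← Scheme.Hom.comp_apply, ← (gmap_spec h (leOfHom f)).1,
      ← (gmap_spec h (leOfHom g)).1, Scheme.Hom.comp_apply, Scheme.Hom.comp_apply]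
    exact hxy
  have e2 : zv.1 = zw.1 := by
    have e3 := congrArg U.1.ι ((gi h U).isClosedEmbedding.injective e1)
    simpa [← Scheme.Hom.comp_apply] using e3
  let L : Good h := ⟨V.1 ⊓ W.1, by
    obtain ⟨V', i₀, -, h2⟩ := good_of_le (inf_le_left : V.1 ⊓ W.1 ≤ V.1) (gu h V)
    exact ⟨_, _, _, h2⟩⟩
  let z : (L.1 : Scheme.{u}) := ⟨zv.1, zv.2, e2 ▸ zw.2⟩
  have hl : L ≤ V := show L.1 ≤ V.1 from inf_le_left
  have hr : L ≤ W := show L.1 ≤ W.1 from inf_le_right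
  refine ⟨L, homOfLE hl, homOfLE hr, gi h L z, ?_, ?_⟩
  · show gmap h hl (gi h L z) = gi h V zv
    rw [← Scheme.Hom.comp_apply, (gmap_spec h hl).1, Scheme.Hom.comp_apply]
    congr 1
    apply V.1.ι.isOpenEmbedding.injective
    rw [← Scheme.Hom.comp_apply, Scheme.homOfLE_ι]
    rfl
  · show gmap h hr (gi h L z) = gi h W zw
    rw [← Scheme.Hom.comp_apply, (gmap_spec h hr).1, Scheme.Hom.comp_apply]
    congr 1
    apply W.1.ι.isOpenEmbedding.injective
    rw [← Scheme.Hom.comp_apply, Scheme.homOfLE_ι]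
    exact e2

end Glue

/-- Universal first order thickenings exist. -/
theorem exists_univThickening_scheme (h : Z ⟶ X) [FormallyUnramified h] :
    ∃ (Z' : Scheme.{u}) (i : Z ⟶ Z') (h' : Z' ⟶ X), OmegaSh.IsUnivThickening h i h' := by
  let F := gFun h
  let o : ∀ V : Good h, gT h V ⟶ colimit F := fun V => colimit.ι F V
  haveI : ∀ V, IsOpenImmersion (o V) := fun V => inferInstanceAs (IsOpenImmersion (colimit.ι F V))
  have ho : ∀ {V W : Good h} (hVW : V ≤ W), gmap h hVW ≫ o W = o V := fun hVW => colimit.w F (homOfLE hVW)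
  let c : Cocone F :=
    { pt := X
      ι := { app := gh h
             naturality := fun V W f => by
               show gmap h (leOfHom f) ≫ gh h W = gh h V ≫ 𝟙 _
               rw [Category.comp_id, (gmap_spec h _).2] } }
  let h' : colimit F ⟶ X := colimit.desc F c
  have hh' : ∀ V, o V ≫ h' = gh h V := fun V => colimit.ι_desc c V
  have hcov : ⨆ V : Good h, V.1 = ⊤ := eq_top_iff.mpr fun z _ => by
    obtain ⟨V, hz⟩ := exists_good h z
    exact Opens.mem_iSup.mpr ⟨V, hz⟩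
  obtain ⟨i, hi⟩ := exists_glue_opens (fun V : Good h => V.1) hcov (fun V => gi h V ≫ o V)
    fun V W S p q _ hpq => by
      let L : Good h := ⟨V.1 ⊓ W.1, by
        obtain ⟨V', i₀, -, h2⟩ := good_of_le (inf_le_left : V.1 ⊓ W.1 ≤ V.1) (gu h V)
        exact ⟨_, _, _, h2⟩⟩
      have hl : L ≤ V := show L.1 ≤ V.1 from inf_le_left
      have hr : L ≤ W := show L.1 ≤ W.1 from inf_le_right
      have hran : Set.range (p ≫ V.1.ι) ⊆ Set.range L.1.ι := by
        rintro _ ⟨s, rfl⟩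
        rw [Scheme.Opens.range_ι]
        refine ⟨(p s).2, ?_⟩
        rw [hpq]; exact (q s).2
      obtain ⟨r, hr'⟩ : ∃ r, r ≫ L.1.ι = p ≫ V.1.ι := ⟨_, IsOpenImmersion.lift_fac L.1.ι _ hran⟩
      have e1 : p = r ≫ Z.homOfLE hl := by rw [← cancel_mono V.1.ι, Category.assoc, Scheme.homOfLE_ι, hr']
      have e2 : q = r ≫ Z.homOfLE hr := by rw [← cancel_mono W.1.ι, Category.assoc, Scheme.homOfLE_ι, hr', hpq]
      rw [e1, e2, Category.assoc, Category.assoc, ← reassoc_of% (gmap_spec h hl).1, ho hl,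
        ← reassoc_of% (gmap_spec h hr).1, ho hr]
  have hr : ∀ V, i ⁻¹ᵁ (o V).opensRange = V.1 := by
    intro V
    ext z
    constructor
    · rintro ⟨x, hx⟩
      obtain ⟨W, hzW⟩ := exists_good h z
      have e1 : o V x = o W (gi h W ⟨z, hzW⟩) := by
        rw [hx, ← Scheme.Hom.comp_apply, ← hi W]
        rfl
      obtain ⟨K, fv, fw, y, -, hy2⟩ := (Scheme.IsLocallyDirected.ι_eq_ι_iff F).1 e1
      obtain ⟨w, rfl⟩ := (gu h K).1.1.2.surj y
      have e2 : gi h W (Z.homOfLE (leOfHom fw) w) = gi h W ⟨z, hzW⟩ := by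
        rw [← hy2, ← Scheme.Hom.comp_apply, ← (gmap_spec h (leOfHom fw)).1]
        rfl
      haveI := (gu h W).1.1.1
      have e3 := congrArg W.1.ι ((gi h W).isClosedEmbedding.injective e2)
      rw [← Scheme.Hom.comp_apply, Scheme.homOfLE_ι] at e3
      have e4 : z = w.1 := e3.symm
      rw [e4]
      exact leOfHom fv w.2
    · intro hz
      refine ⟨gi h V ⟨z, hz⟩, ?_⟩
      rw [← Scheme.Hom.comp_apply, ← hi V]
      rfl
  have sq : ∀ V : Good h, IsPullback (gi h V) V.1.ι (o V) i := fun V =>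
    IsOpenImmersion.isPullback (gi h V) V.1.ι (o V) i (hi V) (by rw [hr V, Scheme.Opens.opensRange_ι])
  have hfot : MoreMor.IsFirstOrderThickening i := by
    haveI hci : IsClosedImmersion i := by
      refine IsZariskiLocalAtTarget.of_openCover (P := @IsClosedImmersion)
        (Scheme.IsLocallyDirected.openCover F) fun V => ?_
      show IsClosedImmersion (pullback.snd i (o V))
      rw [← (sq V).flip.isoPullback_inv_snd]
      haveI := (gu h V).1.1.1
      infer_instance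
    refine ⟨⟨hci, ⟨fun x => ?_⟩⟩, eq_bot_of_comap_eq_bot _ (Scheme.IsLocallyDirected.openCover F) fun V => ?_⟩
    · obtain ⟨V, xv, rfl⟩ := Scheme.IsLocallyDirected.ι_jointly_surjective F x
      obtain ⟨zv, rfl⟩ := (gu h V).1.1.2.surj xv
      exact ⟨V.1.ι zv, by rw [← Scheme.Hom.comp_apply, hi V]; rfl⟩
    · show (i.ker * i.ker).comap (o V) = ⊥
      have hk : i.ker.comap (o V) = (gi h V).ker := by
        rw [← (sq V).isoPullback_hom_fst, Scheme.Hom.ker_comp_of_isIso,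
          Scheme.IdealSheafData.ker_fst_of_isClosedImmersion]
      rw [H29Blow.comap_mul, hk]
      exact (gu h V).1.2
  refine ⟨_, i, h', isUnivThickening_of_cover (V := fun V : Good h => V.1) (P := gT h) (o := o)
    (s := gi h) (exists_good h) hfot ?_ (fun V => (hi V).symm) hr fun V => by rw [hh']; exact gu h V⟩
  refine (Z.openCoverOfIsOpenCover _ hcov).hom_ext _ _ fun V => ?_
  show V.1.ι ≫ i ≫ h' = V.1.ι ≫ h
  rw [reassoc_of% (hi V), hh', (gu h V).2.1]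

end Groth.Agent.H29Omega
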