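import Groth.Prelude.Def_Omega3
import Groth.Agent.H29Blow.Basic
import Groth.Agent.H17.KerStalk
import Groth.Agent.H29Omega.ConormalMapStalk
import Groth.Agent.H29Omega.ConormalDiffStalk
import Groth.Agent.H29Omega.UnivThickExists
import Mathlib

/-!
# Transitivity sequence of conormal sheaves of thickenings
-/

set_option autoImplicit false
set_option linter.style.haveILetI false
set_option maxHeartbeats 400000
universe u

open CategoryTheory CategoryTheory.Limits AlgebraicGeometry TopologicalSpace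

namespace Groth.Agent.H29Omega

open Groth.Agent.H06Mod

attribute [local instance] Groth.Agent.H06Mod.stalkAlgebra

/-- Every element of the stalk of the pullback along the identity is a pullback. -/
theorem pullStalk_id_surjective {Z : Scheme.{u}} (M : Z.Modules) (z : Z) :
    Function.Surjective (pullStalk (𝟙 Z) M z) := by
  intro w
  obtain ⟨t, rfl⟩ := (pullStalkEquiv (𝟙 Z) M z).surjective w
  induction t using TensorProduct.induction_on with
  | zero => exact ⟨0, (map_zero _).trans (map_zero _).symm⟩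
  | add a b ha hb =>
    obtain ⟨x, hx⟩ := ha
    obtain ⟨y, hy⟩ := hb
    exact ⟨x + y, by rw [map_add, map_add, hx, hy]⟩
  | tmul r m =>
    obtain ⟨r', hr⟩ := (ConcreteCategory.bijective_of_isIso ((𝟙 Z : Z ⟶ Z).stalkMap z)).2 r
    refine ⟨r' • m, ?_⟩
    rw [pullStalk_smul]
    show _ = pullStalkLin (𝟙 Z) M z (r ⊗ₜ m)
    rw [pullStalkLin_tmul]
    exact congrArg (· • pullStalk (𝟙 Z) M z m) hr

/-- The kernel of a closed immersion on local rings, at a point given up to equality. -/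
theorem ker_stalkMap_congr {A B : Scheme.{u}} (n : A ⟶ B) [IsClosedImmersion n] (p : A) (q : B)
    (hq : n p = q) (W : B.affineOpens) (hW : q ∈ W.1) :
    RingHom.ker (B.presheaf.stalkSpecializes (specializes_of_eq hq) ≫ n.stalkMap p).hom =
      (n.ker.ideal W).map (B.presheaf.germ W.1 q hW).hom := by
  subst hq
  rw [TopCat.Presheaf.stalkSpecializes_refl, Category.id_comp, Scheme.Hom.ker_apply]
  haveI : IsClosedImmersion (n ∣_ W.1) := IsZariskiLocalAtTarget.restrict (P := @IsClosedImmersion) inferInstance W.1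
  exact H17.ker_stalkMap_eq_map n W.2 p hW

variable {Z Y Z' Y' Z'' : Scheme.{u}} {i : Z ⟶ Y} {i' : Z ⟶ Z'} {j : Y ⟶ Y'} {m : Z' ⟶ Y'}
  {i'' : Z ⟶ Z''} {n : Z'' ⟶ Z'}

/-- Right exactness of the transitivity sequence when `Z''` is cut out of `Z'` by the ideal of `Y`. -/
theorem exact_conormal_transitivity [IsClosedImmersion i'] [IsClosedImmersion i''] [IsClosedImmersion j]
    [IsClosedImmersion n] (hker : n.ker = j.ker.comap m)
    {ψ₁ : (Scheme.Modules.pullback i).obj (Omega.conormal j) ⟶ Omega.conormal i'}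
    (hψ₁ : OmegaSh.IsConormalMap i' j m i ψ₁)
    {ψ₂ : (Scheme.Modules.pullback (𝟙 Z)).obj (Omega.conormal i') ⟶ Omega.conormal i''}
    (hψ₂ : OmegaSh.IsConormalMap i'' i' n (𝟙 Z) ψ₂) :
    ∃ w : (Scheme.Modules.pullback (𝟙 Z)).map ψ₁ ≫ ψ₂ = 0, (ShortComplex.mk _ _ w).Exact ∧ Epi ψ₂ := by
  have he : ∀ z, n (i'' z) = i' z := fun z => by
    rw [← Scheme.Hom.comp_apply, ← hψ₂.1, Category.id_comp]
  -- the map of local rings along `n`
  let β : ∀ z : Z, Z'.presheaf.stalk (i'.base z) →+* Z''.presheaf.stalk (i''.base z) :=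
    fun z => (baseStalkMap i' i'' n (𝟙 Z) hψ₂.1 z).hom
  have hβsurj : ∀ z, Function.Surjective (β z) := by
    intro z x
    obtain ⟨y, hy⟩ := n.stalkMap_surjective (i'' z) x
    haveI : IsIso (Z'.presheaf.stalkSpecializes (specializes_of_eq (he z))) :=
      ⟨⟨Z'.presheaf.stalkSpecializes (specializes_of_eq (he z).symm), by simp, by simp⟩⟩
    obtain ⟨y', hy'⟩ := (ConcreteCategory.bijective_of_isIso
      (Z'.presheaf.stalkSpecializes (specializes_of_eq (he z)))).2 y
    exact ⟨y', (congrArg (n.stalkMap (i'' z)) hy').trans hy⟩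
  have hid : ∀ (z : Z) (x : Z.presheaf.stalk z), (𝟙 Z : Z ⟶ Z).stalkMap z x = x := fun z x => by
    rw [Scheme.Hom.stalkMap_id]
    rfl
  have hβcomp : ∀ z a, (i''.stalkMap z).hom (β z a) = (i'.stalkMap z).hom a := fun z a =>
    (congr($(congrArg CommRingCat.Hom.hom (baseStalkMap_comp i' i'' n (𝟙 Z) hψ₂.1 z)) a)).trans (hid z _)
  have hmem : ∀ z a, β z a ∈ RingHom.ker (i''.stalkMap z).hom ↔ a ∈ RingHom.ker (i'.stalkMap z).hom := fun z a => by
    rw [RingHom.mem_ker, RingHom.mem_ker, hβcomp]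
  have hβker : ∀ (z : Z) (W : Z'.affineOpens) (hW : i'.base z ∈ W.1),
      RingHom.ker (β z) = (n.ker.ideal W).map (Z'.presheaf.germ W.1 (i'.base z) hW).hom := fun z W hW =>
    ker_stalkMap_congr n (i'' z) (i' z) (he z) W hW
  -- the second map on stalks
  let ρ : ∀ z : Z, (Omega.conormal i').presheaf.stalk z →ₗ[Z.presheaf.stalk z] (Omega.conormal i'').presheaf.stalk z :=
    fun z =>
    { toFun := fun v => stalkLin ψ₂ z (pullStalk (𝟙 Z) (Omega.conormal i') z v)
      map_add' := fun a b => (congrArg (stalkLin ψ₂ z) (map_add (pullStalk (𝟙 Z) (Omega.conormal i') z).hom a b)).trans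
        (map_add _ _ _)
      map_smul' := fun r a => by
        refine (congrArg (stalkLin ψ₂ z) (pullStalk_smul (𝟙 Z) (Omega.conormal i') z r a)).trans ?_
        refine (map_smul _ _ _).trans ?_
        exact congrArg (· • stalkLin ψ₂ z (pullStalk (𝟙 Z) (Omega.conormal i') z a)) (hid z r) }
  have hρ : ∀ z (a : RingHom.ker (i'.stalkMap z).hom),
      ρ z (cgen i' z a) = cgen i'' z ⟨β z a.1, (hmem z _).2 a.2⟩ := fun z a =>
    stalkLin_conormalMap hψ₂ z a
  -- the kernel of `n` maps into the image of the first map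
  have hkS : ∀ (z : Z) (a : RingHom.ker (i'.stalkMap z).hom), β z a.1 = 0 →
      cgen i' z a ∈ LinearMap.range (stalkLin ψ₁ z) := by
    intro z a ha
    obtain ⟨_, ⟨U', hU', rfl⟩, hyU, -⟩ :=
      Y'.isBasis_affineOpens.exists_subset_of_mem_open (Set.mem_univ (j (i z))) isOpen_univ
    have hzm : i' z ∈ m ⁻¹ᵁ U' := by
      show (i' ≫ m) z ∈ U'
      rw [← hψ₁.1]; exact hyU
    obtain ⟨_, ⟨W, hW, rfl⟩, hzW, hle⟩ :=
      Z'.isBasis_affineOpens.exists_subset_of_mem_open hzm (m ⁻¹ᵁ U').2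
    have hK : a.1 ∈ RingHom.ker (β z) := ha
    rw [hβker z ⟨W, hW⟩ hzW, hker, H29Blow.ideal_comap j.ker m ⟨U', hU'⟩ ⟨W, hW⟩ hle, Ideal.map_map] at hK
    suffices h : ∀ x ∈ Ideal.map ((Z'.presheaf.germ W (i'.base z) hzW).hom.comp (m.appLE U' W hle).hom)
        (j.ker.ideal ⟨U', hU'⟩), ∃ hx : x ∈ RingHom.ker (i'.stalkMap z).hom,
        cgen i' z ⟨x, hx⟩ ∈ LinearMap.range (stalkLin ψ₁ z) by
      obtain ⟨_, hx⟩ := h _ hK
      exact hx
    intro x hx
    induction hx using Submodule.span_induction with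
    | zero => exact ⟨zero_mem _, by rw [show (⟨0, zero_mem _⟩ : RingHom.ker (i'.stalkMap z).hom) = 0 from rfl, map_zero]; exact zero_mem _⟩
    | add p q _ _ hp hq =>
      obtain ⟨hp, hp'⟩ := hp
      obtain ⟨hq, hq'⟩ := hq
      refine ⟨add_mem hp hq, ?_⟩
      rw [show (⟨p + q, add_mem hp hq⟩ : RingHom.ker (i'.stalkMap z).hom) = ⟨p, hp⟩ + ⟨q, hq⟩ from rfl, map_add]
      exact add_mem hp' hq'
    | smul r p _ hp =>
      obtain ⟨hp, hp'⟩ := hp
      refine ⟨Submodule.smul_mem _ r hp, ?_⟩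
      rw [show (⟨r • p, Submodule.smul_mem _ r hp⟩ : RingHom.ker (i'.stalkMap z).hom) = r • ⟨p, hp⟩ from rfl,
        cgen_smul]
      exact Submodule.smul_mem _ _ hp'
    | mem p hp =>
      obtain ⟨s, hs, rfl⟩ := hp
      rw [SetLike.mem_coe, Scheme.Hom.ker_apply] at hs
      have ha0 : Y'.presheaf.germ U' (j (i z)) hyU s ∈ RingHom.ker (j.stalkMap (i z)).hom := by
        rw [RingHom.mem_ker]
        erw [Scheme.Hom.germ_stalkMap_apply]
        rw [RingHom.mem_ker.1 hs, map_zero]
      have hb : (baseStalkMap j i' m i hψ₁.1 z).hom (Y'.presheaf.germ U' (j (i z)) hyU s) =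
          Z'.presheaf.germ W (i' z) hzW (m.appLE U' W hle s) :=
        baseStalkMap_germ hψ₁.1 z U' hyU W hle hzW s
      have hm := baseStalkMap_mem_ker hψ₁.1 z ⟨_, ha0⟩
      dsimp only at hm
      rw [hb] at hm
      exact ⟨hm, ⟨_, (stalkLin_conormalMap hψ₁ z ⟨_, ha0⟩).trans (congrArg (cgen i' z) (Subtype.ext hb))⟩⟩
  -- the composite vanishes
  have hzero : ∀ z v, ρ z (stalkLin ψ₁ z v) = 0 := by
    intro z v
    obtain ⟨t, rfl⟩ := (pullStalkEquiv i (Omega.conormal j) z).surjective v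
    induction t using TensorProduct.induction_on with
    | zero => rw [map_zero, map_zero, map_zero]
    | add p q hp hq => rw [map_add, map_add, map_add, hp, hq, add_zero]
    | tmul r c =>
      show ρ z (stalkLin ψ₁ z (pullStalkLin i (Omega.conormal j) z (r ⊗ₜ c))) = 0
      rw [pullStalkLin_tmul, map_smul, map_smul]
      refine smul_eq_zero_of_right _ ?_
      have hc : c ∈ Submodule.span (Y.presheaf.stalk (i.base z)) (Set.range (cgen j (i.base z))) := by
        rw [span_cgen]; trivial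
      clear r
      induction hc using Submodule.span_induction with
      | zero => rw [map_zero, map_zero, map_zero]
      | add p q _ _ hp hq => rw [map_add, map_add, map_add, hp, hq, add_zero]
      | smul r p _ hp => rw [pullStalk_smul, map_smul, map_smul, hp, smul_zero]
      | mem p hp =>
        obtain ⟨a, rfl⟩ := hp
        rw [stalkLin_conormalMap hψ₁ z a, hρ]
        suffices h0 : β z ((baseStalkMap j i' m i hψ₁.1 z).hom a.1) = 0 by
          rw [show (⟨_, _⟩ : RingHom.ker (i''.stalkMap z).hom) = 0 from Subtype.ext h0, map_zero]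
        obtain ⟨_, ⟨U', hU', rfl⟩, hyU, -⟩ :=
          Y'.isBasis_affineOpens.exists_subset_of_mem_open (Set.mem_univ (j (i z))) isOpen_univ
        have hzm : i' z ∈ m ⁻¹ᵁ U' := by
          show (i' ≫ m) z ∈ U'
          rw [← hψ₁.1]; exact hyU
        obtain ⟨_, ⟨W, hW, rfl⟩, hzW, hle⟩ :=
          Z'.isBasis_affineOpens.exists_subset_of_mem_open hzm (m ⁻¹ᵁ U').2
        haveI : IsClosedImmersion (j ∣_ U') := IsZariskiLocalAtTarget.restrict (P := @IsClosedImmersion) inferInstance U'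
        have haJ := (H17.ker_stalkMap_eq_map j hU' (i z) hyU).le a.2
        refine RingHom.mem_ker.1 ?_
        rw [hβker z ⟨W, hW⟩ hzW, hker, H29Blow.ideal_comap j.ker m ⟨U', hU'⟩ ⟨W, hW⟩ hle, Scheme.Hom.ker_apply]
        have := Ideal.mem_map_of_mem (baseStalkMap j i' m i hψ₁.1 z).hom haJ
        rw [Ideal.map_map] at this
        rw [Ideal.map_map]
        convert this using 2
        exact (RingHom.ext fun s => (baseStalkMap_germ hψ₁.1 z U' hyU W hle hzW s)).symm
  have hw : (Scheme.Modules.pullback (𝟙 Z)).map ψ₁ ≫ ψ₂ = 0 := by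
    refine eq_zero_of_stalkLin _ fun z w => ?_
    obtain ⟨v, rfl⟩ := pullStalk_id_surjective _ z w
    rw [stalkLin_comp]
    erw [pullStalk_naturality (𝟙 Z) _ z ψ₁ v]
    exact hzero z v
  -- exactness
  have hexact : ∀ z v, ρ z v = 0 → v ∈ LinearMap.range (stalkLin ψ₁ z) := by
    intro z v hv
    let S := LinearMap.range (stalkLin ψ₁ z)
    choose L hL using hβsurj z
    let lift : RingHom.ker (i''.stalkMap z).hom → RingHom.ker (i'.stalkMap z).hom := fun a =>
      ⟨L a.1, (hmem z _).1 (by rw [hL]; exact a.2)⟩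
    have hlift : ∀ (a : RingHom.ker (i''.stalkMap z).hom) (b : RingHom.ker (i'.stalkMap z).hom),
        β z b.1 = a.1 → S.mkQ (cgen i' z (lift a)) = S.mkQ (cgen i' z b) := by
      intro a b hb
      rw [← sub_eq_zero, ← map_sub, ← map_sub, Submodule.mkQ_apply, Submodule.Quotient.mk_eq_zero]
      refine hkS z _ ?_
      show β z (L a.1 - b.1) = 0
      rw [map_sub, hb, hL, sub_self]
    let f : RingHom.ker (i''.stalkMap z).hom →+ ((Omega.conormal i').presheaf.stalk z ⧸ S) :=
      { toFun := fun a => S.mkQ (cgen i' z (lift a))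
        map_zero' := by rw [hlift 0 0 (map_zero _), map_zero, map_zero]
        map_add' := fun a b => by
          rw [hlift (a + b) (lift a + lift b) (by
            show β z (L a.1 + L b.1) = a.1 + b.1
            rw [map_add, hL, hL]), map_add, map_add] }
    have hf : ∀ (r : Z''.presheaf.stalk (i''.base z)) a, f (r • a) = (i''.stalkMap z).hom r • f a := by
      intro r a
      obtain ⟨r', rfl⟩ := hβsurj z r
      show S.mkQ (cgen i' z (lift (β z r' • a))) = _
      rw [hlift (β z r' • a) (r' • lift a) (by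
        show β z (r' * L a.1) = β z r' * a.1
        rw [map_mul, hL]), cgen_smul, map_smul, hβcomp]
      rfl
    obtain ⟨g, hg⟩ := exists_lift_cgen i'' z f hf
    have hgen : g ∘ₗ ρ z = S.mkQ := by
      refine LinearMap.ext_on_range (span_cgen i' z) fun a => ?_
      rw [LinearMap.comp_apply, hρ, hg]
      exact hlift _ _ rfl
    have h0 : S.mkQ v = 0 := by rw [← hgen, LinearMap.comp_apply, hv, map_zero]
    rwa [Submodule.mkQ_apply, Submodule.Quotient.mk_eq_zero] at h0
  refine ⟨hw, exact_of_stalks _ fun z w hwz => ?_, epi_of_surjective_stalkLin ψ₂ fun z w => ?_⟩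
  · obtain ⟨v, rfl⟩ := pullStalk_id_surjective _ z w
    obtain ⟨t, rfl⟩ := hexact z v hwz
    exact ⟨pullStalk (𝟙 Z) _ z t, pullStalk_naturality (𝟙 Z) _ z ψ₁ t⟩
  · have hsur : LinearMap.range (ρ z) = ⊤ := by
      rw [eq_top_iff, ← span_cgen i'' z, Submodule.span_le]
      rintro _ ⟨a, rfl⟩
      obtain ⟨b, hb⟩ := hβsurj z a.1
      exact ⟨cgen i' z ⟨b, (hmem z b).1 (by rw [hb]; exact a.2)⟩, (hρ z _).trans (congrArg _ (Subtype.ext hb))⟩
    obtain ⟨v, hv⟩ := LinearMap.range_eq_top.1 hsur w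
    exact ⟨_, hv⟩

/-- The morphism of thickenings identifies `Z''` with the part of `Z'` over `Y`. -/
theorem isClosedImmersion_ker_of_univ {X : Scheme.{u}} {b : Y ⟶ X} {c : Z' ⟶ X} {d : Y' ⟶ X}
    (hZ' : OmegaSh.IsUnivThickening (i ≫ b) i' c) (hY' : OmegaSh.IsUnivThickening b j d)
    (hm₁ : i' ≫ m = i ≫ j) (hm₂ : m ≫ d = c) {e : Z'' ⟶ Y} (hZ'' : OmegaSh.IsUnivThickening i i'' e)
    (hn₁ : i'' ≫ n = i') (hn₂ : n ≫ c = e ≫ b)
    (hQ : OmegaSh.IsUnivThickening i (pullback.lift i i' hm₁.symm) (pullback.fst j m)) :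
    IsClosedImmersion n ∧ n.ker = j.ker.comap m := by
  obtain ⟨ε, hε1, hε2⟩ := exists_iso_univThickening hZ'' hQ
  have hn : n = ε.hom ≫ pullback.snd j m := by
    refine (hZ'.2.2 Z Z'' i'' (e ≫ b) (𝟙 Z) hZ''.1 ?_).unique ⟨?_, hn₂⟩ ⟨?_, ?_⟩
    · rw [← Category.assoc, hZ''.2.1, Category.id_comp]
    · rw [hn₁, Category.id_comp]
    · rw [reassoc_of% hε1, pullback.lift_snd, Category.id_comp]
    · rw [← hm₂, Category.assoc, ← pullback.condition_assoc, hY'.2.1, reassoc_of% hε2]
  haveI : IsClosedImmersion j := hY'.1.1.1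
  refine ⟨by rw [hn]; infer_instance, ?_⟩
  rw [hn, Scheme.Hom.ker_comp_of_isIso,
    ← pullbackSymmetry_hom_comp_fst j m, Scheme.Hom.ker_comp_of_isIso,
    Scheme.IdealSheafData.ker_fst_of_isClosedImmersion]

end Groth.Agent.H29Omega
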