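import Groth.Prelude.Def_Omega3
import Groth.Prelude.Def_MoreMor
import Groth.Agent.H29Omega.ConormalTrans
import Groth.Agent.H29Omega.StalkCompat
import Mathlib

/-!
# The split sequence of a formally smooth morphism on universal thickenings
-/

set_option autoImplicit false
set_option linter.style.haveILetI false
set_option maxHeartbeats 400000
universe u

open CategoryTheory CategoryTheory.Limits AlgebraicGeometry TopologicalSpace TensorProduct

namespace Groth.Agent.H29Omega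

open Groth.Agent.H06Mod

attribute [local instance] Groth.Agent.H06Mod.stalkAlgebra

variable {Z X Y Z' Z'' : Scheme.{u}}

/-- Formally smooth morphisms give local sections of maps of universal thickenings. -/
theorem exists_local_section {i : Z ⟶ X} {p : X ⟶ Y} (hp : MoreMor.IsFormallySmoothHom p) {i' : Z ⟶ Z'}
    {a : Z' ⟶ X} (hZ' : OmegaSh.IsUnivThickening i i' a) {i'' : Z ⟶ Z''} {b : Z'' ⟶ Y}
    (hZ'' : OmegaSh.IsUnivThickening (i ≫ p) i'' b) {k : Z' ⟶ Z''} (hk₁ : i' ≫ k = i'') (hk₂ : k ≫ b = a ≫ p)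
    (z : Z) :
    ∃ (W : Z''.Opens) (σ : (W : Scheme.{u}) ⟶ Z'),
      z ∈ i'' ⁻¹ᵁ W ∧ (i'' ∣_ W) ≫ σ = (i'' ⁻¹ᵁ W).ι ≫ i' ∧ σ ≫ k = W.ι := by
  obtain ⟨_, ⟨W₀, hW₀, rfl⟩, hzW, -⟩ :=
    Z''.isBasis_affineOpens.exists_subset_of_mem_open (Set.mem_univ (i'' z)) isOpen_univ
  obtain ⟨W, hW, rfl⟩ : ∃ W : Z''.Opens, IsAffineOpen W ∧ W = W₀ := ⟨W₀, hW₀, rfl⟩
  have hU : IsAffineOpen (i'' ⁻¹ᵁ W) := isAffineOpen_preimage hZ''.1 hW
  haveI := hZ''.1.1.1
  let A := Γ(Z'', W)
  let I : Ideal A := RingHom.ker (i''.app W).hom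
  have hI : I ^ 2 = ⊥ := by
    rw [pow_two]
    have h2 := congrArg (fun J => Scheme.IdealSheafData.ideal J ⟨W, hW⟩) hZ''.1.2
    simp [Scheme.Hom.ker_apply] at h2
    exact h2
  let e : CommRingCat.of (A ⧸ I) ≅ Γ(Z, i'' ⁻¹ᵁ W) :=
    (RingHom.quotientKerEquivOfSurjective (i''.app_surjective W hW)).toCommRingCatIso
  have he : CommRingCat.ofHom (Ideal.Quotient.mk I) ≫ e.hom = i''.app W :=
    CommRingCat.hom_ext (RingHom.ext fun x =>
      RingHom.quotientKerEquivOfSurjective_apply_mk (i''.app_surjective W hW) x)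
  have hi : Spec.map (i''.app W) ≫ hW.fromSpec = hU.fromSpec ≫ i'' := by
    rw [← hW.SpecMap_appLE_fromSpec i'' hU le_rfl, Scheme.Hom.app_eq_appLE]
  have hmk : Spec.map (CommRingCat.ofHom (Ideal.Quotient.mk I)) = Spec.map e.inv ≫ Spec.map (i''.app W) := by
    rw [← Spec.map_comp, ← he, Category.assoc, Iso.hom_inv_id, Category.comp_id]
  obtain ⟨l, hl1, hl2⟩ := hp A I hI (Spec.map e.inv ≫ hU.fromSpec ≫ i) (hW.fromSpec ≫ b) (by
    rw [hmk, Category.assoc, ← Category.assoc (Spec.map (i''.app W)), hi, Category.assoc, hZ''.2.1]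
    simp only [Category.assoc])
  rw [hmk, Category.assoc] at hl1
  have hl1' : Spec.map (i''.app W) ≫ l = hU.fromSpec ≫ i := by
    haveI : IsIso (Spec.map e.inv) := inferInstance
    exact (cancel_epi (Spec.map e.inv)).1 hl1
  have hres : (i'' ∣_ W) ≫ hW.isoSpec.hom = hU.isoSpec.hom ≫ Spec.map (i''.app W) := by
    rw [← cancel_mono hW.fromSpec, Category.assoc, Category.assoc, hi, ← hW.isoSpec_inv_ι,
      Iso.hom_inv_id_assoc, morphismRestrict_ι, ← hU.isoSpec_inv_ι, Category.assoc, Iso.hom_inv_id_assoc]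
  have hs : (i'' ∣_ W) ≫ hW.isoSpec.hom ≫ l = (i'' ⁻¹ᵁ W).ι ≫ i := by
    rw [reassoc_of% hres, hl1', ← hU.isoSpec_inv_ι, Category.assoc, Iso.hom_inv_id_assoc]
  have hfot : MoreMor.IsFirstOrderThickening (i'' ∣_ W) :=
    fot_of_isPullback hZ''.1 (isPullback_morphismRestrict i'' W).flip.flip
  obtain ⟨σ, ⟨hσ1, hσ2⟩, -⟩ := hZ'.2.2 _ _ (i'' ∣_ W) (hW.isoSpec.hom ≫ l) (i'' ⁻¹ᵁ W).ι hfot hs
  refine ⟨W, σ, hzW, hσ1, ?_⟩
  have hb : σ ≫ k ≫ b = W.ι ≫ b := by
    rw [hk₂, reassoc_of% hσ2, hl2, ← hW.isoSpec_inv_ι, Category.assoc, Iso.hom_inv_id_assoc]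
  exact (hZ''.2.2 _ _ (i'' ∣_ W) (W.ι ≫ b) (i'' ⁻¹ᵁ W).ι hfot (by
    rw [morphismRestrict_ι_assoc, hZ''.2.1])).unique
    ⟨by rw [reassoc_of% hσ1, hk₁], by rw [Category.assoc, hb]⟩ ⟨morphismRestrict_ι _ _, rfl⟩

/-- The images of generators of a module generate the stalk of its pullback. -/
theorem span_pullStalk {V : Scheme.{u}} (gV : V ⟶ Z) (M : Z.Modules) (v : V) {ι : Type u}
    (q : ι → M.presheaf.stalk (gV.base v)) (hq : Submodule.span (Z.presheaf.stalk (gV.base v)) (Set.range q) = ⊤) :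
    Submodule.span (V.presheaf.stalk v) (Set.range fun a => pullStalk gV M v (q a)) = ⊤ := by
  refine eq_top_iff.2 fun x _ => ?_
  obtain ⟨t, rfl⟩ := (pullStalkEquiv gV M v).surjective x
  induction t using TensorProduct.induction_on with
  | zero => rw [map_zero]; exact zero_mem _
  | add p q hp hq => rw [map_add]; exact add_mem (hp trivial) (hq trivial)
  | tmul r c =>
    show pullStalkLin gV M v (r ⊗ₜ c) ∈ _
    rw [pullStalkLin_tmul]
    refine Submodule.smul_mem _ _ ?_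
    suffices h : ∀ c ∈ Submodule.span (Z.presheaf.stalk (gV.base v)) (Set.range q),
        pullStalk gV M v c ∈ Submodule.span (V.presheaf.stalk v) (Set.range fun a => pullStalk gV M v (q a)) from
      h c (hq ▸ Submodule.mem_top)
    intro c hc
    induction hc using Submodule.span_induction with
    | zero => rw [map_zero]; exact zero_mem _
    | add p q _ _ hp hq => rw [map_add]; exact add_mem hp hq
    | smul r p _ hp => rw [pullStalk_smul]; exact Submodule.smul_mem _ _ hp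
    | mem p hp => obtain ⟨a, rfl⟩ := hp; exact Submodule.subset_span ⟨a, rfl⟩

/-- A map sending generators to the conormal classes along a bijection of local rings is bijective. -/
theorem bijective_of_cgen {V W : Scheme.{u}} (iV : V ⟶ W) [IsImmersion iV] [QuasiCompact iV] (i : Z ⟶ Z')
    (gV : V ⟶ Z) (v : V)
    (β : Z'.presheaf.stalk (i.base (gV.base v)) →+* W.presheaf.stalk (iV.base v)) (hβ : Function.Bijective β)
    (hgV : Function.Injective (gV.stalkMap v))
    (hcomp : ∀ x, (iV.stalkMap v).hom (β x) = (gV.stalkMap v).hom ((i.stalkMap (gV.base v)).hom x))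
    {M : Type u} [AddCommGroup M] [Module (V.presheaf.stalk v) M]
    (q : RingHom.ker (i.stalkMap (gV.base v)).hom →+ M)
    (hq : ∀ r a, q (r • a) = (gV.stalkMap v).hom ((i.stalkMap (gV.base v)).hom r) • q a)
    (hspan : Submodule.span (V.presheaf.stalk v) (Set.range q) = ⊤)
    (F : M →ₗ[V.presheaf.stalk v] (Omega.conormal iV).presheaf.stalk v)
    (hF : ∀ a (ha : β a.1 ∈ RingHom.ker (iV.stalkMap v).hom), F (q a) = cgen iV v ⟨_, ha⟩) :
    Function.Bijective F := by
  have hmem : ∀ x, β x ∈ RingHom.ker (iV.stalkMap v).hom ↔ x ∈ RingHom.ker (i.stalkMap (gV.base v)).hom := by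
    intro x
    rw [RingHom.mem_ker, RingHom.mem_ker, hcomp]
    exact ⟨fun h => hgV (h.trans (map_zero _).symm), fun h => by rw [h, map_zero]⟩
  let βe := RingEquiv.ofBijective β hβ
  have hβe : ∀ x, β (βe.symm x) = x := βe.apply_symm_apply
  let L : RingHom.ker (iV.stalkMap v).hom →+ RingHom.ker (i.stalkMap (gV.base v)).hom :=
    { toFun := fun b => ⟨βe.symm b.1, (hmem _).1 (by rw [hβe]; exact b.2)⟩
      map_zero' := Subtype.ext (map_zero _)
      map_add' := fun p q => Subtype.ext (map_add βe.symm p.1 q.1) }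
  have hL : ∀ r b, L (r • b) = βe.symm r • L b := fun r b => Subtype.ext (map_mul βe.symm r b.1)
  obtain ⟨G, hG⟩ := exists_lift_cgen iV v (q.comp L) (fun r b => by
    rw [AddMonoidHom.comp_apply, hL, hq, ← hcomp, hβe]
    rfl)
  have h1 : G ∘ₗ F = LinearMap.id := LinearMap.ext_on_range hspan fun a => by
    rw [LinearMap.comp_apply, hF a ((hmem _).2 a.2), hG, AddMonoidHom.comp_apply, LinearMap.id_apply]
    exact congrArg q (Subtype.ext (βe.symm_apply_apply a.1))
  have h2 : F ∘ₗ G = LinearMap.id := LinearMap.ext_on_range (span_cgen iV v) fun b => by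
    rw [LinearMap.comp_apply, hG, AddMonoidHom.comp_apply, hF (L b) ((hmem _).2 (L b).2), LinearMap.id_apply]
    exact congrArg _ (Subtype.ext (hβe b.1))
  exact ⟨Function.LeftInverse.injective (g := G) fun x => LinearMap.congr_fun h1 x,
    Function.RightInverse.surjective (g := G) fun x => LinearMap.congr_fun h2 x⟩

variable {i' : Z ⟶ Z'} {i'' : Z ⟶ Z''} [IsClosedImmersion i'] [IsClosedImmersion i''] {k : Z' ⟶ Z''}
  {ψ : (Scheme.Modules.pullback (𝟙 Z)).obj (Omega.conormal i'') ⟶ Omega.conormal i'}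

/-- The comparison of local rings along a section of `k`. -/
theorem baseStalkMap_section {W : Z''.Opens} {σ : (W : Scheme.{u}) ⟶ Z'}
    (hσ1 : (i'' ∣_ W) ≫ σ = (i'' ⁻¹ᵁ W).ι ≫ i') (hσ2 : σ ≫ k = W.ι) (hk : 𝟙 Z ≫ i'' = i' ≫ k)
    (u : ((i'' ⁻¹ᵁ W : Z.Opens) : Scheme.{u})) (x : Z''.presheaf.stalk (i''.base ((i'' ⁻¹ᵁ W).ι.base u))) :
    (baseStalkMap i' (i'' ∣_ W) σ (i'' ⁻¹ᵁ W).ι hσ1.symm u).hom
        ((baseStalkMap i'' i' k (𝟙 Z) hk ((i'' ⁻¹ᵁ W).ι.base u)).hom x) =
      (baseStalkMap i'' (i'' ∣_ W) W.ι (i'' ⁻¹ᵁ W).ι (morphismRestrict_ι i'' W).symm u).hom x := by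
  have h : baseStalkMap i'' i' k (𝟙 Z) hk ((i'' ⁻¹ᵁ W).ι.base u) ≫
      baseStalkMap i' (i'' ∣_ W) σ (i'' ⁻¹ᵁ W).ι hσ1.symm u =
      baseStalkMap i'' (i'' ∣_ W) W.ι (i'' ⁻¹ᵁ W).ι (morphismRestrict_ι i'' W).symm u := by
    apply Spec.map_injective
    refine (cancel_mono (Z''.fromSpecStalk (i''.base ((𝟙 Z : Z ⟶ Z).base ((i'' ⁻¹ᵁ W).ι.base u))))).1 ?_
    rw [Spec.map_comp, Category.assoc]
    refine (congrArg (Spec.map (baseStalkMap i' (i'' ∣_ W) σ (i'' ⁻¹ᵁ W).ι hσ1.symm u) ≫ ·)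
      (specMap_baseStalkMap i'' i' k (𝟙 Z) hk ((i'' ⁻¹ᵁ W).ι.base u))).trans ?_
    refine ((Category.assoc _ _ _).symm.trans (congrArg (· ≫ k)
      (specMap_baseStalkMap i' (i'' ∣_ W) σ (i'' ⁻¹ᵁ W).ι hσ1.symm u))).trans ?_
    rw [Category.assoc, hσ2]
    exact (specMap_baseStalkMap i'' (i'' ∣_ W) W.ι (i'' ⁻¹ᵁ W).ι (morphismRestrict_ι i'' W).symm u).symm
  exact congr($(congrArg CommRingCat.Hom.hom h) x)

theorem bijective_baseStalkMap_ι (W : Z''.Opens) (u : ((i'' ⁻¹ᵁ W : Z.Opens) : Scheme.{u})) :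
    Function.Bijective
      (baseStalkMap i'' (i'' ∣_ W) W.ι (i'' ⁻¹ᵁ W).ι (morphismRestrict_ι i'' W).symm u) := by
  have he : W.ι ((i'' ∣_ W) u) = i'' ((i'' ⁻¹ᵁ W).ι u) := by
    rw [← Scheme.Hom.comp_apply, morphismRestrict_ι, Scheme.Hom.comp_apply]
  haveI : IsIso (Z''.presheaf.stalkSpecializes (specializes_of_eq he)) :=
    ⟨⟨Z''.presheaf.stalkSpecializes (specializes_of_eq he.symm), by simp, by simp⟩⟩
  exact ConcreteCategory.bijective_of_isIso
    (Z''.presheaf.stalkSpecializes (specializes_of_eq he) ≫ W.ι.stalkMap ((i'' ∣_ W) u))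

/-- A local section of `k` gives a retraction of the conormal map. -/
theorem exists_retraction (hψ : OmegaSh.IsConormalMap i' i'' k (𝟙 Z) ψ) {W : Z''.Opens}
    {σ : (W : Scheme.{u}) ⟶ Z'} (hσ1 : (i'' ∣_ W) ≫ σ = (i'' ⁻¹ᵁ W).ι ≫ i') (hσ2 : σ ≫ k = W.ι) :
    ∃ r : (Scheme.Modules.restrictFunctor (i'' ⁻¹ᵁ W).ι).obj (Omega.conormal i') ⟶
        (Scheme.Modules.restrictFunctor (i'' ⁻¹ᵁ W).ι).obj ((Scheme.Modules.pullback (𝟙 Z)).obj (Omega.conormal i'')),
      (Scheme.Modules.restrictFunctor (i'' ⁻¹ᵁ W).ι).map ψ ≫ r = 𝟙 _ := by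
  set U := i'' ⁻¹ᵁ W
  haveI : IsClosedImmersion (i'' ∣_ W) := IsZariskiLocalAtTarget.restrict (P := @IsClosedImmersion) inferInstance W
  obtain ⟨r0, hr0, -⟩ := S9371.result (i'' ∣_ W) i' σ U.ι hσ1.symm
  haveI : IsIso ((Scheme.Modules.pullback U.ι).map ψ ≫ r0) := by
    refine isIso_of_bijective_stalkLin _ fun u => ?_
    let q : RingHom.ker (i''.stalkMap (U.ι.base u)).hom →+
        ((Scheme.Modules.pullback U.ι).obj ((Scheme.Modules.pullback (𝟙 Z)).obj (Omega.conormal i''))).presheaf.stalk u :=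
      (pullStalk U.ι _ u).hom.comp ((pullStalk (𝟙 Z) (Omega.conormal i'') (U.ι.base u)).hom.comp (cgen i'' (U.ι.base u)))
    have hid : ∀ x : Z.presheaf.stalk (U.ι.base u), (𝟙 Z : Z ⟶ Z).stalkMap (U.ι.base u) x = x := fun x => by
      rw [Scheme.Hom.stalkMap_id]
      rfl
    have hsp : Submodule.span (U.toScheme.presheaf.stalk u) (Set.range q) = ⊤ :=
      span_pullStalk U.ι _ u _ (span_pullStalk (𝟙 Z) (Omega.conormal i'') (U.ι.base u) _ (span_cgen i'' (U.ι.base u)))
    refine bijective_of_cgen (i'' ∣_ W) i'' U.ι u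
      (baseStalkMap i'' (i'' ∣_ W) W.ι U.ι (morphismRestrict_ι i'' W).symm u).hom (bijective_baseStalkMap_ι W u)
      (ConcreteCategory.bijective_of_isIso (U.ι.stalkMap u)).1
      (fun x => congr($(congrArg CommRingCat.Hom.hom
        (baseStalkMap_comp i'' (i'' ∣_ W) W.ι U.ι (morphismRestrict_ι i'' W).symm u)) x))
      q (fun r a => ?_) hsp _ fun a ha => ?_
    · show pullStalk U.ι _ u (pullStalk (𝟙 Z) _ (U.ι.base u) (cgen i'' (U.ι.base u) (r • a))) = _
      rw [cgen_smul]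
      refine (congrArg (pullStalk U.ι ((Scheme.Modules.pullback (𝟙 Z)).obj (Omega.conormal i'')) u)
        (pullStalk_smul (𝟙 Z) (Omega.conormal i'') (U.ι.base u) _ _)).trans ?_
      refine (pullStalk_smul U.ι _ u _ _).trans ?_
      exact congrArg (fun y => (U.ι.stalkMap u).hom y • q a) (hid _)
    · show stalkLin _ u (pullStalk U.ι _ u (pullStalk (𝟙 Z) _ (U.ι.base u) (cgen i'' (U.ι.base u) a))) = _
      rw [stalkLin_comp]
      erw [pullStalk_naturality U.ι _ u ψ]
      show stalkLin r0 u (pullStalk U.ι (Omega.conormal i') u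
        (stalkLin ψ (U.ι.base u) (pullStalk (𝟙 Z) (Omega.conormal i'') (U.ι.base u) (cgen i'' (U.ι.base u) a)))) = _
      erw [stalkLin_conormalMap hψ (U.ι.base u) a]
      refine (stalkLin_conormalMap hr0 u _).trans ?_
      exact congrArg _ (Subtype.ext (baseStalkMap_section hσ1 hσ2 hψ.1 u a.1))
  let α := Scheme.Modules.restrictFunctorIsoPullback U.ι
  refine ⟨α.hom.app _ ≫ r0 ≫ inv ((Scheme.Modules.pullback U.ι).map ψ ≫ r0) ≫ α.inv.app _, ?_⟩
  rw [← Category.assoc, α.hom.naturality, Category.assoc, ← Category.assoc ((Scheme.Modules.pullback U.ι).map ψ),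
    IsIso.hom_inv_id_assoc, ← NatTrans.comp_app, Iso.hom_inv_id]
  rfl

/-- A morphism injective on stalks is a monomorphism. -/
theorem mono_of_injective_stalkLin {M N : Z.Modules} (φ : M ⟶ N) (h : ∀ z, Function.Injective (stalkLin φ z)) :
    Mono φ := by
  refine Preadditive.mono_of_kernel_zero (eq_zero_of_stalkLin _ fun z a => h z ?_)
  rw [map_zero, ← stalkLin_comp, kernel.condition]
  obtain ⟨U, hU, s, rfl⟩ := (kernel φ).presheaf.exists_germ_eq a
  rw [stalkLin_germ]
  exact map_zero _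

/-- The sequence of a map of thickenings with local sections is short exact and locally split. -/
theorem shortExact_of_local_sections {Ω : Z'.Modules} {d : OmegaSh.Der k Ω} (hd : OmegaSh.IsUniversal d)
    (hψ : OmegaSh.IsConormalMap i' i'' k (𝟙 Z) ψ)
    {φ : Omega.conormal i' ⟶ (Scheme.Modules.pullback i').obj Ω} (hφ : OmegaSh.IsConormalDiff i' d φ)
    (hsec : ∀ z, ∃ (W : Z''.Opens) (σ : (W : Scheme.{u}) ⟶ Z'),
      z ∈ i'' ⁻¹ᵁ W ∧ (i'' ∣_ W) ≫ σ = (i'' ⁻¹ᵁ W).ι ≫ i' ∧ σ ≫ k = W.ι) :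
    ∃ w : ψ ≫ φ = 0, (ShortComplex.mk ψ φ w).ShortExact ∧
      ∀ z : Z, ∃ (U : Z.Opens) (r : (Scheme.Modules.restrictFunctor U.ι).obj (Omega.conormal i') ⟶
          (Scheme.Modules.restrictFunctor U.ι).obj ((Scheme.Modules.pullback (𝟙 Z)).obj (Omega.conormal i''))),
        z ∈ U ∧ (Scheme.Modules.restrictFunctor U.ι).map ψ ≫ r = 𝟙 _ := by
  have hid : ∀ (z : Z) (x : Z.presheaf.stalk z), (𝟙 Z : Z ⟶ Z).stalkMap z x = x := fun z x => by
    rw [Scheme.Hom.stalkMap_id]
    rfl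
  let β : ∀ z : Z, Z''.presheaf.stalk (i''.base z) →+* Z'.presheaf.stalk (i'.base z) :=
    fun z => (baseStalkMap i'' i' k (𝟙 Z) hψ.1 z).hom
  have hβcomp : ∀ z a, (i'.stalkMap z).hom (β z a) = (i''.stalkMap z).hom a := fun z a =>
    (congr($(congrArg CommRingCat.Hom.hom (baseStalkMap_comp i'' i' k (𝟙 Z) hψ.1 z)) a)).trans (hid z _)
  have hret : ∀ z, ∃ τ : Z'.presheaf.stalk (i'.base z) →+* Z''.presheaf.stalk (i''.base z),
      (∀ a, τ (β z a) = a) ∧ ∀ x, (i''.stalkMap z).hom (τ x) = (i'.stalkMap z).hom x := by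
    intro z
    obtain ⟨W, σ, hzW, hσ1, hσ2⟩ := hsec z
    let u : ((i'' ⁻¹ᵁ W : Z.Opens) : Scheme.{u}) := ⟨z, hzW⟩
    let βW : Z''.presheaf.stalk (i''.base z) →+* _ :=
      (baseStalkMap i'' (i'' ∣_ W) W.ι (i'' ⁻¹ᵁ W).ι (morphismRestrict_ι i'' W).symm u).hom
    let βσ : Z'.presheaf.stalk (i'.base z) →+* _ :=
      (baseStalkMap i' (i'' ∣_ W) σ (i'' ⁻¹ᵁ W).ι hσ1.symm u).hom
    let e := RingEquiv.ofBijective βW (bijective_baseStalkMap_ι W u)
    have he : ∀ x, βW (e.symm x) = x := e.apply_symm_apply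
    refine ⟨e.symm.toRingHom.comp βσ, fun a => ?_, fun x => ?_⟩
    · show e.symm (βσ (β z a)) = a
      rw [show βσ (β z a) = βW a from baseStalkMap_section hσ1 hσ2 hψ.1 u a]
      exact e.symm_apply_apply a
    · refine (ConcreteCategory.bijective_of_isIso ((i'' ⁻¹ᵁ W).ι.stalkMap u)).1 ?_
      show (i'' ⁻¹ᵁ W).ι.stalkMap u ((i''.stalkMap z).hom (e.symm (βσ x))) = _
      refine (congr($(congrArg CommRingCat.Hom.hom (baseStalkMap_comp i'' (i'' ∣_ W) W.ι (i'' ⁻¹ᵁ W).ι
        (morphismRestrict_ι i'' W).symm u)) (e.symm (βσ x)))).symm.trans ?_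
      show ((i'' ∣_ W).stalkMap u).hom (βW (e.symm (βσ x))) = _
      rw [he]
      exact congr($(congrArg CommRingCat.Hom.hom (baseStalkMap_comp i' (i'' ∣_ W) σ (i'' ⁻¹ᵁ W).ι hσ1.symm u)) x)
  choose τ hτβ hτ using hret
  have hmem : ∀ z x, x ∈ RingHom.ker (i'.stalkMap z).hom → τ z x ∈ RingHom.ker (i''.stalkMap z).hom :=
    fun z x hx => by rw [RingHom.mem_ker, hτ]; exact hx
  have hmem' : ∀ z a, a ∈ RingHom.ker (i''.stalkMap z).hom → β z a ∈ RingHom.ker (i'.stalkMap z).hom :=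
    fun z x hx => by rw [RingHom.mem_ker, hβcomp]; exact hx
  let q : ∀ z : Z, RingHom.ker (i''.stalkMap z).hom →+
      ((Scheme.Modules.pullback (𝟙 Z)).obj (Omega.conormal i'')).presheaf.stalk z :=
    fun z => (pullStalk (𝟙 Z) (Omega.conormal i'') z).hom.comp (cgen i'' z)
  have hq : ∀ z r a, q z (r • a) = (i''.stalkMap z).hom r • q z a := fun z r a => by
    show pullStalk (𝟙 Z) _ z (cgen i'' z (r • a)) = _
    rw [cgen_smul]
    refine (pullStalk_smul (𝟙 Z) (Omega.conormal i'') z _ _).trans ?_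
    exact congrArg (fun y => y • q z a) (hid z _)
  have hψq : ∀ z (a : RingHom.ker (i''.stalkMap z).hom),
      stalkLin ψ z (q z a) = cgen i' z ⟨β z a.1, hmem' z _ a.2⟩ := fun z a => stalkLin_conormalMap hψ z a
  have hspan : ∀ z, Submodule.span (Z.presheaf.stalk z) (Set.range (q z)) = ⊤ := fun z =>
    span_pullStalk (𝟙 Z) (Omega.conormal i'') z _ (span_cgen i'' z)
  have hinj : ∀ z, Function.Injective (stalkLin ψ z) := by
    intro z
    obtain ⟨G, hG⟩ := exists_lift_cgen i' z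
      ((q z).comp { toFun := fun a => ⟨τ z a.1, hmem z _ a.2⟩
                    map_zero' := Subtype.ext (map_zero _)
                    map_add' := fun a b => Subtype.ext (map_add (τ z) a.1 b.1) }) (fun r a => by
      refine Eq.trans (congrArg (q z) (show _ = τ z r • (⟨τ z a.1, hmem z _ a.2⟩ :
        RingHom.ker (i''.stalkMap z).hom) from Subtype.ext (map_mul (τ z) r a.1))) ?_
      rw [hq, hτ]
      rfl)
    have h1 : G ∘ₗ stalkLin ψ z = LinearMap.id := LinearMap.ext_on_range (hspan z) fun a => by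
      rw [LinearMap.comp_apply, hψq, hG, AddMonoidHom.comp_apply, LinearMap.id_apply]
      exact congrArg (q z) (Subtype.ext (hτβ z a.1))
    exact Function.LeftInverse.injective (g := G) fun x => LinearMap.congr_fun h1 x
  -- differentials
  have hpt : ∀ z, k (i' z) = i'' z := fun z => by
    rw [← Scheme.Hom.comp_apply, ← hψ.1, Category.id_comp]
  have hDβ : ∀ z a, KaehlerDifferential.D (Z''.presheaf.stalk (k.base (i'.base z)))
      (Z'.presheaf.stalk (i'.base z)) (β z a) = 0 := fun z a => Derivation.map_algebraMap _ _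
  have hw : ψ ≫ φ = 0 := by
    refine eq_zero_of_stalkLin _ fun z v => ?_
    obtain ⟨e, he⟩ := exists_pullEquiv d hd i' z
    have h0 : e.toLinearMap ∘ₗ stalkLin φ z ∘ₗ stalkLin ψ z = 0 := LinearMap.ext_on_range (hspan z) fun a => by
      show e (stalkLin φ z (stalkLin ψ z (q z a))) = 0
      rw [hψq, stalkLin_conormalDiff hφ z he, hDβ, TensorProduct.tmul_zero]
    rw [stalkLin_comp]
    exact e.injective ((LinearMap.congr_fun h0 v).trans (map_zero e).symm)
  have hex : (ShortComplex.mk ψ φ hw).Exact := by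
    refine exact_of_stalks _ fun z v hv => ?_
    change stalkLin φ z v = 0 at hv
    obtain ⟨e, he⟩ := exists_pullEquiv d hd i' z
    let S := LinearMap.range (stalkLin ψ z)
    let N := (Omega.conormal i').presheaf.stalk z ⧸ S
    letI : Module (Z'.presheaf.stalk (i'.base z)) N := Module.compHom N (i'.stalkMap z).hom
    haveI : IsScalarTower (Z'.presheaf.stalk (i'.base z)) (Z.presheaf.stalk z) N :=
      .of_algebraMap_smul fun _ _ => rfl
    letI : Module (Z''.presheaf.stalk (k.base (i'.base z))) N :=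
      Module.compHom N (algebraMap (Z''.presheaf.stalk (k.base (i'.base z))) (Z'.presheaf.stalk (i'.base z)))
    haveI : IsScalarTower (Z''.presheaf.stalk (k.base (i'.base z))) (Z'.presheaf.stalk (i'.base z)) N :=
      .of_algebraMap_smul fun _ _ => rfl
    let π : Z'.presheaf.stalk (i'.base z) → RingHom.ker (i'.stalkMap z).hom := fun x => ⟨x - β z (τ z x), by
      rw [RingHom.mem_ker, map_sub, hβcomp, hτ, sub_self]⟩
    let δ₀ : Z'.presheaf.stalk (i'.base z) →+ N :=
      { toFun := fun x => S.mkQ (cgen i' z (π x))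
        map_zero' := by rw [show π 0 = 0 from Subtype.ext (by simp [π]), map_zero, map_zero]
        map_add' := fun x y => by
          rw [show π (x + y) = π x + π y from Subtype.ext (by
            show x + y - β z (τ z (x + y)) = x - β z (τ z x) + (y - β z (τ z y))
            rw [map_add, map_add]; ring), map_add, map_add] }
    have hmul : ∀ x y, δ₀ (x * y) = x • δ₀ y + y • δ₀ x := fun x y => by
      have e1 : π (x * y) = x • π y + β z (τ z y) • π x := Subtype.ext (by
        show x * y - β z (τ z (x * y)) = x * (y - β z (τ z y)) + β z (τ z y) * (x - β z (τ z x))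
        rw [map_mul, map_mul]; ring)
      show S.mkQ (cgen i' z (π (x * y))) = (i'.stalkMap z).hom x • δ₀ y + (i'.stalkMap z).hom y • δ₀ x
      rw [e1, map_add, cgen_smul, cgen_smul, map_add, map_smul, map_smul, hβcomp, hτ]
      rfl
    have hbase : ∀ b, δ₀ (algebraMap (Z''.presheaf.stalk (k.base (i'.base z))) (Z'.presheaf.stalk (i'.base z)) b) = 0 := by
      intro b
      haveI : IsIso (Z''.presheaf.stalkSpecializes (specializes_of_eq (hpt z))) :=
        ⟨⟨Z''.presheaf.stalkSpecializes (specializes_of_eq (hpt z).symm), by simp, by simp⟩⟩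
      obtain ⟨a, rfl⟩ := (ConcreteCategory.bijective_of_isIso
        (Z''.presheaf.stalkSpecializes (specializes_of_eq (hpt z)))).2 b
      show δ₀ (β z a) = 0
      show S.mkQ (cgen i' z (π (β z a))) = 0
      rw [show π (β z a) = 0 from Subtype.ext (by
        show β z a - β z (τ z (β z a)) = 0
        rw [hτβ, sub_self]), map_zero, map_zero]
    have hsmul : ∀ (b : Z''.presheaf.stalk (k.base (i'.base z))) (x : Z'.presheaf.stalk (i'.base z)),
        δ₀ (b • x) = b • δ₀ x := fun b x => by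
      rw [Algebra.smul_def, hmul, hbase, smul_zero, add_zero, algebraMap_smul]
    let δ : Derivation (Z''.presheaf.stalk (k.base (i'.base z))) (Z'.presheaf.stalk (i'.base z)) N :=
      Derivation.mk' { δ₀ with map_smul' := hsmul } hmul
    let g := δ.liftKaehlerDifferential.liftBaseChange (Z.presheaf.stalk z)
    have hg : g ∘ₗ e.toLinearMap ∘ₗ stalkLin φ z = S.mkQ := LinearMap.ext_on_range (span_cgen i' z) fun a => by
      show g (e (stalkLin φ z (cgen i' z a))) = S.mkQ (cgen i' z a)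
      rw [stalkLin_conormalDiff hφ z he, LinearMap.liftBaseChange_tmul, one_smul,
        Derivation.liftKaehlerDifferential_comp_D]
      show S.mkQ (cgen i' z (π a.1)) = _
      rw [← sub_eq_zero, ← map_sub, ← map_sub, Submodule.mkQ_apply, Submodule.Quotient.mk_eq_zero]
      refine ⟨-q z ⟨τ z a.1, hmem z _ a.2⟩, ?_⟩
      rw [map_neg, hψq, ← map_neg]
      refine congrArg (cgen i' z) (Subtype.ext ?_)
      show -β z (τ z a.1) = a.1 - β z (τ z a.1) - a.1
      ring
    have h0 : S.mkQ v = 0 := by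
      rw [← hg]
      show g (e (stalkLin φ z v)) = 0
      rw [hv, map_zero, map_zero]
    rwa [Submodule.mkQ_apply, Submodule.Quotient.mk_eq_zero] at h0
  haveI : Mono ψ := mono_of_injective_stalkLin ψ hinj
  haveI : Epi φ := epi_of_surjective_stalkLin φ fun z w => by
    obtain ⟨e, he⟩ := exists_pullEquiv d hd i' z
    suffices h : ∀ t, e.symm t ∈ LinearMap.range (stalkLin φ z) by
      have := h (e w)
      rwa [e.symm_apply_apply] at this
    intro t
    induction t using TensorProduct.induction_on with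
    | zero => rw [map_zero]; exact zero_mem _
    | add a b ha hb => rw [map_add]; exact add_mem ha hb
    | tmul c ω =>
      rw [show c ⊗ₜ[Z'.presheaf.stalk (i'.base z)] ω = c • ((1 : Z.presheaf.stalk z) ⊗ₜ ω) by
        rw [TensorProduct.smul_tmul', smul_eq_mul, mul_one], map_smul]
      refine Submodule.smul_mem _ _ ?_
      have hω : ω ∈ Submodule.span (Z'.presheaf.stalk (i'.base z))
          (Set.range (KaehlerDifferential.D (Z''.presheaf.stalk (k.base (i'.base z))) (Z'.presheaf.stalk (i'.base z)))) := by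
        rw [KaehlerDifferential.span_range_derivation]; trivial
      induction hω using Submodule.span_induction with
      | zero => rw [TensorProduct.tmul_zero, map_zero]; exact zero_mem _
      | add a b _ _ ha hb => rw [TensorProduct.tmul_add, map_add]; exact add_mem ha hb
      | smul r a _ ha =>
        rw [TensorProduct.tmul_smul, ← algebraMap_smul (Z.presheaf.stalk z) r, map_smul]
        exact Submodule.smul_mem _ _ ha
      | mem a ha =>
        obtain ⟨x, rfl⟩ := ha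
        refine ⟨cgen i' z ⟨x - β z (τ z x), by rw [RingHom.mem_ker, map_sub, hβcomp, hτ, sub_self]⟩, ?_⟩
        rw [LinearEquiv.eq_symm_apply, stalkLin_conormalDiff hφ z he, map_sub, hDβ, sub_zero]
  refine ⟨hw, { exact := hex }, fun z => ?_⟩
  obtain ⟨W, σ, hzW, hσ1, hσ2⟩ := hsec z
  obtain ⟨r, hr⟩ := exists_retraction hψ hσ1 hσ2
  exact ⟨i'' ⁻¹ᵁ W, r, hzW, hr⟩

end Groth.Agent.H29Omega
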