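import Groth.Agent.S9370
import Groth.Agent.H29Omega.SheafFinite
import Groth.Agent.H17.PrinOmega
import Groth.Agent.H11Tilde.Local
import Mathlib

/-!
# Universal derivations restrict to universal derivations on opens
-/

set_option autoImplicit false
set_option maxHeartbeats 400000
universe u

open CategoryTheory CategoryTheory.Limits AlgebraicGeometry TopologicalSpace Opposite

namespace Groth.Agent.H29Omega

variable {Z X S : Scheme.{u}}

/-- Restriction of a derivation along an open immersion. -/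
noncomputable def restrDer (j : Z ⟶ X) [IsOpenImmersion j] {f : X ⟶ S} {Ω : X.Modules} (d : OmegaSh.Der f Ω) :
    OmegaSh.Der (j ≫ f) (Ω.restrict j) where
  d {V} := (Ω.restrictAppIso j V.unop).inv.hom.comp
    ((d.app (j ''ᵁ V.unop)).comp (j.appIso V.unop).inv.hom.toAddMonoidHom)
  d_mul {V} a b := by
    obtain ⟨V⟩ := V
    change (Ω.restrictAppIso j V).inv (d.app _ ((j.appIso V).inv.hom (a * b))) = _
    rw [map_mul, show d.app (j ''ᵁ V) ((j.appIso V).inv.hom a * (j.appIso V).inv.hom b) = _ from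
      d.d_mul (X := op (j ''ᵁ V)) _ _]
    erw [map_add]
    erw [Scheme.Modules.smul_restrictAppIso_inv_apply, Scheme.Modules.smul_restrictAppIso_inv_apply,
      Iso.inv_hom_id_apply, Iso.inv_hom_id_apply]
    rfl
  d_map {U V} g a := by
    obtain ⟨U⟩ := U
    obtain ⟨V⟩ := V
    change d.app (j ''ᵁ V) ((j.appIso V).inv.hom ((Z.presheaf.map g).hom a)) =
      (Ω.presheaf.map (j.opensFunctor.op.map g)) (d.app (j ''ᵁ U) ((j.appIso U).inv.hom a))
    rw [show (j.appIso V).inv.hom ((Z.presheaf.map g).hom a) =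
      (X.presheaf.map (j.opensFunctor.op.map g)).hom ((j.appIso U).inv.hom a) from
      congr($(j.appIso_inv_naturality g) a)]
    exact d.d_map _ _
  d_app {W} c := by
    obtain ⟨W⟩ := W
    change d.app (j ''ᵁ (j ⁻¹ᵁ f ⁻¹ᵁ W)) ((j.appIso (j ⁻¹ᵁ f ⁻¹ᵁ W)).inv.hom
      (((j ≫ f).app W).hom c)) = 0
    have e : (j ≫ f).app W = f.app W ≫ j.app (f ⁻¹ᵁ W) := Scheme.Hom.comp_app j f W
    have h : (j.appIso (j ⁻¹ᵁ f ⁻¹ᵁ W)).inv.hom (((j ≫ f).app W).hom c) =
        (X.presheaf.map (homOfLE (j.image_preimage_le (f ⁻¹ᵁ W))).op).hom ((f.app W).hom c) :=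
      congr($(j.app_appIso_inv (f ⁻¹ᵁ W)) ((f.app W).hom c))
    rw [h]
    have h0 : d.d (X := op (f ⁻¹ᵁ W)) ((f.app W).hom c) = 0 := d.d_app (X := op W) c
    refine (d.d_map (homOfLE (j.image_preimage_le (f ⁻¹ᵁ W))).op _).trans ?_
    rw [h0]
    exact map_zero _

/-- Restrictions of universal derivations are universal. -/
theorem isUniversal_restrDer (j : Z ⟶ X) [IsOpenImmersion j] {f : X ⟶ S} {Ω : X.Modules}
    (d : OmegaSh.Der f Ω) (hd : OmegaSh.IsUniversal d) : OmegaSh.IsUniversal (restrDer j d) := by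
  intro F D
  let D' : OmegaSh.Der f ((Scheme.Modules.pushforward j).obj F) :=
    Groth.Agent.S9370.pushDer f (j ≫ f) j (𝟙 S) (Category.comp_id _) F D
  obtain ⟨α, hα, huniq⟩ := hd _ D'
  let adj := Scheme.Modules.restrictAdjunction j
  have hval : ∀ (β : Ω.restrict j ⟶ F) (U : X.Opens) (m : Γ(Ω, U)), (adj.homEquiv _ _ β).app U m =
      β.app (j ⁻¹ᵁ U) (Ω.presheaf.map (homOfLE (j.image_preimage_le U)).op m) := by
    intro β U m
    rw [Adjunction.homEquiv_unit]
    rfl
  have key : ∀ β : Ω.restrict j ⟶ F, (restrDer j d).postcomp β.val = D ↔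
      d.postcomp (adj.homEquiv _ _ β).val = D' := by
    intro β
    constructor
    · intro hc
      ext ⟨U⟩ s
      refine (hval β U (d.app U s)).trans ?_
      have h1 := PresheafOfModules.Derivation.congr_d hc (X := op (j ⁻¹ᵁ U)) ((j.app U).hom s)
      refine Eq.trans ?_ h1
      show β.app (j ⁻¹ᵁ U) _ = β.app (j ⁻¹ᵁ U) (d.app (j ''ᵁ (j ⁻¹ᵁ U))
        ((j.appIso (j ⁻¹ᵁ U)).inv.hom ((j.app U).hom s)))
      rw [show (j.appIso (j ⁻¹ᵁ U)).inv.hom ((j.app U).hom s) =
        (X.presheaf.map (homOfLE (j.image_preimage_le U)).op).hom s from congr($(j.app_appIso_inv U) s)]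
      exact congrArg _ (d.d_map (homOfLE (j.image_preimage_le U)).op s).symm
    · intro hc
      ext ⟨V⟩ t
      let s := (j.appIso V).inv.hom t
      let p : op (j ⁻¹ᵁ (j ''ᵁ V)) ⟶ op V := (homOfLE (j.preimage_image_eq V).ge).op
      have h1 : (adj.homEquiv _ _ β).app (j ''ᵁ V) (d.app _ s) = D.app _ ((j.app (j ''ᵁ V)).hom s) :=
        PresheafOfModules.Derivation.congr_d hc (X := op (j ''ᵁ V)) s
      rw [hval] at h1
      have h2 := congrArg (F.presheaf.map p) h1
      rw [show F.presheaf.map p (D.app _ ((j.app (j ''ᵁ V)).hom s)) =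
        D.app V ((Z.presheaf.map p).hom ((j.app (j ''ᵁ V)).hom s)) from (D.d_map p _).symm,
        show (Z.presheaf.map p).hom ((j.app (j ''ᵁ V)).hom s) = t from
          congr($(j.appIso_inv_app_presheafMap V) t)] at h2
      refine Eq.trans ?_ h2
      rw [show F.presheaf.map p (β.app (j ⁻¹ᵁ (j ''ᵁ V))
          (Ω.presheaf.map (homOfLE (j.image_preimage_le (j ''ᵁ V))).op (d.app _ s))) =
        β.app V ((Ω.restrict j).presheaf.map p
          (Ω.presheaf.map (homOfLE (j.image_preimage_le (j ''ᵁ V))).op (d.app _ s))) from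
        congr($(((β.mapPresheaf).naturality p).symm) _)]
      show β.app V (d.app _ s) = _
      congr 1
      show d.app _ s = (Ω.presheaf.map _ ≫ Ω.presheaf.map _) (d.app _ s)
      rw [← Functor.map_comp]
      exact congr($((Ω.presheaf.map_id _).symm) (d.app _ s))
  refine ⟨(adj.homEquiv _ _).symm α, ?_, fun β hβ => ?_⟩
  · simp only; rw [key, Equiv.apply_symm_apply]; exact hα
  · rw [Equiv.eq_symm_apply]; exact huniq _ ((key β).mp hβ)

/-- Two receptacles of universal derivations are isomorphic. -/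
theorem nonempty_iso_of_isUniversal {f : X ⟶ S} {Ω Ω' : X.Modules} {d : OmegaSh.Der f Ω}
    {d' : OmegaSh.Der f Ω'} (hd : OmegaSh.IsUniversal d) (hd' : OmegaSh.IsUniversal d') :
    Nonempty (Ω ≅ Ω') := by
  obtain ⟨α, hα, -⟩ := hd _ d'
  obtain ⟨β, hβ, -⟩ := hd' _ d
  refine ⟨⟨α, β, (hd _ d).unique ?_ ?_, (hd' _ d').unique ?_ ?_⟩⟩
  · ext ⟨U⟩ s
    have h1 : α.app U (d.app U s) = d'.app U s := PresheafOfModules.Derivation.congr_d hα (X := op U) s
    have h2 : β.app U (d'.app U s) = d.app U s := PresheafOfModules.Derivation.congr_d hβ (X := op U) s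
    exact (congrArg (β.app U) h1).trans h2
  · ext ⟨U⟩ s; rfl
  · ext ⟨U⟩ s
    have h1 : α.app U (d.app U s) = d'.app U s := PresheafOfModules.Derivation.congr_d hα (X := op U) s
    have h2 : β.app U (d'.app U s) = d.app U s := PresheafOfModules.Derivation.congr_d hβ (X := op U) s
    exact (congrArg (α.app U) h2).trans h1
  · ext ⟨U⟩ s; rfl

/-- On an affine open, the receptacle of a universal derivation is the sheaf of differentials. -/
theorem nonempty_restrict_iso_sheaf {f : X ⟶ S} {Ω : X.Modules} {d : OmegaSh.Der f Ω}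
    (hd : OmegaSh.IsUniversal d) (j : Z ⟶ X) [IsOpenImmersion j] [QuasiSeparated (j ≫ f)] :
    Nonempty (Ω.restrict j ≅ Omega.sheaf (j ≫ f)) :=
  nonempty_iso_of_isUniversal (isUniversal_restrDer j d hd) (H17.PrinOmega.isUniversal_dOmega (j ≫ f))

/-- The receptacle of any universal derivation is quasi-coherent. -/
theorem isQCoh_of_isUniversal {f : X ⟶ S} {Ω : X.Modules} {d : OmegaSh.Der f Ω}
    (hd : OmegaSh.IsUniversal d) : Ω.IsQuasicoherent := by
  refine H11Tilde.isQuasicoherent_of_openImmersions (fun U : X.affineOpens => U.1.ι) (fun x => ?_) Ω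
    fun U => ?_
  · obtain ⟨U, hU, hx, -⟩ := exists_isAffineOpen_mem_and_subset (X := X) (x := x) (U := ⊤) trivial
    exact ⟨⟨U, hU⟩, ⟨x, hx⟩, rfl⟩
  · haveI : IsAffine U.1 := U.2
    obtain ⟨e⟩ := nonempty_restrict_iso_sheaf hd U.1.ι
    haveI : (Omega.sheaf (U.1.ι ≫ f)).IsQuasicoherent := isQCoh_sheaf _
    exact H10Coh.isQuasicoherent_of_iso e.symm

/-- Finiteness of the sections of a universal receptacle on a small affine open. -/
theorem finite_sections_of_isUniversal {f : X ⟶ S} [LocallyOfFiniteType f] {Ω : X.Modules}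
    {d : OmegaSh.Der f Ω} (hd : OmegaSh.IsUniversal d) {U : X.Opens} (hU : IsAffineOpen U)
    {V : S.Opens} (hV : IsAffineOpen V) (h : U ≤ f ⁻¹ᵁ V) :
    Module.Finite Γ(X, U) Γ(Ω, U) ∧
      (∀ [LocallyOfFinitePresentation f], Module.FinitePresentation Γ(X, U) Γ(Ω, U)) := by
  haveI : IsAffine U := hU
  obtain ⟨e⟩ := nonempty_restrict_iso_sheaf hd U.ι
  have h' : (⊤ : U.toScheme.Opens) ≤ (U.ι ≫ f) ⁻¹ᵁ V := fun y _ => h y.2
  let σ : Γ(U.toScheme, ⊤) →+* Γ(X, U) :=
    (X.presheaf.map (eqToHom U.ι_image_top.symm).op).hom.comp (U.ι.appIso ⊤).inv.hom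
  have hσ : Function.Bijective σ :=
    (ConcreteCategory.bijective_of_isIso (X.presheaf.map (eqToHom U.ι_image_top.symm).op)).comp
      (ConcreteCategory.bijective_of_isIso (U.ι.appIso ⊤).inv)
  let φ : Γ(Omega.sheaf (U.ι ≫ f), ⊤) →+ Γ(Ω, U) :=
    (Ω.presheaf.map (eqToHom U.ι_image_top.symm).op).hom.comp
      ((Ω.restrictAppIso U.ι ⊤).hom.hom.comp (e.inv.app ⊤).hom)
  have hφ : Function.Bijective φ := by
    haveI : IsIso (e.inv.app ⊤) := inferInstance
    exact (ConcreteCategory.bijective_of_isIso (Ω.presheaf.map (eqToHom U.ι_image_top.symm).op)).comp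
      ((ConcreteCategory.bijective_of_isIso (Ω.restrictAppIso U.ι ⊤).hom).comp
        (ConcreteCategory.bijective_of_isIso (e.inv.app ⊤)))
  have hlin : ∀ (a : Γ(U.toScheme, ⊤)) (m : Γ(Omega.sheaf (U.ι ≫ f), ⊤)), φ (a • m) = σ a • φ m := by
    intro a m
    show Ω.presheaf.map _ ((Ω.restrictAppIso U.ι ⊤).hom (e.inv.app ⊤ (a • m))) = _
    rw [Scheme.Modules.Hom.app_smul]
    erw [Scheme.Modules.smul_restrictAppIso_hom_apply]
    exact Scheme.Modules.map_smul Ω _ _ _
  refine ⟨?_, ?_⟩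
  · haveI := finite_sections_sheaf (U.ι ≫ f) (isAffineOpen_top U.toScheme) hV h'
    exact H10Coh.finite_of_semilinear σ φ hlin hφ.2
  · intro _
    haveI := finitePresentation_sections_sheaf (U.ι ≫ f) (isAffineOpen_top U.toScheme) hV h'
    exact H29Fitt.finitePresentation_of_semilinear σ hσ φ hlin hφ

theorem isFT_of_isUniversal {f : X ⟶ S} [LocallyOfFiniteType f] {Ω : X.Modules}
    {d : OmegaSh.Der f Ω} (hd : OmegaSh.IsUniversal d) : CohB1.IsFT Ω := by
  haveI := isQCoh_of_isUniversal hd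
  choose U V hxU hU hV hle using exists_affine_chart f
  exact (H10Coh.isFT_isFP_of_affineCover _ U
    (eq_top_iff.2 fun x _ => Opens.mem_iSup.2 ⟨x, hxU x⟩) hU
    fun x => (finite_sections_of_isUniversal hd (hU x) (hV x) (hle x)).1).1

theorem isFP_of_isUniversal {f : X ⟶ S} [LocallyOfFinitePresentation f] {Ω : X.Modules}
    {d : OmegaSh.Der f Ω} (hd : OmegaSh.IsUniversal d) : CohB1.IsFP Ω := by
  haveI := isQCoh_of_isUniversal hd
  choose U V hxU hU hV hle using exists_affine_chart f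
  exact isFP_of_affineCover _ U
    (eq_top_iff.2 fun x _ => Opens.mem_iSup.2 ⟨x, hxU x⟩) hU
    fun x => (finite_sections_of_isUniversal hd (hU x) (hV x) (hle x)).2

end Groth.Agent.H29Omega
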