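import Groth.Prelude.Def_Omega3
import Groth.Prelude.Def_RegImm
import Groth.Agent.H29Slice.KoszulReg
import Groth.Agent.H9Smooth.Lift
import Groth.Agent.H29Omega.ConormalTrans
import Groth.Agent.H29Omega.ConormalSplit
import Mathlib

/-!
# Left exactness of the transitivity sequence for local complete intersections
-/

set_option autoImplicit false
set_option linter.style.haveILetI false
set_option maxHeartbeats 400000
universe u

open CategoryTheory CategoryTheory.Limits AlgebraicGeometry TopologicalSpace TensorProduct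

namespace Groth.Agent.H29Omega

open Groth.Agent.H06Mod

section Algebra

variable {A' T' T : Type u} [CommRing A'] [CommRing T'] [CommRing T] [Algebra A' T'] (J : Ideal A')

/-- The multiplication map `T' ⊗ J → T'`. -/
noncomputable def tmulMap : T' ⊗[A'] J →ₗ[T'] T' :=
  ((Algebra.linearMap A' T').comp J.subtype).liftBaseChange T'

theorem tmulMap_tmul (t : T') (a : J) : tmulMap J (t ⊗ₜ[A'] a) = t * algebraMap A' T' a := by
  simp [tmulMap]

theorem tmulMap_injective [Module.Flat A' T'] : Function.Injective (tmulMap (T' := T') J) := by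
  have h : ∀ x, tmulMap (T' := T') J x = TensorProduct.rid A' T' (J.subtype.lTensor T' x) := by
    intro x
    induction x using TensorProduct.induction_on with
    | zero => simp
    | add x y hx hy => simp [map_add, hx, hy]
    | tmul t a => simp [tmulMap_tmul, Algebra.smul_def, mul_comm]
  intro x y hxy
  rw [h, h] at hxy
  exact Module.Flat.lTensor_preserves_injective_linearMap J.subtype J.injective_subtype
    ((TensorProduct.rid A' T').injective hxy)

theorem mem_map_of_tmulMap (x : T' ⊗[A'] J) : tmulMap J x ∈ J.map (algebraMap A' T') := by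
  induction x using TensorProduct.induction_on with
  | zero => rw [map_zero]; exact zero_mem _
  | add x y hx hy => rw [map_add]; exact add_mem hx hy
  | tmul t a => rw [tmulMap_tmul]; exact Ideal.mul_mem_left _ _ (Ideal.mem_map_of_mem _ a.2)

/-- Lifting trivial relations. -/
theorem exists_lift_trivial (g : T' →+* T) (hg : Function.Surjective g) {r : ℕ} (f : Fin r → T') {v : Fin r → T}
    (hv : v ∈ Submodule.span T {v : Fin r → T | ∃ i j : Fin r,
      v = Pi.single i (g (f j)) - Pi.single j (g (f i))}) :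
    ∃ c : Fin r → T', ∑ i, c i * f i = 0 ∧ ∀ i, g (c i) = v i := by
  classical
  induction hv using Submodule.span_induction with
  | mem v hv =>
    obtain ⟨i, j, rfl⟩ := hv
    refine ⟨Pi.single i (f j) - Pi.single j (f i), ?_, fun k => ?_⟩
    · simp only [Pi.sub_apply, sub_mul, Finset.sum_sub_distrib, Pi.single_apply, ite_mul, zero_mul,
        Finset.sum_ite_eq', Finset.mem_univ, if_true]
      ring
    · simp only [Pi.sub_apply, map_sub, Pi.single_apply, apply_ite g, map_zero]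
  | zero => exact ⟨0, by simp, by simp⟩
  | add v w _ _ hv hw =>
    obtain ⟨c, hc, hc'⟩ := hv
    obtain ⟨d, hd, hd'⟩ := hw
    exact ⟨c + d, by simp [add_mul, Finset.sum_add_distrib, hc, hd], fun k => by simp [hc', hd']⟩
  | smul a v _ hv =>
    obtain ⟨c, hc, hc'⟩ := hv
    obtain ⟨a', rfl⟩ := hg a
    refine ⟨a' • c, ?_, fun k => by simp [hc']⟩
    simp only [Pi.smul_apply, smul_eq_mul, mul_assoc, ← Finset.mul_sum, hc, mul_zero]

/-- A tensor whose product lies in the square of a lift of an `H₁`-regular ideal comes from that ideal. -/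
theorem mem_span_tmul_of_mul_mem_sq [Module.Flat A' T'] (g : T' →+* T) (hg : Function.Surjective g)
    (hker : RingHom.ker g = J.map (algebraMap A' T')) {r : ℕ} (f : Fin r → T') (hf : CAlgX.IsH1Regular (g ∘ f))
    (x : T' ⊗[A'] J) (hx : tmulMap J x ∈ (Ideal.span (Set.range f) ⊔ J.map (algebraMap A' T')) ^ 2) :
    x ∈ Submodule.span T' {y | ∃ q ∈ Ideal.span (Set.range f) ⊔ J.map (algebraMap A' T'), ∃ a : J, y = q ⊗ₜ[A'] a} := by
  classical
  set S := Ideal.span (Set.range f)
  set JT := J.map (algebraMap A' T')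
  have h2 : (S ⊔ JT) ^ 2 ≤ S * S ⊔ (S ⊔ JT) * JT := by
    rw [pow_two, Ideal.mul_sup, Ideal.sup_mul]
    refine sup_le (sup_le le_sup_left ?_) le_sup_right
    rw [mul_comm JT S]
    exact (Ideal.mul_mono (le_sup_left : S ≤ S ⊔ JT) le_rfl).trans le_sup_right
  obtain ⟨m₁, hm₁, n, hn, hmn⟩ := Submodule.mem_sup.1 (h2 hx)
  obtain ⟨b, hb⟩ : ∃ b : Fin r → T', ∑ i, b i * f i = m₁ := by
    have h3 : m₁ ∈ S := Ideal.mul_le.2 (fun a _ b' hb' => S.mul_mem_left a hb') hm₁
    exact (Submodule.mem_span_range_iff_exists_fun T').1 h3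
  have hg0 : ∑ i, g (b i) * (g ∘ f) i = 0 := by
    have e1 : g m₁ = 0 := by
      have e2 : m₁ = tmulMap J x - n := by rw [← hmn]; ring
      have k1 : g (tmulMap (T' := T') J x) = 0 := by
        have k := mem_map_of_tmulMap (T' := T') J x
        exact RingHom.mem_ker.1 (hker.ge k)
      have k2 : g n = 0 := by
        have k : n ∈ JT := Ideal.mul_le.2 (fun a _ b' hb' => JT.mul_mem_left a hb') hn
        exact RingHom.mem_ker.1 (hker.ge k)
      rw [e2, map_sub, k1, k2, sub_zero]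
    rw [← e1, ← hb, map_sum]
    exact Finset.sum_congr rfl fun i _ => (map_mul g _ _).symm
  obtain ⟨c, hc, hc'⟩ := exists_lift_trivial g hg f (hf _ hg0)
  have hmem : tmulMap J x ∈ (S ⊔ JT) * JT := by
    have e3 : tmulMap J x = ∑ i, f i * (b i - c i) + n := by
      have e4 : ∑ i, f i * (b i - c i) = m₁ := by
        rw [← hb, ← sub_zero (∑ i, b i * f i), ← hc, ← Finset.sum_sub_distrib]
        exact Finset.sum_congr rfl fun i _ => by ring
      rw [e4]; exact hmn.symm
    rw [e3]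
    refine add_mem (Ideal.sum_mem _ fun i _ => Ideal.mul_mem_mul (Ideal.mem_sup_left (Ideal.subset_span ⟨i, rfl⟩)) ?_) hn
    show b i - c i ∈ JT
    rw [← hker, RingHom.mem_ker, map_sub, hc' i, sub_self]
  set P := Submodule.span T' {y | ∃ q ∈ S ⊔ JT, ∃ a : J, y = q ⊗ₜ[A'] a}
  suffices h : tmulMap J x ∈ P.map (tmulMap J) by
    obtain ⟨y, hy, hyx⟩ := h
    rwa [← tmulMap_injective J hyx]
  have h4 : (S ⊔ JT) * JT ≤ P.map (tmulMap J) := by
    refine Ideal.mul_le.2 fun q hq s hs => ?_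
    induction hs using Submodule.span_induction generalizing q with
    | mem s hs =>
      obtain ⟨a, ha, rfl⟩ := hs
      exact ⟨q ⊗ₜ ⟨a, ha⟩, Submodule.subset_span ⟨q, hq, _, rfl⟩, tmulMap_tmul J q _⟩
    | zero => rw [mul_zero]; exact zero_mem _
    | add s s' _ _ hs hs' => rw [mul_add]; exact add_mem (hs q hq) (hs' q hq)
    | smul t s _ hs =>
      rw [smul_eq_mul, ← mul_assoc]
      exact hs (q * t) (Ideal.mul_mem_right _ _ hq)
  exact h4 hmem

/-- `H₁`-regularity passes to localizations. -/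
theorem isH1Regular_of_isLocalization {B : Type u} [CommRing B] (M : Submonoid B) {L : Type u} [CommRing L]
    [Algebra B L] [IsLocalization M L] {r : ℕ} {f : Fin r → B} (hf : CAlgX.IsH1Regular f) :
    CAlgX.IsH1Regular (algebraMap B L ∘ f) := by
  classical
  intro a ha
  obtain ⟨s, hs⟩ := IsLocalization.exist_integer_multiples_of_finite M a
  choose c hc using hs
  have hc' : ∀ i, algebraMap B L (c i) = algebraMap B L s * a i := fun i => by
    rw [hc i, Algebra.smul_def]
  have h0 : algebraMap B L (∑ i, c i * f i) = 0 := by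
    rw [map_sum]
    have : ∀ i, algebraMap B L (c i * f i) = algebraMap B L s * (a i * algebraMap B L (f i)) := fun i => by
      rw [map_mul, hc', mul_assoc]
    simp only [this, ← Finset.mul_sum]
    rw [show ∑ i, a i * algebraMap B L (f i) = 0 from ha, mul_zero]
  obtain ⟨t, ht⟩ := (IsLocalization.map_eq_zero_iff M L _).1 h0
  have hmem := hf (fun i => (t : B) * c i) (by simpa only [mul_assoc, ← Finset.mul_sum] using ht)
  obtain ⟨w, hw⟩ := IsLocalization.map_units L (t * s)
  have key : (fun i => algebraMap B L ((t : B) * c i)) ∈ Submodule.span L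
      {v : Fin r → L | ∃ i j : Fin r, v = Pi.single i ((algebraMap B L ∘ f) j) - Pi.single j ((algebraMap B L ∘ f) i)} := by
    suffices h : ∀ v ∈ Submodule.span B {v : Fin r → B | ∃ i j : Fin r, v = Pi.single i (f j) - Pi.single j (f i)},
        (fun i => algebraMap B L (v i)) ∈ Submodule.span L
          {v : Fin r → L | ∃ i j : Fin r, v = Pi.single i ((algebraMap B L ∘ f) j) - Pi.single j ((algebraMap B L ∘ f) i)} from
      h _ hmem
    intro v hv
    induction hv using Submodule.span_induction with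
    | mem v hv =>
      obtain ⟨i, j, rfl⟩ := hv
      refine Submodule.subset_span ⟨i, j, funext fun k => ?_⟩
      simp only [Pi.sub_apply, map_sub, Pi.single_apply, apply_ite (algebraMap B L), map_zero, Function.comp_apply]
    | zero =>
      rw [show (fun i => algebraMap B L ((0 : Fin r → B) i)) = (0 : Fin r → L) from funext fun i => map_zero _]
      exact zero_mem _
    | add v v' _ _ hv hv' =>
      rw [show (fun i => algebraMap B L ((v + v') i)) = (fun i => algebraMap B L (v i)) + fun i => algebraMap B L (v' i)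
        from funext fun i => map_add _ _ _]
      exact add_mem hv hv'
    | smul b v _ hv =>
      rw [show (fun i => algebraMap B L ((b • v) i)) = algebraMap B L b • fun i => algebraMap B L (v i)
        from funext fun i => map_mul _ _ _]
      exact Submodule.smul_mem _ (algebraMap B L b) hv
  have ha' : a = (↑w⁻¹ : L) • fun i => algebraMap B L ((t : B) * c i) := funext fun i => by
    have e1 : algebraMap B L ((t : B) * c i) = (w : L) * a i := by
      rw [map_mul, hc', hw, Submonoid.coe_mul, map_mul, mul_assoc]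
    show a i = (↑w⁻¹ : L) * algebraMap B L ((t : B) * c i)
    rw [e1, Units.inv_mul_cancel_left]
  rw [ha']
  exact Submodule.smul_mem _ _ key

end Algebra

/-- `Spec` of a surjection with square zero kernel is a first order thickening. -/
theorem fot_Spec_of_surjective {W C : Type u} [CommRing W] [CommRing C] (g : W →+* C) (hg : Function.Surjective g)
    (hsq : RingHom.ker g ^ 2 = ⊥) : MoreMor.IsFirstOrderThickening (Spec.map (CommRingCat.ofHom g)) := by
  let e : CommRingCat.of (W ⧸ RingHom.ker g) ≅ CommRingCat.of C :=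
    (RingHom.quotientKerEquivOfSurjective hg).toCommRingCatIso
  refine fot_of_isPullback (fot_Spec W (RingHom.ker g) hsq) (f := 𝟙 _) (g := Spec.map e.hom) ?_
  refine IsPullback.of_vert_isIso ⟨?_⟩
  rw [Category.comp_id, ← Spec.map_comp]
  exact congrArg Spec.map (CommRingCat.hom_ext (RingHom.ext fun x => (RingHom.quotientKerEquivOfSurjective_apply_mk hg x).symm))

attribute [local instance] Groth.Agent.H06Mod.stalkAlgebra

/-- An element is a unit if it is one modulo a square-zero ideal. -/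
theorem isUnit_of_map_sq_zero {W C : Type u} [CommRing W] [CommRing C] (g : W →+* C) (hg : Function.Surjective g)
    (hsq : RingHom.ker g ^ 2 = ⊥) {w : W} (hw : IsUnit (g w)) : IsUnit w := by
  obtain ⟨c, hc⟩ := hg (↑hw.unit⁻¹ : C)
  have h2 : w * c - 1 ∈ RingHom.ker g := by
    rw [RingHom.mem_ker, map_sub, map_mul, hc, map_one, IsUnit.mul_val_inv, sub_self]
  have hn : IsNilpotent (w * c - 1) := ⟨2, by
    have := Ideal.pow_mem_pow h2 2
    rwa [hsq] at this⟩
  have h3 := hn.isUnit_one_add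
  rw [add_sub_cancel] at h3
  exact isUnit_of_mul_isUnit_left h3

variable {Z Y X Z' Y' : Scheme.{u}} {i : Z ⟶ Y} {b : Y ⟶ X} {i' : Z ⟶ Z'} {c : Z' ⟶ X} {j : Y ⟶ Y'}
  {d : Y' ⟶ X} {m : Z' ⟶ Y'} [IsClosedImmersion i'] [IsClosedImmersion j]

/-- A flat lift over the thickened base of the local ring of a presentation at a point. -/
theorem exists_local_lift (hY' : MoreMor.IsFirstOrderThickening j) {z : Z} (hlci : Synt.IsKoszulAt i z)
    {V' : Y'.Opens} (hV' : IsAffineOpen V') (hz : i z ∈ j ⁻¹ᵁ V') :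
    ∃ (T' T : Type u) (_ : CommRing T') (_ : CommRing T) (str : Γ(Y', V') →+* T') (g : T' →+* T)
      (gC : T' →+* Z.presheaf.stalk z) (r : ℕ) (f : Fin r → T'),
      (letI := str.toAlgebra
       Module.Flat Γ(Y', V') T') ∧ Function.Surjective g ∧
      RingHom.ker g = (RingHom.ker (j.app V').hom).map str ∧ CAlgX.IsH1Regular (g ∘ f) ∧
      Function.Surjective gC ∧
      RingHom.ker gC = Ideal.span (Set.range f) ⊔ (RingHom.ker (j.app V').hom).map str ∧
      Spec.map (CommRingCat.ofHom (gC.comp str)) ≫ hV'.fromSpec = Z.fromSpecStalk z ≫ i ≫ j := by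
  obtain ⟨U, P, ι, π, hzU, -, ⟨hιimm, hιreg⟩, hπ, hfac⟩ := hlci
  haveI := hιimm
  haveI := hπ
  let u : (U : Scheme.{u}) := ⟨z, hzU⟩
  have hV : IsAffineOpen (j ⁻¹ᵁ V') := isAffineOpen_preimage hY' hV'
  have hp : ι u ∈ π ⁻¹ᵁ (j ⁻¹ᵁ V') := by
    show (ι ≫ π) u ∈ j ⁻¹ᵁ V'
    rw [hfac]; exact hz
  obtain ⟨_, ⟨Q₀, hQ₀, rfl⟩, hpQ, hle⟩ := P.isBasis_affineOpens.exists_subset_of_mem_open hp (π ⁻¹ᵁ (j ⁻¹ᵁ V')).2
  obtain ⟨Q, hQ, rfl⟩ : ∃ Q : P.Opens, IsAffineOpen Q ∧ Q = Q₀ := ⟨Q₀, hQ₀, rfl⟩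
  let φ : Γ(Y', V') →+* Γ(P, Q) := (π.appLE (j ⁻¹ᵁ V') Q hle).hom.comp (j.app V').hom
  set J := RingHom.ker (j.app V').hom with hJdef
  let q : Γ(Y', V') ⧸ J →+* Γ(P, Q) := Ideal.Quotient.lift J φ fun a ha => by
    show (π.appLE (j ⁻¹ᵁ V') Q hle).hom ((j.app V').hom a) = 0
    rw [RingHom.mem_ker.1 ha, map_zero]
  letI : Algebra (Γ(Y', V') ⧸ J) Γ(P, Q) := q.toAlgebra
  letI : Algebra Γ(Y', V') Γ(P, Q) := φ.toAlgebra
  haveI : IsScalarTower Γ(Y', V') (Γ(Y', V') ⧸ J) Γ(P, Q) := .of_algebraMap_eq fun _ => rfl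
  haveI : Algebra.Smooth (Γ(Y', V') ⧸ J) Γ(P, Q) := by
    rw [← RingHom.smooth_algebraMap]
    have h : q = (π.appLE (j ⁻¹ᵁ V') Q hle).hom.comp
        (RingHom.quotientKerEquivOfSurjective (j.app_surjective V' hV')).toRingHom :=
      Ideal.Quotient.ringHom_ext (RingHom.ext fun a => congrArg (π.appLE (j ⁻¹ᵁ V') Q hle).hom
        (RingHom.quotientKerEquivOfSurjective_apply_mk (j.app_surjective V' hV') a).symm)
    show q.Smooth
    rw [h]
    exact (RingHom.Smooth.of_bijective (RingEquiv.bijective _)).comp (Smooth.smooth_appLE π hV hQ hle)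
  obtain ⟨B', _, _, _, ρ, hρs, hρk⟩ := H9Smooth.exists_smooth_lift (A₀ := Γ(P, Q)) J
  letI : Algebra Γ(P, Q) (P.presheaf.stalk (ι.base u)) := (P.presheaf.germ Q _ hpQ).hom.toAlgebra
  haveI : IsLocalization (hQ.primeIdealOf ⟨_, hpQ⟩).asIdeal.primeCompl (P.presheaf.stalk (ι.base u)) :=
    hQ.isLocalization_stalk ⟨_, hpQ⟩
  let p' : Ideal B' := (hQ.primeIdealOf ⟨_, hpQ⟩).asIdeal.comap ρ.toRingHom
  haveI : p'.IsPrime := Ideal.comap_isPrime _ _
  let T' := Localization.AtPrime p'
  have hunit : ∀ s : p'.primeCompl, IsUnit ((algebraMap Γ(P, Q) (P.presheaf.stalk (ι.base u))).comp ρ.toRingHom s) :=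
    fun s => IsLocalization.map_units (P.presheaf.stalk (ι.base u))
      (⟨ρ s, s.2⟩ : (hQ.primeIdealOf ⟨_, hpQ⟩).asIdeal.primeCompl)
  let g : T' →+* P.presheaf.stalk (ι.base u) := IsLocalization.lift hunit
  have hgB : ∀ x, g (algebraMap B' T' x) = algebraMap Γ(P, Q) (P.presheaf.stalk (ι.base u)) (ρ x) :=
    IsLocalization.lift_eq hunit
  let str : Γ(Y', V') →+* T' := (algebraMap B' T').comp (algebraMap Γ(Y', V') B')
  have hgs : Function.Surjective g := by
    intro t
    obtain ⟨⟨x, ⟨s, hs⟩⟩, hxs⟩ := IsLocalization.surj (hQ.primeIdealOf ⟨_, hpQ⟩).asIdeal.primeCompl t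
    obtain ⟨x', rfl⟩ := hρs x
    obtain ⟨s', rfl⟩ := hρs s
    refine ⟨IsLocalization.mk' T' x' (⟨s', hs⟩ : p'.primeCompl), (hunit ⟨s', hs⟩).mul_right_cancel ?_⟩
    refine Eq.trans ?_ hxs.symm
    show g (IsLocalization.mk' T' x' (⟨s', hs⟩ : p'.primeCompl)) * algebraMap Γ(P, Q) (P.presheaf.stalk (ι.base u)) (ρ s') =
      algebraMap Γ(P, Q) (P.presheaf.stalk (ι.base u)) (ρ x')
    rw [← hgB s', ← hgB x', ← map_mul]
    exact congrArg g (IsLocalization.mk'_spec T' x' (⟨s', hs⟩ : p'.primeCompl))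
  have hker : RingHom.ker g = J.map str := by
    refine le_antisymm (fun t ht => ?_) (Ideal.map_le_iff_le_comap.2 fun a ha => ?_)
    · obtain ⟨⟨x, ⟨s, hs⟩⟩, hxs⟩ := IsLocalization.surj p'.primeCompl t
      have h0 : algebraMap Γ(P, Q) (P.presheaf.stalk (ι.base u)) (ρ x) = 0 := by
        rw [← hgB, ← hxs, map_mul, RingHom.mem_ker.1 ht, zero_mul]
      obtain ⟨⟨w, hw⟩, hwx⟩ := (IsLocalization.map_eq_zero_iff (hQ.primeIdealOf ⟨_, hpQ⟩).asIdeal.primeCompl
        (P.presheaf.stalk (ι.base u)) _).1 h0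
      obtain ⟨w', rfl⟩ := hρs w
      have h1 : algebraMap B' T' (w' * x) ∈ J.map str := by
        have h2 := Ideal.mem_map_of_mem (algebraMap B' T') (hρk (w' * x) (by rw [map_mul]; exact hwx))
        rwa [Ideal.map_map] at h2
      have hu : IsUnit (algebraMap B' T' w' * algebraMap B' T' s) :=
        (IsLocalization.map_units T' (⟨w', hw⟩ : p'.primeCompl)).mul (IsLocalization.map_units T' (⟨s, hs⟩ : p'.primeCompl))
      rw [← Ideal.unit_mul_mem_iff_mem _ hu, mul_assoc, mul_comm _ t]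
      rw [map_mul, ← hxs] at h1
      exact h1
    · show g (str a) = 0
      rw [RingHom.comp_apply, hgB, ρ.commutes]
      show algebraMap Γ(P, Q) _ ((π.appLE (j ⁻¹ᵁ V') Q hle).hom ((j.app V').hom a)) = 0
      rw [RingHom.mem_ker.1 ha, map_zero, map_zero]
  -- the equations
  obtain ⟨UP, hup, hcl, rs, hrs, hkrs⟩ := hιreg u
  haveI := hcl
  letI : Algebra Γ(P, UP.1) (P.presheaf.stalk (ι.base u)) := (P.presheaf.germ UP.1 _ hup).hom.toAlgebra
  haveI : IsLocalization (UP.2.primeIdealOf ⟨_, hup⟩).asIdeal.primeCompl (P.presheaf.stalk (ι.base u)) :=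
    UP.2.isLocalization_stalk ⟨_, hup⟩
  have hH1 := isH1Regular_of_isLocalization (UP.2.primeIdealOf ⟨_, hup⟩).asIdeal.primeCompl
    (L := P.presheaf.stalk (ι.base u)) (H29Slice.isH1Regular_of_isKoszulRegular hrs)
  have hkι : RingHom.ker (ι.stalkMap u).hom =
      Ideal.span (Set.range fun l => algebraMap Γ(P, UP.1) (P.presheaf.stalk (ι.base u)) (rs.get l)) := by
    rw [H17.ker_stalkMap_eq_map ι UP.2 u hup, hkrs]
    show Ideal.map _ (Ideal.span {x | x ∈ rs}) = _
    rw [Ideal.map_span]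
    congr 1
    ext x
    constructor
    · rintro ⟨y, hy, rfl⟩
      obtain ⟨l, rfl⟩ := List.mem_iff_get.1 hy
      exact ⟨l, rfl⟩
    · rintro ⟨l, rfl⟩
      exact ⟨_, List.get_mem _ _, rfl⟩
  choose f hf using fun l : Fin rs.length => hgs (algebraMap Γ(P, UP.1) (P.presheaf.stalk (ι.base u)) (rs.get l))
  haveI : IsIso (U.ι.stalkMap u) := inferInstance
  let gC : T' →+* Z.presheaf.stalk z := ((inv (U.ι.stalkMap u)).hom.comp (ι.stalkMap u).hom).comp g
  refine ⟨T', _, inferInstance, inferInstance, str, g, gC, rs.length, f, ?_, hgs, hker, ?_, ?_, ?_, ?_⟩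
  · exact RingHom.Flat.comp (RingHom.flat_algebraMap_iff.2 inferInstance)
      (RingHom.flat_algebraMap_iff.2 (IsLocalization.flat T' p'.primeCompl))
  · rwa [show g ∘ f = algebraMap Γ(P, UP.1) (P.presheaf.stalk (ι.base u)) ∘ rs.get from funext hf]
  · exact ((ConcreteCategory.bijective_of_isIso (inv (U.ι.stalkMap u))).2.comp (ι.stalkMap_surjective u)).comp hgs
  · have h1 : RingHom.ker gC = (RingHom.ker (ι.stalkMap u).hom).comap g := by
      ext t
      rw [RingHom.mem_ker, Ideal.mem_comap, RingHom.mem_ker]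
      exact map_eq_zero_iff _ (ConcreteCategory.bijective_of_isIso (inv (U.ι.stalkMap u))).1
    rw [h1, hkι, show (fun l => algebraMap Γ(P, UP.1) (P.presheaf.stalk (ι.base u)) (rs.get l)) = g ∘ f from
      funext fun l => (hf l).symm, Set.range_comp, ← Ideal.map_span, Ideal.comap_map_of_surjective g hgs,
      ← RingHom.ker_eq_comap_bot, hker]
  · have e1 : CommRingCat.ofHom (gC.comp str) = j.app V' ≫ π.appLE (j ⁻¹ᵁ V') Q hle ≫
        P.presheaf.germ Q (ι u) hpQ ≫ ι.stalkMap u ≫ inv (U.ι.stalkMap u) := CommRingCat.hom_ext (RingHom.ext fun a => by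
      show (inv (U.ι.stalkMap u)).hom ((ι.stalkMap u).hom (g (algebraMap B' T' (algebraMap Γ(Y', V') B' a)))) = _
      rw [hgB, ρ.commutes]
      rfl)
    have e2 : Spec.map (P.presheaf.germ Q (ι u) hpQ) ≫ hQ.fromSpec = P.fromSpecStalk (ι u) :=
      hQ.fromSpecStalk_eq_fromSpecStalk hpQ
    have e3 : Spec.map (π.appLE (j ⁻¹ᵁ V') Q hle) ≫ hV.fromSpec = hQ.fromSpec ≫ π :=
      hV.SpecMap_appLE_fromSpec π hQ hle
    have e4 : Spec.map (j.app V') ≫ hV'.fromSpec = hV.fromSpec ≫ j := by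
      rw [← hV'.SpecMap_appLE_fromSpec j hV le_rfl, Scheme.Hom.app_eq_appLE]
    refine (congrArg (fun t => Spec.map t ≫ hV'.fromSpec) e1).trans ?_
    show Spec.map (j.app V' ≫ π.appLE (j ⁻¹ᵁ V') Q hle ≫ P.presheaf.germ Q (ι u) hpQ ≫ ι.stalkMap u ≫
      inv (U.ι.stalkMap u)) ≫ hV'.fromSpec = Z.fromSpecStalk (U.ι u) ≫ i ≫ j
    rw [Spec.map_comp, Spec.map_comp, Spec.map_comp, Spec.map_comp]
    simp only [Category.assoc]
    rw [e4, reassoc_of% e3, reassoc_of% e2, Scheme.SpecMap_stalkMap_fromSpecStalk_assoc, reassoc_of% hfac,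
      ← Scheme.SpecMap_stalkMap_fromSpecStalk_assoc, ← Spec.map_comp_assoc, IsIso.hom_inv_id, Spec.map_id,
      Category.id_comp]

/-- For a local complete intersection the conormal map to the composite is injective on stalks. -/
theorem injective_stalkLin_of_lci (hZ' : OmegaSh.IsUnivThickening (i ≫ b) i' c)
    (hY' : OmegaSh.IsUnivThickening b j d) (hm₁ : i' ≫ m = i ≫ j) (hm₂ : m ≫ d = c)
    {ψ₁ : (Scheme.Modules.pullback i).obj (Omega.conormal j) ⟶ Omega.conormal i'}
    (hψ₁ : OmegaSh.IsConormalMap i' j m i ψ₁) (z : Z) (hlci : Synt.IsKoszulAt i z) :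
    Function.Injective (stalkLin ψ₁ z) := by
  obtain ⟨_, ⟨V', hV', rfl⟩, hyV, -⟩ :=
    Y'.isBasis_affineOpens.exists_subset_of_mem_open (Set.mem_univ (j (i z))) isOpen_univ
  obtain ⟨T', T, _, _, str, g, gC, r, f, hflat, hgs, hker, hf, hgCs, hkC, hcompat⟩ :=
    exists_local_lift hY'.1 hlci hV' hyV
  letI : Algebra Γ(Y', V') T' := str.toAlgebra
  haveI : Module.Flat Γ(Y', V') T' := hflat
  set J := RingHom.ker (j.app V').hom with hJdef
  -- the test thickening
  let W := T' ⧸ (RingHom.ker gC) ^ 2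
  let gW : W →+* Z.presheaf.stalk z := Ideal.Quotient.lift _ gC fun a ha =>
    RingHom.mem_ker.1 (Ideal.pow_le_self two_ne_zero ha)
  have hgWs : Function.Surjective gW := fun x => by
    obtain ⟨t, rfl⟩ := hgCs x
    exact ⟨Ideal.Quotient.mk _ t, rfl⟩
  have hIW : RingHom.ker gW ^ 2 = ⊥ := by
    have h : RingHom.ker gW = (RingHom.ker gC).map (Ideal.Quotient.mk _) := by
      refine le_antisymm (fun w hw => ?_) (Ideal.map_le_iff_le_comap.2 fun t ht => ht)
      obtain ⟨t, rfl⟩ := Ideal.Quotient.mk_surjective w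
      exact Ideal.mem_map_of_mem _ hw
    rw [h, ← Ideal.map_pow, Ideal.map_quotient_self]
  let strW : CommRingCat.of Γ(Y', V') ⟶ CommRingCat.of W := CommRingCat.ofHom ((Ideal.Quotient.mk _).comp str)
  let t : Spec (Z.presheaf.stalk z) ⟶ Spec (CommRingCat.of W) := Spec.map (CommRingCat.ofHom gW)
  have ht : MoreMor.IsFirstOrderThickening t := fot_Spec_of_surjective gW hgWs hIW
  let bS : Spec (CommRingCat.of W) ⟶ Y' := Spec.map strW ≫ hV'.fromSpec
  have hbS : t ≫ bS = Z.fromSpecStalk z ≫ i ≫ j := by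
    rw [← hcompat]
    show Spec.map _ ≫ Spec.map strW ≫ hV'.fromSpec = _
    rw [← Spec.map_comp_assoc]
    rfl
  obtain ⟨σ, ⟨hσ1, hσ2⟩, -⟩ := hZ'.2.2 _ _ t (bS ≫ d) (Z.fromSpecStalk z) ht (by
    rw [reassoc_of% hbS, hY'.2.1])
  have hσm : σ ≫ m = bS := by
    refine (hY'.2.2 _ _ t (bS ≫ d) (Z.fromSpecStalk z ≫ i) ht ?_).unique ⟨?_, ?_⟩ ⟨?_, rfl⟩
    · rw [reassoc_of% hbS, hY'.2.1, Category.assoc]
    · rw [reassoc_of% hσ1, hm₁, Category.assoc]
    · rw [Category.assoc, hm₂, hσ2]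
    · rw [hbS, Category.assoc]
  have hzm : i' z ∈ m ⁻¹ᵁ V' := by
    show (i' ≫ m) z ∈ V'
    rw [hm₁]; exact hyV
  obtain ⟨_, ⟨W', hW', rfl⟩, hzW, hle⟩ :=
    Z'.isBasis_affineOpens.exists_subset_of_mem_open hzm (m ⁻¹ᵁ V').2
  have hran : Set.range σ ⊆ Set.range hW'.fromSpec := by
    rintro _ ⟨w, rfl⟩
    rw [hW'.range_fromSpec]
    refine mem_of_fot ht hσ1 W' (fun y => ?_) w
    have hy : Z.fromSpecStalk z y ⤳ z := by
      have h1 : Z.fromSpecStalk z y ∈ Set.range (Z.fromSpecStalk z) := ⟨y, rfl⟩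
      rwa [Scheme.range_fromSpecStalk] at h1
    exact hy.mem_open (i' ⁻¹ᵁ W').2 hzW
  obtain ⟨ψ, hψ⟩ := Spec.map_surjective (IsOpenImmersion.lift hW'.fromSpec σ hran)
  have hψ' : Spec.map ψ ≫ hW'.fromSpec = σ := by rw [hψ, IsOpenImmersion.lift_fac]
  have hψ1 : ψ ≫ CommRingCat.ofHom gW = Z'.presheaf.germ W' (i' z) hzW ≫ i'.stalkMap z := by
    apply Spec.map_injective
    rw [← cancel_mono hW'.fromSpec, Spec.map_comp, Spec.map_comp, Category.assoc, Category.assoc, hψ']
    refine hσ1.trans ?_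
    rw [← Scheme.SpecMap_stalkMap_fromSpecStalk]
    exact congrArg (Spec.map (i'.stalkMap z) ≫ ·) (hW'.fromSpecStalk_eq_fromSpecStalk hzW).symm
  have hψ2 : m.appLE V' W' hle ≫ ψ = strW := by
    apply Spec.map_injective
    rw [← cancel_mono hV'.fromSpec, Spec.map_comp, Category.assoc, hV'.SpecMap_appLE_fromSpec m hW' hle,
      ← Category.assoc, hψ', hσm]
  letI : Algebra Γ(Z', W') (Z'.presheaf.stalk (i'.base z)) := (Z'.presheaf.germ W' _ hzW).hom.toAlgebra
  haveI : IsLocalization (hW'.primeIdealOf ⟨_, hzW⟩).asIdeal.primeCompl (Z'.presheaf.stalk (i'.base z)) :=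
    hW'.isLocalization_stalk ⟨_, hzW⟩
  have hunitW : ∀ s : (hW'.primeIdealOf ⟨_, hzW⟩).asIdeal.primeCompl, IsUnit (ψ.hom s) := fun s => by
    refine isUnit_of_map_sq_zero gW hgWs hIW ?_
    rw [show gW (ψ.hom s) = (i'.stalkMap z).hom (Z'.presheaf.germ W' (i' z) hzW s) from congr($hψ1 s.1)]
    exact (IsLocalization.map_units (Z'.presheaf.stalk (i'.base z)) s).map _
  let Ψ : Z'.presheaf.stalk (i'.base z) →+* W := IsLocalization.lift hunitW
  have hΨ : ∀ x, Ψ (Z'.presheaf.germ W' (i' z) hzW x) = ψ.hom x := IsLocalization.lift_eq hunitW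
  have hΨ' : ∀ x, gW (Ψ x) = (i'.stalkMap z).hom x := fun x => RingHom.congr_fun
    (IsLocalization.ringHom_ext (hW'.primeIdealOf ⟨_, hzW⟩).asIdeal.primeCompl
      (j := gW.comp Ψ) (k := (i'.stalkMap z).hom) (RingHom.ext fun x => by
        show gW (Ψ (Z'.presheaf.germ W' (i' z) hzW x)) = _
        rw [hΨ]; exact congr($hψ1 x))) x
  -- the target module
  let eC := RingHom.quotientKerEquivOfSurjective hgWs
  have heC : ∀ w, eC (Ideal.Quotient.mk _ w) = gW w := RingHom.quotientKerEquivOfSurjective_apply_mk hgWs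
  letI : Module (Z.presheaf.stalk z) (RingHom.ker gW).Cotangent :=
    Module.compHom _ eC.symm.toRingHom
  have hsm : ∀ (w : W) (x : (RingHom.ker gW).Cotangent), gW w • x = w • x := fun w x => by
    show eC.symm (gW w) • x = w • x
    rw [← heC, eC.symm_apply_apply]
    exact algebraMap_smul (W ⧸ RingHom.ker gW) w x
  let LΨ : RingHom.ker (i'.stalkMap z).hom →+ RingHom.ker gW :=
    { toFun := fun a => ⟨Ψ a.1, by rw [RingHom.mem_ker, hΨ']; exact a.2⟩
      map_zero' := Subtype.ext (map_zero Ψ)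
      map_add' := fun a b => Subtype.ext (map_add Ψ a.1 b.1) }
  have hLΨ : ∀ r a, LΨ (r • a) = Ψ r • LΨ a := fun r a => Subtype.ext (map_mul Ψ r a.1)
  obtain ⟨G, hG⟩ := exists_lift_cgen i' z ((RingHom.ker gW).toCotangent.toAddMonoidHom.comp LΨ) (fun r a => by
    refine Eq.trans ?_ ((hsm (Ψ r) _).symm.trans (congrArg (· • _) (hΨ' r)))
    exact (congrArg (RingHom.ker gW).toCotangent (hLΨ r a)).trans (map_smul (RingHom.ker gW).toCotangent (Ψ r) (LΨ a)))
  -- the source
  set M := ((Scheme.Modules.pullback i).obj (Omega.conormal j)).presheaf.stalk z with hMdef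
  letI : Module T' M := Module.compHom M gC
  letI : Module Γ(Y', V') M := Module.compHom M (gC.comp str)
  haveI : IsScalarTower Γ(Y', V') T' M := .of_algebraMap_smul fun _ _ => rfl
  have hgerm : ∀ a : J, Y'.presheaf.germ V' (j (i z)) hyV a.1 ∈ RingHom.ker (j.stalkMap (i z)).hom := fun a => by
    rw [RingHom.mem_ker]
    erw [Scheme.Hom.germ_stalkMap_apply]
    rw [RingHom.mem_ker.1 a.2, map_zero]
  let α : J → (Omega.conormal j).presheaf.stalk (i.base z) := fun a => cgen j (i.base z) ⟨_, hgerm a⟩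
  have hstr : ∀ a, gC (str a) = (i.stalkMap z).hom ((j.stalkMap (i z)).hom (Y'.presheaf.germ V' (j (i z)) hyV a)) := by
    intro a
    have e : CommRingCat.ofHom (gC.comp str) =
        Y'.presheaf.germ V' (j (i z)) hyV ≫ j.stalkMap (i z) ≫ i.stalkMap z := by
      apply Spec.map_injective
      rw [← cancel_mono hV'.fromSpec]
      refine hcompat.trans ?_
      simp only [Spec.map_comp, Category.assoc]
      rw [show Spec.map (Y'.presheaf.germ V' (j (i z)) hyV) ≫ hV'.fromSpec = Y'.fromSpecStalk (j (i z)) from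
        hV'.fromSpecStalk_eq_fromSpecStalk hyV, Scheme.SpecMap_stalkMap_fromSpecStalk,
        Scheme.SpecMap_stalkMap_fromSpecStalk_assoc]
    exact congr($e a)
  let α' : J →ₗ[Γ(Y', V')] M :=
    { toFun := fun a => pullStalk i (Omega.conormal j) z (α a)
      map_add' := fun a a' => by
        show pullStalk i _ z (cgen j (i.base z) _) = _
        rw [show (⟨_, hgerm (a + a')⟩ : RingHom.ker (j.stalkMap (i z)).hom) = ⟨_, hgerm a⟩ + ⟨_, hgerm a'⟩ from
          Subtype.ext (map_add (Y'.presheaf.germ V' (j (i z)) hyV).hom a.1 a'.1), map_add, map_add]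
      map_smul' := fun r a => by
        show pullStalk i _ z (cgen j (i.base z) _) = gC (str r) • pullStalk i _ z (α a)
        rw [show (⟨_, hgerm (r • a)⟩ : RingHom.ker (j.stalkMap (i z)).hom) =
          Y'.presheaf.germ V' (j (i z)) hyV r • (⟨_, hgerm a⟩ : RingHom.ker (j.stalkMap (i z)).hom) from
          Subtype.ext (map_mul (Y'.presheaf.germ V' (j (i z)) hyV).hom r a.1), cgen_smul, pullStalk_smul, hstr] }
  let Θ : T' ⊗[Γ(Y', V')] J →ₗ[T'] M := α'.liftBaseChange T'
  have hΘt : ∀ t a, Θ (t ⊗ₜ a) = gC t • pullStalk i (Omega.conormal j) z (α a) := fun t a =>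
    LinearMap.liftBaseChange_tmul _ _ _ _
  have hΘ : ∀ x, G (stalkLin ψ₁ z (Θ x)) ∈ Set.range (RingHom.ker gW).toCotangent ∧
      ∃ hx : Ideal.Quotient.mk _ (tmulMap J x) ∈ RingHom.ker gW,
        G (stalkLin ψ₁ z (Θ x)) = (RingHom.ker gW).toCotangent ⟨_, hx⟩ := by
    intro x
    suffices h : ∃ hx : Ideal.Quotient.mk _ (tmulMap J x) ∈ RingHom.ker gW,
        G (stalkLin ψ₁ z (Θ x)) = (RingHom.ker gW).toCotangent ⟨_, hx⟩ by
      obtain ⟨hx, hx'⟩ := h
      exact ⟨⟨_, hx'.symm⟩, hx, hx'⟩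
    induction x using TensorProduct.induction_on with
    | zero =>
      refine ⟨by simp, ?_⟩
      rw [map_zero, map_zero, map_zero, ← map_zero (RingHom.ker gW).toCotangent]
      refine congrArg (RingHom.ker gW).toCotangent (Subtype.ext ?_)
      show (0 : W) = Ideal.Quotient.mk _ (tmulMap J (0 : T' ⊗[Γ(Y', V')] J))
      rw [map_zero, map_zero]
    | add x y hx hy =>
      obtain ⟨hx, hx'⟩ := hx
      obtain ⟨hy, hy'⟩ := hy
      refine ⟨by rw [map_add, map_add]; exact add_mem hx hy, ?_⟩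
      rw [map_add, map_add, map_add, hx', hy', ← map_add]
      refine congrArg (RingHom.ker gW).toCotangent (Subtype.ext ?_)
      show (Ideal.Quotient.mk _ (tmulMap J x) + Ideal.Quotient.mk _ (tmulMap J y) : W) = Ideal.Quotient.mk _ (tmulMap J (x + y))
      rw [map_add, map_add]
    | tmul s a =>
      have hb : (baseStalkMap j i' m i hψ₁.1 z).hom (Y'.presheaf.germ V' (j (i z)) hyV a.1) =
          Z'.presheaf.germ W' (i' z) hzW (m.appLE V' W' hle a.1) :=
        baseStalkMap_germ hψ₁.1 z V' hyV W' hle hzW a.1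
      have hval : Ψ ((baseStalkMap j i' m i hψ₁.1 z).hom (Y'.presheaf.germ V' (j (i z)) hyV a.1)) =
          Ideal.Quotient.mk _ (str a.1) := by
        rw [hb, hΨ]; exact congr($hψ2 a.1)
      have hmem : Ideal.Quotient.mk _ (str a.1) ∈ RingHom.ker gW := by
        rw [← hval, RingHom.mem_ker, hΨ']
        exact RingHom.mem_ker.1 (baseStalkMap_mem_ker hψ₁.1 z ⟨_, hgerm a⟩)
      refine ⟨by rw [tmulMap_tmul, map_mul]; exact Ideal.mul_mem_left _ _ hmem, ?_⟩
      rw [hΘt, map_smul, map_smul, stalkLin_conormalMap hψ₁ z ⟨_, hgerm a⟩, hG]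
      refine ((hsm (Ideal.Quotient.mk _ s) _).trans ?_)
      refine (map_smul (RingHom.ker gW).toCotangent _ _).symm.trans (congrArg _ (Subtype.ext ?_))
      show Ideal.Quotient.mk _ s * Ψ _ = Ideal.Quotient.mk _ (tmulMap J (s ⊗ₜ a))
      rw [hval, tmulMap_tmul, map_mul]
      rfl
  have hsurj : Function.Surjective Θ := by
    have hspan : Submodule.span (Y.presheaf.stalk (i.base z)) (Set.range α) = ⊤ := by
      refine eq_top_iff.2 ?_
      rw [← span_cgen j (i.base z), Submodule.span_le]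
      rintro _ ⟨a, rfl⟩
      haveI : IsClosedImmersion (j ∣_ V') := IsZariskiLocalAtTarget.restrict (P := @IsClosedImmersion) inferInstance V'
      have ha := (H17.ker_stalkMap_eq_map j hV' (i z) hyV).le a.2
      suffices h : ∀ x ∈ J.map (Y'.presheaf.germ V' (j (i z)) hyV).hom, ∃ hx : x ∈ RingHom.ker (j.stalkMap (i z)).hom,
          cgen j (i.base z) ⟨x, hx⟩ ∈ Submodule.span (Y.presheaf.stalk (i.base z)) (Set.range α) by
        obtain ⟨_, h'⟩ := h a.1 ha
        exact h'
      intro x hx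
      induction hx using Submodule.span_induction with
      | mem x hx =>
        obtain ⟨s, hs, rfl⟩ := hx
        exact ⟨hgerm ⟨s, hs⟩, Submodule.subset_span ⟨⟨s, hs⟩, rfl⟩⟩
      | zero =>
        refine ⟨zero_mem _, ?_⟩
        rw [show (⟨0, zero_mem _⟩ : RingHom.ker (j.stalkMap (i z)).hom) = 0 from rfl, map_zero]
        exact zero_mem _
      | add p q _ _ hp hq =>
        obtain ⟨hp, hp'⟩ := hp
        obtain ⟨hq, hq'⟩ := hq
        refine ⟨add_mem hp hq, ?_⟩
        rw [show (⟨p + q, add_mem hp hq⟩ : RingHom.ker (j.stalkMap (i z)).hom) = ⟨p, hp⟩ + ⟨q, hq⟩ from rfl, map_add]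
        exact add_mem hp' hq'
      | smul r p _ hp =>
        obtain ⟨hp, hp'⟩ := hp
        refine ⟨Submodule.smul_mem _ r hp, ?_⟩
        rw [show (⟨r • p, Submodule.smul_mem _ r hp⟩ : RingHom.ker (j.stalkMap (i z)).hom) = r • ⟨p, hp⟩ from rfl,
          cgen_smul]
        exact Submodule.smul_mem _ _ hp'
    have hsp := span_pullStalk i (Omega.conormal j) z α hspan
    intro v
    have hv : v ∈ Submodule.span (Z.presheaf.stalk z) (Set.range fun a => pullStalk i (Omega.conormal j) z (α a)) := by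
      rw [hsp]; trivial
    suffices h : v ∈ Set.range Θ from h
    induction hv using Submodule.span_induction with
    | mem v hv =>
      obtain ⟨a, rfl⟩ := hv
      exact ⟨1 ⊗ₜ a, by rw [hΘt, map_one, one_smul]⟩
    | zero => exact ⟨0, map_zero _⟩
    | add p q _ _ hp hq =>
      obtain ⟨x, rfl⟩ := hp
      obtain ⟨y, rfl⟩ := hq
      exact ⟨x + y, map_add _ _ _⟩
    | smul s p _ hp =>
      obtain ⟨x, rfl⟩ := hp
      obtain ⟨s', rfl⟩ := hgCs s
      exact ⟨s' • x, map_smul Θ s' x⟩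
  rw [injective_iff_map_eq_zero]
  intro v hv
  obtain ⟨x, rfl⟩ := hsurj v
  obtain ⟨-, hxm, hx⟩ := hΘ x
  rw [hv, map_zero, eq_comm, Ideal.toCotangent_eq_zero, hIW, Ideal.mem_bot, Ideal.Quotient.eq_zero_iff_mem] at hx
  rw [hkC] at hx
  have hxs := mem_span_tmul_of_mul_mem_sq J g hgs hker f hf x hx
  clear hx hxm hv
  induction hxs using Submodule.span_induction with
  | mem y hy =>
    obtain ⟨q, hq, a, rfl⟩ := hy
    rw [hΘt, RingHom.mem_ker.1 (show q ∈ RingHom.ker gC by rw [hkC]; exact hq), zero_smul]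
  | zero => exact map_zero _
  | add p q _ _ hp hq => rw [map_add, hp, hq, add_zero]
  | smul s p _ hp => rw [map_smul, hp, smul_zero]

/-- Pullback along the identity is injective on stalks. -/
theorem pullStalk_id_injective (M : Z.Modules) (z : Z) : Function.Injective (pullStalk (𝟙 Z) M z) := by
  let e : Z.presheaf.stalk ((𝟙 Z : Z ⟶ Z).base z) ≃ₐ[Z.presheaf.stalk ((𝟙 Z : Z ⟶ Z).base z)] Z.presheaf.stalk z :=
    AlgEquiv.ofBijective (Algebra.ofId _ _) (ConcreteCategory.bijective_of_isIso ((𝟙 Z : Z ⟶ Z).stalkMap z))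
  let L := (TensorProduct.congr e.toLinearEquiv.symm (LinearEquiv.refl (Z.presheaf.stalk ((𝟙 Z : Z ⟶ Z).base z))
    (M.presheaf.stalk ((𝟙 Z : Z ⟶ Z).base z)))).trans (TensorProduct.lid _ _)
  intro x y hxy
  have h1 : ∀ c, pullStalkEquiv (𝟙 Z) M z ((1 : Z.presheaf.stalk z) ⊗ₜ c) = pullStalk (𝟙 Z) M z c := fun c =>
    (pullStalkLin_tmul (𝟙 Z) M z 1 c).trans (one_smul _ _)
  rw [← h1, ← h1] at hxy
  have h2 := congrArg L ((pullStalkEquiv (𝟙 Z) M z).injective hxy)
  have h3 : ∀ c, L ((1 : Z.presheaf.stalk z) ⊗ₜ c) = c := fun c => by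
    show e.symm 1 • c = c
    rw [map_one, one_smul]
  rwa [h3, h3] at h2

end Groth.Agent.H29Omega
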