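import Groth.Prelude.Def_Omega3
import Groth.Prelude.Def_RegImm
import Groth.Agent.H29Blow.IdealMod
import Groth.Agent.H29Fitt.PullbackQCoh
import Groth.Agent.H29Slice.KoszulReg
import Groth.Agent.H29Slice.H1Quasi
import Groth.Agent.H06QR.Basic
import Groth.Agent.H17.PullSectLocal
import Groth.Agent.H17.OmegaLocal
import Groth.Agent.H8Props.FinLocFree.Sheaf
import Groth.Agent.H29Omega.ConormalLci
import Mathlib

/-!
# The conormal sheaf of a formally unramified local complete intersection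
-/

set_option autoImplicit false
set_option linter.style.haveILetI false
set_option maxHeartbeats 400000
universe u

open CategoryTheory CategoryTheory.Limits AlgebraicGeometry TopologicalSpace

namespace Groth.Agent.H29Omega

section Algebra

variable {A B B' Q : Type u} [CommRing A] [CommRing B] [CommRing B'] [CommRing Q]
  [Algebra A B] [Algebra A B'] [Algebra A Q]

/-- The kernel of a universal thickening of a quotient of a formally smooth algebra by a quasi-regular
sequence is finite projective. -/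
theorem fp_flat_of_univThickening [Algebra.FormallySmooth A Q] {π : B' →ₐ[A] B}
    (hπ : OmegaSh.IsUnivThickeningRing A B B' π) (q : Q →ₐ[A] B) (hq : Function.Surjective q) {r : ℕ}
    (f : Fin r → Q) (hker : RingHom.ker q.toRingHom = Ideal.span (Set.range f)) (hqr : CAlgX.IsQuasiRegular f)
    {N : Type u} [AddCommGroup N] [Module B N] (e : RingHom.ker π.toRingHom →+ N) (he : Function.Bijective e)
    (hes : ∀ (x : B') a, e (x • a) = π x • e a) :
    Module.FinitePresentation B N ∧ Module.Flat B N := by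
  classical
  let K := RingHom.ker π.toRingHom
  set I := RingHom.ker q.toRingHom with hIdef
  obtain ⟨hπs, hK2, huniv⟩ := hπ
  have hnil : IsNilpotent (RingHom.ker (π : B' →+* B)) := ⟨2, hK2⟩
  let s : Q →ₐ[A] B' := Algebra.FormallySmooth.liftOfSurjective q π hπs hnil
  have hs : ∀ x, π (s x) = q x := fun x => Algebra.FormallySmooth.liftOfSurjective_apply q π hπs hnil x
  have hsI : ∀ x ∈ I, s x ∈ K := fun x hx => by
    show π (s x) = 0
    rw [hs]; exact hx
  have hsI2 : ∀ x ∈ I ^ 2, s x = 0 := by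
    intro x hx
    have h : I ^ 2 ≤ RingHom.ker s.toRingHom := by
      rw [pow_two, Ideal.mul_le]
      intro a ha b hb
      have hab := Ideal.mul_mem_mul (hsI a ha) (hsI b hb)
      rw [← pow_two, hK2, Ideal.mem_bot, ← map_mul] at hab
      exact hab
    exact h hx
  -- the first neighbourhood in `Q`
  let W := Q ⧸ I ^ 2
  let qW : W →ₐ[A] B := Ideal.Quotient.liftₐ (I ^ 2) q fun a ha => (Ideal.pow_le_self two_ne_zero ha : a ∈ I)
  let sW : W →ₐ[A] B' := Ideal.Quotient.liftₐ (I ^ 2) s hsI2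
  have hqWs : Function.Surjective qW := fun b => by
    obtain ⟨a, rfl⟩ := hq b
    exact ⟨Ideal.Quotient.mk _ a, rfl⟩
  have hπsW : ∀ w, π (sW w) = qW w := fun w => by
    obtain ⟨a, rfl⟩ := Ideal.Quotient.mk_surjective w
    exact hs a
  set IW := RingHom.ker qW.toRingHom with hIWdef
  have hIW : IW ^ 2 = ⊥ := by
    have h : IW = I.map (Ideal.Quotient.mk (I ^ 2)) := by
      refine le_antisymm (fun w hw => ?_) (Ideal.map_le_iff_le_comap.2 fun a ha => ha)
      obtain ⟨a, rfl⟩ := Ideal.Quotient.mk_surjective w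
      exact Ideal.mem_map_of_mem _ hw
    rw [h, ← Ideal.map_pow, Ideal.map_quotient_self]
  let eW := Ideal.quotientKerAlgEquivOfSurjective hqWs
  obtain ⟨ψ, hψ, -⟩ := huniv W IW hIW eW.symm.toAlgHom
  have hψ' : ∀ x, qW (ψ x) = π x := fun x => by
    have h := congrArg eW (AlgHom.congr_fun hψ x)
    exact ((Ideal.quotientKerAlgEquivOfSurjective_apply hqWs (ψ x)).symm.trans h).trans (eW.apply_symm_apply _)
  let eK := Ideal.quotientKerAlgEquivOfSurjective hπs
  have hid : sW.comp ψ = AlgHom.id A B' := by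
    obtain ⟨a', -, hu⟩ := huniv B' K hK2 eK.symm.toAlgHom
    rw [hu (sW.comp ψ) (AlgHom.ext fun x => eK.injective ?_), hu (AlgHom.id A B') (AlgHom.ext fun x => eK.injective ?_)]
    · exact ((Ideal.quotientKerAlgEquivOfSurjective_apply hπs x).trans (eK.apply_symm_apply (π x)).symm)
    · exact ((Ideal.quotientKerAlgEquivOfSurjective_apply hπs (sW (ψ x))).trans ((hπsW _).trans (hψ' x))).trans
        (eK.apply_symm_apply (π x)).symm
  -- the cotangent module of `I` over `B`
  let eB : (Q ⧸ I) ≃+* B := RingHom.quotientKerEquivOfSurjective (f := q.toRingHom) hq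
  letI : Module B I.Cotangent := Module.compHom _ eB.symm.toRingHom
  have hsm : ∀ (a : Q) (x : I.Cotangent), q a • x = a • x := fun a x => by
    show eB.symm (q a) • x = a • x
    rw [show q a = eB (Ideal.Quotient.mk I a) from
      (RingHom.quotientKerEquivOfSurjective_apply_mk (f := q.toRingHom) hq a).symm, eB.symm_apply_apply]
    exact algebraMap_smul (Q ⧸ I) a x
  have hfI : ∀ i, f i ∈ I := fun i => by rw [hker]; exact Ideal.subset_span ⟨i, rfl⟩
  obtain ⟨hli, hsp⟩ := H06QR.cotangent_basis hqr hker.symm (fun i => ⟨f i, hfI i⟩) fun i => rfl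
  have hfree : ∃ b : Module.Basis (Fin r) B I.Cotangent, True := by
    refine ⟨Module.Basis.mk (v := fun i => I.toCotangent ⟨f i, hfI i⟩) ?_ ?_, trivial⟩
    · rw [Fintype.linearIndependent_iff] at hli ⊢
      intro c hc i
      have h := hli (fun i => eB.symm (c i)) hc i
      exact eB.symm.injective (h.trans (map_zero eB.symm).symm)
    · intro x _
      have hx : x ∈ Submodule.span (Q ⧸ I) (Set.range fun i => I.toCotangent ⟨f i, hfI i⟩) := by rw [hsp]; trivial
      induction hx using Submodule.span_induction with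
      | mem x hx => exact Submodule.subset_span hx
      | zero => exact zero_mem _
      | add x y _ _ hx hy => exact add_mem (hx trivial) (hy trivial)
      | smul c x _ hx =>
        have h : c • x = eB c • x := by
          show _ = eB.symm (eB c) • x
          rw [eB.symm_apply_apply]
        rw [h]
        exact Submodule.smul_mem _ _ (hx trivial)
  obtain ⟨basis, -⟩ := hfree
  haveI : Module.Free B I.Cotangent := Module.Free.of_basis basis
  haveI : Module.Finite B I.Cotangent := Module.Finite.of_basis basis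
  -- the retraction
  letI : Module Q N := Module.compHom N q.toRingHom
  let p₀ : I →ₗ[Q] N :=
    { toFun := fun a => e ⟨s a.1, hsI a.1 a.2⟩
      map_add' := fun a b => by rw [← map_add]; exact congrArg e (Subtype.ext (map_add s a.1 b.1))
      map_smul' := fun c a => by
        exact ((congrArg e (Subtype.ext (map_mul s c a.1))).trans (hes (s c) ⟨s a.1, hsI a.1 a.2⟩)).trans
          (congrArg (· • e ⟨s a.1, hsI a.1 a.2⟩) (hs c)) }
  have hp₀ : (I • ⊤ : Submodule Q I) ≤ LinearMap.ker p₀ := by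
    refine Submodule.smul_le.2 fun a ha b _ => ?_
    rw [LinearMap.mem_ker, map_smul]
    show q a • p₀ b = 0
    rw [show q a = 0 from ha, zero_smul]
  let p₁ : I.Cotangent →ₗ[Q] N := Submodule.liftQ _ p₀ hp₀
  let p : I.Cotangent →ₗ[B] N :=
    { toFun := p₁
      map_add' := map_add p₁
      map_smul' := fun b x => by
        obtain ⟨a, rfl⟩ := hq b
        rw [hsm, map_smul]
        rfl }
  have hsurj : Function.Surjective p := by
    intro n
    obtain ⟨a, rfl⟩ := he.2 n
    obtain ⟨x, hx⟩ := Ideal.Quotient.mk_surjective (ψ a.1)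
    have hxI : x ∈ I := by
      show q x = 0
      rw [show q x = qW (Ideal.Quotient.mk _ x) from rfl, hx, hψ']
      exact a.2
    refine ⟨I.toCotangent ⟨x, hxI⟩, ?_⟩
    show e ⟨s x, _⟩ = e a
    refine congrArg e (Subtype.ext ?_)
    show sW (Ideal.Quotient.mk _ x) = a.1
    rw [hx]
    exact AlgHom.congr_fun hid a.1
  -- the section
  choose L hL using fun a : K => Ideal.Quotient.mk_surjective (ψ a.1)
  have hLI : ∀ a, L a ∈ I := fun a => by
    show q (L a) = 0
    rw [show q (L a) = qW (Ideal.Quotient.mk _ (L a)) from rfl, hL, hψ']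
    exact a.2
  have hcong : ∀ (x y : Q) (hx : x ∈ I) (hy : y ∈ I), Ideal.Quotient.mk (I ^ 2) x = Ideal.Quotient.mk (I ^ 2) y →
      I.toCotangent ⟨x, hx⟩ = I.toCotangent ⟨y, hy⟩ := fun x y hx hy h => by
    rw [Ideal.toCotangent_eq]
    exact Ideal.Quotient.eq.1 h
  let t₀ : K →+ I.Cotangent :=
    { toFun := fun a => I.toCotangent ⟨L a, hLI a⟩
      map_zero' := by
        rw [← map_zero I.toCotangent]
        exact hcong _ _ _ (zero_mem _) (by rw [hL, map_zero]; exact map_zero ψ)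
      map_add' := fun a b => by
        rw [← map_add]
        exact hcong _ _ _ (add_mem (hLI a) (hLI b)) (by rw [map_add, hL, hL, hL]; exact map_add ψ a.1 b.1) }
  let eN : K ≃+ N := AddEquiv.ofBijective e he
  let t : N →ₗ[B] I.Cotangent :=
    { toFun := fun n => t₀ (eN.symm n)
      map_add' := fun a b => by rw [map_add, map_add]
      map_smul' := fun b n => by
        obtain ⟨x, rfl⟩ := hπs b
        obtain ⟨a, rfl⟩ := eN.surjective n
        obtain ⟨c, hc⟩ := Ideal.Quotient.mk_surjective (ψ x)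
        have h1 : eN.symm (π x • eN a) = x • a := by
          rw [eN.symm_apply_eq]; exact (hes x a).symm
        show t₀ (eN.symm (π x • eN a)) = π x • t₀ (eN.symm (eN a))
        rw [h1, eN.symm_apply_apply, show π x = q c from by rw [← hψ', ← hc]; rfl, hsm]
        refine Eq.trans ?_ (map_smul I.toCotangent c ⟨L a, hLI a⟩)
        exact hcong _ _ _ (Submodule.smul_mem _ _ (hLI a)) (by
          rw [hL]
          show ψ (x * a.1) = Ideal.Quotient.mk _ (c * L a)
          rw [map_mul, map_mul, hc, hL]) }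
  have hpt : p.comp t = LinearMap.id := LinearMap.ext fun n => by
    obtain ⟨a, rfl⟩ := eN.surjective n
    show p₁ (t₀ (eN.symm (eN a))) = eN a
    rw [eN.symm_apply_apply]
    show e ⟨s (L a), _⟩ = e a
    refine congrArg e (Subtype.ext ?_)
    show sW (Ideal.Quotient.mk _ (L a)) = a.1
    rw [hL]
    exact AlgHom.congr_fun hid a.1
  haveI : Module.Projective B N := Module.Projective.of_split t p hpt
  haveI : Module.Finite B N := Module.Finite.of_surjective p hsurj
  exact ⟨Module.finitePresentation_of_projective _ _, inferInstance⟩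

/-- Kernels of maps commute with localization. -/
theorem ker_of_isLocalization_away {R S R' S' : Type u} [CommRing R] [CommRing S] [CommRing R'] [CommRing S']
    [Algebra R R'] [Algebra S S'] (φ : R →+* S) (hφ : Function.Surjective φ) (g : R) [IsLocalization.Away g R']
    [IsLocalization.Away (φ g) S'] (φ' : R' →+* S') (hcomm : ∀ x, φ' (algebraMap R R' x) = algebraMap S S' (φ x)) :
    RingHom.ker φ' = (RingHom.ker φ).map (algebraMap R R') ∧ Function.Surjective φ' := by
  constructor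
  · refine le_antisymm (fun y hy => ?_) (Ideal.map_le_iff_le_comap.2 fun x hx => ?_)
    · obtain ⟨⟨x, m⟩, hxm⟩ := IsLocalization.surj (Submonoid.powers g) y
      have h0 : algebraMap S S' (φ x) = 0 := by
        rw [← hcomm, ← hxm, map_mul, RingHom.mem_ker.1 hy, zero_mul]
      obtain ⟨⟨_, k, rfl⟩, hk⟩ := (IsLocalization.map_eq_zero_iff (Submonoid.powers (φ g)) S' _).1 h0
      have h1 : g ^ k * x ∈ RingHom.ker φ := by
        rw [RingHom.mem_ker, map_mul, map_pow]; exact hk
      have h2 := Ideal.mem_map_of_mem (algebraMap R R') h1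
      have hu : IsUnit (algebraMap R R' (g ^ k) * algebraMap R R' m) :=
        (IsLocalization.map_units R' (⟨g ^ k, k, rfl⟩ : Submonoid.powers g)).mul (IsLocalization.map_units R' m)
      rw [← Ideal.unit_mul_mem_iff_mem _ hu, mul_assoc, mul_comm _ y, hxm, ← map_mul]
      exact h2
    · show φ' (algebraMap R R' x) = 0
      rw [hcomm, RingHom.mem_ker.1 hx, map_zero]
  · intro y
    obtain ⟨⟨x, ⟨_, k, rfl⟩⟩, hxk⟩ := IsLocalization.surj (Submonoid.powers (φ g)) y
    obtain ⟨x', rfl⟩ := hφ x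
    refine ⟨IsLocalization.mk' R' x' (⟨g ^ k, k, rfl⟩ : Submonoid.powers g), ?_⟩
    refine (IsLocalization.map_units S' (⟨φ g ^ k, k, rfl⟩ : Submonoid.powers (φ g))).mul_right_cancel ?_
    refine Eq.trans ?_ hxk.symm
    show φ' _ * algebraMap S S' (φ g ^ k) = algebraMap S S' (φ x')
    rw [← map_pow φ, ← hcomm, ← hcomm, ← map_mul, IsLocalization.mk'_spec]

end Algebra

variable {X X' Y : Scheme.{u}}

/-- Sections of the conormal sheaf of a thickening over an affine open. -/
theorem exists_conormal_sections {i : X ⟶ X'} (hi : MoreMor.IsFirstOrderThickening i) {V' : X'.Opens}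
    (hV' : IsAffineOpen V') :
    ∃ e : RingHom.ker (i.app V').hom →+ Γ(Omega.conormal i, i ⁻¹ᵁ V'), Function.Bijective e ∧
      ∀ (x : Γ(X', V')) a, e (x • a) = i.app V' x • e a := by
  haveI := hi.1.1
  haveI : IsClosedImmersion (i ∣_ V') := IsZariskiLocalAtTarget.restrict (P := @IsClosedImmersion) inferInstance V'
  have hq := H17.PullSect.isQuotOn_of_isAffineOpen i (ClSub.idealMod i.ker)
    (H17.OmegaLocal.isQuasicoherent_idealMod i.ker) hV'
  obtain ⟨hsurj, hker⟩ := hq
  have hK : RingHom.ker (i.app V').hom = i.ker.ideal ⟨V', hV'⟩ := (Scheme.Hom.ker_apply i ⟨V', hV'⟩).symm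
  choose L hL using fun a : RingHom.ker (i.app V').hom =>
    (H29Blow.mem_ideal_iff_exists_idealSect i.ker hV' a.1).1 (hK.le a.2)
  have hinj := H29Blow.idealSect_injective i.ker V'
  let e : RingHom.ker (i.app V').hom →+ Γ(Omega.conormal i, i ⁻¹ᵁ V') :=
    { toFun := fun a => OmegaSh.pullSect i (ClSub.idealMod i.ker) V' (L a)
      map_zero' := by
        rw [show L 0 = 0 from hinj (by rw [hL, map_zero]; rfl)]
        exact map_zero _
      map_add' := fun a b => by
        rw [show L (a + b) = L a + L b from hinj (by rw [hL, map_add, hL, hL]; rfl)]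
        exact map_add _ _ _ }
  refine ⟨e, ⟨?_, ?_⟩, fun x a => ?_⟩
  · rw [injective_iff_map_eq_zero]
    intro a ha
    have hm := hker (L a) ha
    have h0 : ∀ m ∈ RingHom.ker (i.app V').hom • (⊤ : Submodule Γ(X', V') Γ(ClSub.idealMod i.ker, V')),
        OmegaSh.idealSect i.ker V' m = 0 := by
      intro m hm
      refine Submodule.smul_induction_on hm (fun r hr n _ => ?_) fun m n hm hn => by rw [map_add, hm, hn, add_zero]
      rw [H29Blow.idealSect_smul]
      have hn : OmegaSh.idealSect i.ker V' n ∈ i.ker.ideal ⟨V', hV'⟩ :=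
        (H29Blow.mem_ideal_iff_exists_idealSect i.ker hV' _).2 ⟨n, rfl⟩
      have hsq := Ideal.mul_mem_mul (hK.le hr) hn
      have h2 := congrArg (fun J => Scheme.IdealSheafData.ideal J ⟨V', hV'⟩) hi.2
      simp only [Scheme.IdealSheafData.ideal_mul, Pi.mul_apply, Scheme.IdealSheafData.ideal_bot, Pi.bot_apply] at h2
      rw [h2, Ideal.mem_bot] at hsq
      exact hsq
    refine Subtype.ext ?_
    rw [← hL a, h0 (L a) hm]
    rfl
  · intro n
    obtain ⟨m, rfl⟩ := hsurj n
    have hm : OmegaSh.idealSect i.ker V' m ∈ RingHom.ker (i.app V').hom :=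
      hK.ge ((H29Blow.mem_ideal_iff_exists_idealSect i.ker hV' _).2 ⟨m, rfl⟩)
    refine ⟨⟨_, hm⟩, congrArg (OmegaSh.pullSect i (ClSub.idealMod i.ker) V') (hinj (hL ⟨_, hm⟩))⟩
  · show OmegaSh.pullSect i (ClSub.idealMod i.ker) V' (L (x • a)) = _
    rw [show L (x • a) = x • L a from hinj (by rw [hL, H29Blow.idealSect_smul, hL]; rfl)]
    exact Scheme.Modules.Hom.app_smul _ x (L a)

/-- The conormal sheaf of a formally unramified local complete intersection is finite locally free. -/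
theorem isFinLocFree_conormal_of_lci {f : X ⟶ Y} (hf : ∀ x, Synt.IsKoszulAt f x) {i : X ⟶ X'} {h' : X' ⟶ Y}
    (hu : OmegaSh.IsUnivThickening f i h') : FlatMod.IsFinLocFree (Omega.conormal i) := by
  haveI := hu.1.1.1
  refine H8Props.FinLocFree.isFinLocFree_of_sections _
    (H29Fitt.isQCoh_pullback i _ (H17.OmegaLocal.isQuasicoherent_idealMod i.ker)) fun x => ?_
  obtain ⟨U, P, ι, π, hxU, -, ⟨hιimm, hιreg⟩, hπ, hfac⟩ := hf x
  haveI := hιimm
  haveI := hπ
  let u : (U : Scheme.{u}) := ⟨x, hxU⟩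
  obtain ⟨UP, hup, hcl, rs, hrs, hkrs⟩ := hιreg u
  haveI := hcl
  obtain ⟨happ, hBU⟩ := H17.app_surjective_of_restrict ι UP.2
  obtain ⟨_, ⟨VY, hVY, rfl⟩, hxVY, -⟩ :=
    Y.isBasis_affineOpens.exists_subset_of_mem_open (Set.mem_univ (f x)) isOpen_univ
  have hp : ι u ∈ π ⁻¹ᵁ VY := by
    show (ι ≫ π) u ∈ VY
    rw [hfac]; exact hxVY
  obtain ⟨g₀, hg₀le, hg₀⟩ := UP.2.exists_basicOpen_le (V := π ⁻¹ᵁ VY) ⟨ι u, hp⟩ hup
  -- shrink on the thickening
  obtain ⟨_, ⟨V₀, hV₀, rfl⟩, hxV₀, hV₀le⟩ :=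
    X'.isBasis_affineOpens.exists_subset_of_mem_open
      (show i x ∈ h' ⁻¹ᵁ VY by show (i ≫ h') x ∈ VY; rw [hu.2.1]; exact hxVY) (h' ⁻¹ᵁ VY).2
  have hBV : IsAffineOpen (i ⁻¹ᵁ V₀) := isAffineOpen_preimage hu.1 hV₀
  have hU₁ : IsAffineOpen (U.ι ''ᵁ (ι ⁻¹ᵁ P.basicOpen g₀)) := by
    rw [Scheme.preimage_basicOpen]
    exact (hBU.basicOpen _).image_of_isOpenImmersion _
  obtain ⟨a₁, b₁, hab, hxa⟩ := exists_basicOpen_le_affine_inter hU₁ hBV x
    ⟨⟨u, hg₀, rfl⟩, hxV₀⟩
  obtain ⟨b', rfl⟩ := i.app_surjective V₀ hV₀ b₁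
  let V' := X'.basicOpen b'
  have hV' : IsAffineOpen V' := hV₀.basicOpen b'
  have hpre : i ⁻¹ᵁ V' = X.basicOpen a₁ := (Scheme.preimage_basicOpen i b').trans hab.symm
  -- lift to `P`
  have hWP : IsAffineOpen (P.basicOpen g₀) := UP.2.basicOpen g₀
  letI : Algebra Γ(P, UP.1) Γ(P, P.basicOpen g₀) := (P.presheaf.map (homOfLE (P.basicOpen_le g₀)).op).hom.toAlgebra
  haveI : IsLocalization.Away g₀ Γ(P, P.basicOpen g₀) := UP.2.isLocalization_basicOpen g₀
  letI : Algebra Γ(U, ι ⁻¹ᵁ UP.1) Γ(U, ι ⁻¹ᵁ P.basicOpen g₀) :=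
    (U.toScheme.presheaf.map (homOfLE (show ι ⁻¹ᵁ P.basicOpen g₀ ≤ ι ⁻¹ᵁ UP.1 from
      fun y hy => P.basicOpen_le g₀ hy)).op).hom.toAlgebra
  haveI : IsLocalization.Away ((ι.app UP.1).hom g₀) Γ(U, ι ⁻¹ᵁ P.basicOpen g₀) :=
    hBU.isLocalization_of_eq_basicOpen _ _ (Scheme.preimage_basicOpen ι g₀)
  have hcomm₀ : ∀ y, (ι.app (P.basicOpen g₀)).hom (algebraMap Γ(P, UP.1) _ y) =
      algebraMap Γ(U, ι ⁻¹ᵁ UP.1) _ ((ι.app UP.1).hom y) := fun y =>
    congr($(ι.naturality (homOfLE (P.basicOpen_le g₀)).op) y)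
  obtain ⟨hk₀, hs₀⟩ := ker_of_isLocalization_away (ι.app UP.1).hom happ g₀
    (ι.app (P.basicOpen g₀)).hom hcomm₀
  obtain ⟨g₁, hg₁⟩ := hs₀ ((U.ι.appIso (ι ⁻¹ᵁ P.basicOpen g₀)).hom a₁)
  let Q := P.basicOpen g₁
  have hQ : IsAffineOpen Q := hWP.basicOpen g₁
  let U₂ : U.toScheme.Opens := ι ⁻¹ᵁ Q
  have hU₂ : U.ι ''ᵁ U₂ = i ⁻¹ᵁ V' := by
    show U.ι ''ᵁ (ι ⁻¹ᵁ P.basicOpen g₁) = _
    rw [Scheme.preimage_basicOpen, Scheme.image_basicOpen, hpre]
    erw [hg₁]
    exact congrArg X.basicOpen (Iso.hom_inv_id_apply (U.ι.appIso (ι ⁻¹ᵁ P.basicOpen g₀)) a₁)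
  letI : Algebra Γ(P, P.basicOpen g₀) Γ(P, Q) := (P.presheaf.map (homOfLE (P.basicOpen_le g₁)).op).hom.toAlgebra
  haveI : IsLocalization.Away g₁ Γ(P, Q) := hWP.isLocalization_basicOpen g₁
  have hAW : IsAffineOpen (ι ⁻¹ᵁ P.basicOpen g₀) := by rw [Scheme.preimage_basicOpen]; exact hBU.basicOpen _
  letI : Algebra Γ(U, ι ⁻¹ᵁ P.basicOpen g₀) Γ(U, U₂) :=
    (U.toScheme.presheaf.map (homOfLE (show U₂ ≤ ι ⁻¹ᵁ P.basicOpen g₀ from
      fun y hy => P.basicOpen_le g₁ hy)).op).hom.toAlgebra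
  haveI : IsLocalization.Away ((ι.app (P.basicOpen g₀)).hom g₁) Γ(U, U₂) :=
    hAW.isLocalization_of_eq_basicOpen _ _ (Scheme.preimage_basicOpen ι g₁)
  obtain ⟨hk₁, hs₁⟩ := ker_of_isLocalization_away (ι.app (P.basicOpen g₀)).hom hs₀ g₁ (ι.app Q).hom fun y =>
    congr($(ι.naturality (homOfLE (P.basicOpen_le g₁)).op) y)
  -- the sequence
  let F : Fin rs.length → Γ(P, Q) := algebraMap Γ(P, P.basicOpen g₀) Γ(P, Q) ∘ algebraMap Γ(P, UP.1) Γ(P, P.basicOpen g₀) ∘ rs.get
  have hqr : CAlgX.IsQuasiRegular F := H29Slice.isQuasiRegular_of_isH1Regular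
    (isH1Regular_of_isLocalization (Submonoid.powers g₁)
      (isH1Regular_of_isLocalization (Submonoid.powers g₀) (H29Slice.isH1Regular_of_isKoszulRegular hrs)))
  have hkF : RingHom.ker (ι.app Q).hom = Ideal.span (Set.range F) := by
    rw [hk₁, hk₀, hkrs, Ideal.map_map]
    show Ideal.map _ (Ideal.span {y | y ∈ rs}) = _
    rw [Ideal.map_span]
    congr 1
    ext y
    constructor
    · rintro ⟨z, hz, rfl⟩
      obtain ⟨l, rfl⟩ := List.mem_iff_get.1 hz
      exact ⟨l, rfl⟩
    · rintro ⟨l, rfl⟩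
      exact ⟨_, List.get_mem _ _, rfl⟩
  -- the algebra
  have eV : V' ≤ h' ⁻¹ᵁ VY := (X'.basicOpen_le b').trans hV₀le
  have hQle : Q ≤ π ⁻¹ᵁ VY := fun y hy => hg₀le (P.basicOpen_le g₁ hy)
  letI : Algebra Γ(Y, VY) Γ(X', V') := (h'.appLE VY V' eV).hom.toAlgebra
  letI : Algebra Γ(Y, VY) Γ(X, i ⁻¹ᵁ V') := ((i.app V').hom.comp (h'.appLE VY V' eV).hom).toAlgebra
  have hπr := isUnivThickeningRing_appLE hu hVY hV' eV
  letI : Algebra Γ(Y, VY) Γ(P, Q) := (π.appLE VY Q hQle).hom.toAlgebra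
  haveI : Algebra.FormallySmooth Γ(Y, VY) Γ(P, Q) := (Smooth.smooth_appLE π hVY hQ hQle).formallySmooth
  let tr : Γ(U, U₂) ⟶ Γ(X, i ⁻¹ᵁ V') :=
    (U.ι.appIso U₂).inv ≫ X.presheaf.map (eqToHom hU₂.symm).op
  have htr : Function.Bijective tr := ConcreteCategory.bijective_of_isIso _
  have hle₂ : U₂ ≤ (U.ι ≫ f) ⁻¹ᵁ VY := by
    rw [← hfac]; exact fun y hy => hQle hy
  have hcompat : ∀ a, tr ((ι.app Q).hom ((π.appLE VY Q hQle).hom a)) =
      (i.app V').hom ((h'.appLE VY V' eV).hom a) := by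
    have key : π.appLE VY Q hQle ≫ ι.app Q ≫ tr = h'.appLE VY V' eV ≫ i.app V' := by
      rw [Scheme.Hom.app_eq_appLE, Scheme.Hom.app_eq_appLE, ← Category.assoc, Scheme.Hom.appLE_comp_appLE,
        Scheme.Hom.appLE_comp_appLE]
      have e1 : (ι ≫ π).appLE VY U₂ (fun y hy => hQle hy) = (U.ι ≫ f).appLE VY U₂ hle₂ := by
        simp only [hfac]
      have e2 : (i ≫ h').appLE VY (i ⁻¹ᵁ V') (fun y hy => eV hy) =
          f.appLE VY (i ⁻¹ᵁ V') (fun y hy => by rw [← hu.2.1]; exact eV hy) := by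
        simp only [hu.2.1]
      erw [e1, e2]
      rw [Scheme.Hom.comp_appLE, Category.assoc]
      simp only [tr, Scheme.Opens.ι_appIso, Scheme.Opens.ι_app, Iso.refl_inv, Category.id_comp,
        Scheme.Hom.appLE, ← Functor.map_comp, Category.assoc]
      congr 1
      erw [Category.id_comp, Scheme.Opens.toScheme_presheaf_map]
      erw [← X.presheaf.map_comp, ← X.presheaf.map_comp]
      exact congrArg X.presheaf.map (Subsingleton.elim _ _)
    exact fun a => congr($key a)
  let q : Γ(P, Q) →ₐ[Γ(Y, VY)] Γ(X, i ⁻¹ᵁ V') :=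
    { tr.hom.comp (ι.app Q).hom with commutes' := hcompat }
  obtain ⟨e, he, hes⟩ := exists_conormal_sections hu.1 hV'
  have hkq : RingHom.ker q.toRingHom = Ideal.span (Set.range F) := by
    rw [← hkF]
    ext y
    exact map_eq_zero_iff tr.hom htr.1
  obtain ⟨hfp, hfl⟩ := fp_flat_of_univThickening hπr q (htr.2.comp hs₁) F hkq hqr e he hes
  exact ⟨i ⁻¹ᵁ V', isAffineOpen_preimage hu.1 hV', hpre ▸ hxa, hfp, hfl⟩

end Groth.Agent.H29Omega
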