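import Groth.Agent.H29Omega.StalkCompat
import Groth.Agent.H17.OmegaStalk
import Groth.Agent.H06EGA9.FlatFibreBC
import Mathlib

/-!
# Local rings of fibre products and differentials
-/

set_option autoImplicit false
set_option linter.style.haveILetI false
set_option maxHeartbeats 400000
universe u

open CategoryTheory CategoryTheory.Limits AlgebraicGeometry TensorProduct

namespace Groth.Agent.H29Omega

/-- A flat epimorphism to a local ring is a localisation, hence formally étale. -/
theorem formallyEtale_of_flat_epi_local (T C : Type u) [CommRing T] [CommRing C] [Algebra T C]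
    [IsLocalRing C] [Module.Flat T C] [Algebra.IsEpi T C] : Algebra.FormallyEtale T C := by
  let q : Ideal T := (IsLocalRing.maximalIdeal C).comap (algebraMap T C)
  haveI : q.IsPrime := (IsLocalRing.maximalIdeal.isMaximal C).isPrime.comap _
  let Tq := Localization.AtPrime q
  have hu : ∀ y : q.primeCompl, IsUnit (algebraMap T C y) := fun y => by
    by_contra h
    exact y.2 ((IsLocalRing.mem_maximalIdeal _).2 h)
  letI : Algebra Tq C := (IsLocalization.lift hu : Tq →+* C).toAlgebra
  haveI : IsScalarTower T Tq C :=
    IsScalarTower.of_algebraMap_eq fun t => (IsLocalization.lift_eq hu t).symm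
  haveI : Module.Flat Tq C := (Module.flat_iff_of_isLocalization Tq q.primeCompl C).mpr inferInstance
  haveI : IsLocalHom (algebraMap Tq C) := by
    refine ((IsLocalRing.local_hom_TFAE (algebraMap Tq C)).out 0 2).mpr ?_
    rw [← Localization.AtPrime.map_eq_maximalIdeal, Ideal.map_map, ← IsScalarTower.algebraMap_eq]
    exact Ideal.map_comap_le
  haveI : Module.FaithfullyFlat Tq C := Module.FaithfullyFlat.of_flat_of_isLocalHom
  have hepi : ∀ c : C, (1 : C) ⊗ₜ[Tq] c = c ⊗ₜ[Tq] (1 : C) := fun c => by
    have h := (Algebra.isEpi_iff_forall_one_tmul_eq T C).1 inferInstance c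
    exact congrArg (TensorProduct.mapOfCompatibleSMul Tq T Tq C C) h
  have hbij : Function.Bijective (algebraMap Tq C) := by
    refine Module.FaithfullyFlat.bijective_of_tensorProduct (S := C) ⟨fun a b h => ?_, fun z => ?_⟩
    · have := congrArg (Algebra.TensorProduct.lmul' Tq (S := C)) h
      simpa [Algebra.TensorProduct.algebraMap_apply] using this
    · refine ⟨Algebra.TensorProduct.lmul' Tq z, ?_⟩
      induction z using TensorProduct.induction_on with
      | zero => simp
      | add a b ha hb => rw [map_add, map_add, ha, hb]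
      | tmul a b =>
        rw [Algebra.TensorProduct.lmul'_apply_tmul, Algebra.TensorProduct.algebraMap_apply,
          Algebra.algebraMap_self, RingHom.id_apply,
          show (a * b) ⊗ₜ[Tq] (1 : C) = a • (b ⊗ₜ[Tq] (1 : C)) from (TensorProduct.smul_tmul' a b 1).symm,
          ← hepi b, TensorProduct.smul_tmul', smul_eq_mul, mul_one]
  haveI : IsLocalization q.primeCompl C :=
    IsLocalization.isLocalization_of_algEquiv q.primeCompl
      (AlgEquiv.ofBijective (IsScalarTower.toAlgHom T Tq C) hbij)
  exact Algebra.FormallyEtale.of_isLocalization q.primeCompl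

/-- The map from the tensor product of local rings to a local ring of a fibre product is an epimorphism. -/
theorem epi_tensorLift (R A R' C : Type u) [CommRing R] [CommRing A] [CommRing R'] [CommRing C]
    [Algebra R A] [Algebra R R'] [Algebra R C] [Algebra A C] [Algebra R' C] [IsScalarTower R A C]
    [IsScalarTower R R' C] {X Y Y' : Scheme.{u}} (f : X ⟶ Y) (g : Y' ⟶ Y)
    (a : Spec (.of A) ⟶ X) (b : Spec (.of R) ⟶ Y) (b' : Spec (.of R') ⟶ Y')
    (ha : Spec.map (CommRingCat.ofHom (algebraMap R A)) ≫ b = a ≫ f)
    (hb : Spec.map (CommRingCat.ofHom (algebraMap R R')) ≫ b = b' ≫ g)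
    (c : Spec (.of C) ⟶ pullback f g) [Mono c]
    (hc1 : Spec.map (CommRingCat.ofHom (algebraMap A C)) ≫ a = c ≫ pullback.fst f g)
    (hc2 : Spec.map (CommRingCat.ofHom (algebraMap R' C)) ≫ b' = c ≫ pullback.snd f g) :
    Epi (CommRingCat.ofHom (H06Mod.tensorLift R A R' C).toRingHom) := by
  let φ : Spec (.of (A ⊗[R] R')) ⟶ pullback f g := (pullbackSpecIso R A R').inv ≫
    pullback.map _ _ _ _ a b' b ha hb
  let σ : Spec (.of C) ⟶ Spec (.of (A ⊗[R] R')) :=
    Spec.map (CommRingCat.ofHom (H06Mod.tensorLift R A R' C).toRingHom)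
  have e1 : σ ≫ Spec.map (CommRingCat.ofHom (Algebra.TensorProduct.includeLeftRingHom :
      A →+* A ⊗[R] R')) = Spec.map (CommRingCat.ofHom (algebraMap A C)) := by
    rw [← Spec.map_comp]
    congr 1
    ext r
    simp [H06Mod.tensorLift]
  have e2 : σ ≫ Spec.map (CommRingCat.ofHom (R := R') (S := A ⊗[R] R')
      (RingHomClass.toRingHom (Algebra.TensorProduct.includeRight : R' →ₐ[R] A ⊗[R] R'))) =
      Spec.map (CommRingCat.ofHom (algebraMap R' C)) := by
    rw [← Spec.map_comp]
    congr 1
    ext r
    simp [H06Mod.tensorLift]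
  have hσ : σ ≫ φ = c := by
    apply pullback.hom_ext
    · simp only [φ, Category.assoc, pullback.lift_fst, pullbackSpecIso_inv_fst_assoc]
      rw [← Category.assoc, e1, hc1]
    · simp only [φ, Category.assoc, pullback.lift_snd, pullbackSpecIso_inv_snd_assoc]
      rw [← Category.assoc, e2, hc2]
  haveI : Mono (σ ≫ φ) := by rw [hσ]; infer_instance
  haveI : Mono σ := mono_of_mono σ φ
  refine ⟨fun {T} u v huv => Spec.map_injective ?_⟩
  rw [← cancel_mono σ, ← Spec.map_comp, ← Spec.map_comp, huv]

end Groth.Agent.H29Omega

namespace Groth.Agent.H29Omega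

attribute [local instance] Algebra.TensorProduct.rightAlgebra

/-- Differentials base change to a formally étale algebra over the tensor product. -/
theorem isBaseChange_map_of_tensor (A B A' C : Type u) [CommRing A] [CommRing B] [CommRing A'] [CommRing C]
    [Algebra A B] [Algebra A A'] [Algebra A C] [Algebra B C] [Algebra A' C] [IsScalarTower A B C]
    [IsScalarTower A A' C]
    (hfe : letI := (H06Mod.tensorLift A B A' C).toRingHom.toAlgebra
      Algebra.FormallyEtale (B ⊗[A] A') C) :
    IsBaseChange C (KaehlerDifferential.map A A' B C) := by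
  let T := B ⊗[A] A'
  letI : Algebra T C := (H06Mod.tensorLift A B A' C).toRingHom.toAlgebra
  haveI : IsScalarTower B T C := IsScalarTower.of_algebraMap_eq fun b => by
    show _ = H06Mod.tensorLift A B A' C (b ⊗ₜ 1)
    simp [H06Mod.tensorLift]
  haveI : IsScalarTower A' T C := IsScalarTower.of_algebraMap_eq fun a => by
    show _ = H06Mod.tensorLift A B A' C (1 ⊗ₜ a)
    simp [H06Mod.tensorLift]
  haveI : IsScalarTower A T C := IsScalarTower.of_algebraMap_eq fun a => by
    show _ = H06Mod.tensorLift A B A' C (algebraMap A (B ⊗[A] A') a)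
    exact ((H06Mod.tensorLift A B A' C).commutes a).symm
  haveI : Algebra.FormallyEtale T C := hfe
  have h1 : IsBaseChange T (KaehlerDifferential.map A A' B T) := by
    rw [isBaseChange_iff_bijective]
    have : (KaehlerDifferential.map A A' B T).liftBaseChange T =
        (KaehlerDifferential.tensorKaehlerEquiv A A' B T).toLinearMap := by
      refine TensorProduct.AlgebraTensorModule.ext fun t ω => ?_
      have hω : ω ∈ Submodule.span B (Set.range (KaehlerDifferential.D A B)) := by
        rw [KaehlerDifferential.span_range_derivation]; trivial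
      induction hω using Submodule.span_induction with
      | zero => simp
      | add a b _ _ ha hb => simp only [TensorProduct.tmul_add, map_add, ha, hb]
      | smul r a _ ha =>
        rw [TensorProduct.tmul_smul, ← algebraMap_smul T r, map_smul, map_smul, ha]
      | mem a ha =>
        obtain ⟨b, rfl⟩ := ha
        rw [LinearMap.liftBaseChange_tmul, KaehlerDifferential.map_D, LinearEquiv.coe_coe,
          KaehlerDifferential.tensorKaehlerEquiv_tmul_D]
    rw [this]
    exact (KaehlerDifferential.tensorKaehlerEquiv A A' B T).bijective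
  have h2 := IsBaseChange.comp h1 (KaehlerDifferential.isBaseChange_of_formallyEtale A' T C)
  have h3 : ((KaehlerDifferential.map A' A' T C).restrictScalars B).comp (KaehlerDifferential.map A A' B T) =
      KaehlerDifferential.map A A' B C := by
    refine Derivation.liftKaehlerDifferential_unique _ _ (Derivation.ext fun b => ?_)
    show KaehlerDifferential.map A' A' T C (KaehlerDifferential.map A A' B T (KaehlerDifferential.D A B b)) =
      KaehlerDifferential.map A A' B C (KaehlerDifferential.D A B b)
    rw [KaehlerDifferential.map_D, KaehlerDifferential.map_D, KaehlerDifferential.map_D,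
      ← IsScalarTower.algebraMap_apply]
  rwa [h3] at h2

attribute [local instance] Groth.Agent.H06Mod.stalkAlgebra

/-- Differentials of local rings base change along cartesian squares. -/
theorem isBaseChange_map_stalk_of_isPullback {X S X' S' : Scheme.{u}} (f : X ⟶ S) (g : S' ⟶ S)
    (g' : X' ⟶ X) (f' : X' ⟶ S') (h : IsPullback g' f' f g) (x' : X') :
    letI : Algebra (S.presheaf.stalk (f.base (g'.base x'))) (S'.presheaf.stalk (f'.base x')) :=
      (baseStalkMap f f' g g' h.w x').hom.toAlgebra
    letI : Algebra (S.presheaf.stalk (f.base (g'.base x'))) (X'.presheaf.stalk x') :=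
      ((g'.stalkMap x').hom.comp (f.stalkMap (g'.base x')).hom).toAlgebra
    haveI : IsScalarTower (S.presheaf.stalk (f.base (g'.base x'))) (X.presheaf.stalk (g'.base x'))
      (X'.presheaf.stalk x') := .of_algebraMap_eq fun _ => rfl
    haveI : IsScalarTower (S.presheaf.stalk (f.base (g'.base x'))) (S'.presheaf.stalk (f'.base x'))
      (X'.presheaf.stalk x') := .of_algebraMap_eq fun r =>
        (congr($(congrArg CommRingCat.Hom.hom (baseStalkMap_comp f f' g g' h.w x')) r)).symm
    (IsBaseChange (X'.presheaf.stalk x')
      (KaehlerDifferential.map (S.presheaf.stalk (f.base (g'.base x'))) (S'.presheaf.stalk (f'.base x'))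
        (X.presheaf.stalk (g'.base x')) (X'.presheaf.stalk x'))) := by
  letI : Algebra (S.presheaf.stalk (f.base (g'.base x'))) (S'.presheaf.stalk (f'.base x')) :=
    (baseStalkMap f f' g g' h.w x').hom.toAlgebra
  letI : Algebra (S.presheaf.stalk (f.base (g'.base x'))) (X'.presheaf.stalk x') :=
    ((g'.stalkMap x').hom.comp (f.stalkMap (g'.base x')).hom).toAlgebra
  haveI : IsScalarTower (S.presheaf.stalk (f.base (g'.base x'))) (X.presheaf.stalk (g'.base x'))
    (X'.presheaf.stalk x') := .of_algebraMap_eq fun _ => rfl
  haveI : IsScalarTower (S.presheaf.stalk (f.base (g'.base x'))) (S'.presheaf.stalk (f'.base x'))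
    (X'.presheaf.stalk x') := .of_algebraMap_eq fun r =>
      (congr($(congrArg CommRingCat.Hom.hom (baseStalkMap_comp f f' g g' h.w x')) r)).symm
  refine isBaseChange_map_of_tensor _ _ _ _ ?_
  let A := S.presheaf.stalk (f.base (g'.base x'))
  let B := X.presheaf.stalk (g'.base x')
  let A' := S'.presheaf.stalk (f'.base x')
  let C := X'.presheaf.stalk x'
  let c : Spec C ⟶ pullback f g := X'.fromSpecStalk x' ≫ h.isoPullback.hom
  haveI : Flat (X'.fromSpecStalk x') := inferInstance
  haveI : Flat c := inferInstance
  haveI : Mono c := mono_comp _ _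
  have hc1 : Spec.map (CommRingCat.ofHom (algebraMap B C)) ≫ X.fromSpecStalk (g'.base x') =
      c ≫ pullback.fst f g := by
    rw [Category.assoc, h.isoPullback_hom_fst]
    exact Scheme.SpecMap_stalkMap_fromSpecStalk g'
  have hc2 : Spec.map (CommRingCat.ofHom (algebraMap A' C)) ≫ S'.fromSpecStalk (f'.base x') =
      c ≫ pullback.snd f g := by
    rw [Category.assoc, h.isoPullback_hom_snd]
    exact Scheme.SpecMap_stalkMap_fromSpecStalk f'
  have hflat := H06Mod.flat_tensorLift A B A' C f g (X.fromSpecStalk (g'.base x'))
    (S.fromSpecStalk (f.base (g'.base x'))) (S'.fromSpecStalk (f'.base x'))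
    (Scheme.SpecMap_stalkMap_fromSpecStalk f) (specMap_baseStalkMap f f' g g' h.w x') c hc1 hc2
  have hepi := epi_tensorLift A B A' C f g (X.fromSpecStalk (g'.base x'))
    (S.fromSpecStalk (f.base (g'.base x'))) (S'.fromSpecStalk (f'.base x'))
    (Scheme.SpecMap_stalkMap_fromSpecStalk f) (specMap_baseStalkMap f f' g g' h.w x') c hc1 hc2
  letI : Algebra (B ⊗[A] A') C := (H06Mod.tensorLift A B A' C).toRingHom.toAlgebra
  haveI : Module.Flat (B ⊗[A] A') C := hflat
  haveI : Algebra.IsEpi (B ⊗[A] A') C := CommRingCat.epi_iff_epi.mp hepi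
  exact formallyEtale_of_flat_epi_local (B ⊗[A] A') C

end Groth.Agent.H29Omega

namespace Groth.Agent.H29Omega

/-- Differentials base change along a formally étale map over a formally unramified base change. -/
theorem isBaseChange_map_of_formallyEtale (A B A' C : Type u) [CommRing A] [CommRing B] [CommRing A'] [CommRing C]
    [Algebra A B] [Algebra A A'] [Algebra A C] [Algebra B C] [Algebra A' C] [IsScalarTower A B C]
    [IsScalarTower A A' C] [Algebra.FormallyEtale B C] [Algebra.FormallyUnramified A A'] :
    IsBaseChange C (KaehlerDifferential.map A A' B C) := by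
  have h1 := KaehlerDifferential.isBaseChange_of_formallyEtale A B C
  have hb : Function.Bijective (KaehlerDifferential.map A A' C C) := by
    refine ⟨(injective_iff_map_eq_zero _).2 fun x hx => ?_, KaehlerDifferential.map_surjective A A' C⟩
    obtain ⟨y, rfl⟩ := (KaehlerDifferential.exact_mapBaseChange_map A A' C x).1 hx
    rw [Subsingleton.elim y 0, map_zero]
  have h2 := IsBaseChange.comp h1 (IsBaseChange.ofEquiv (LinearEquiv.ofBijective _ hb))
  have h3 : ((LinearEquiv.ofBijective (KaehlerDifferential.map A A' C C) hb).toLinearMap.restrictScalars B).comp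
      (KaehlerDifferential.map A A B C) = KaehlerDifferential.map A A' B C := by
    refine Derivation.liftKaehlerDifferential_unique _ _ (Derivation.ext fun b => ?_)
    show KaehlerDifferential.map A A' C C (KaehlerDifferential.map A A B C (KaehlerDifferential.D A B b)) =
      KaehlerDifferential.map A A' B C (KaehlerDifferential.D A B b)
    rw [KaehlerDifferential.map_D, KaehlerDifferential.map_D, KaehlerDifferential.map_D]
    rfl
  rwa [h3] at h2

/-- The maps of local rings of an étale morphism are formally étale. -/
theorem formallyEtale_stalkMap {X Y : Scheme.{u}} (g : X ⟶ Y) [Etale g] (x : X) :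
    (g.stalkMap x).hom.FormallyEtale := by
  have hs : (g.stalkMap x).hom.FormallySmooth :=
    Scheme.Hom.mem_smoothLocus.1 (by rw [Scheme.Hom.smoothLocus_eq_top g]; trivial)
  obtain ⟨U, hU, hxU, -⟩ := exists_isAffineOpen_mem_and_subset (x := g x) (U := ⊤) trivial
  obtain ⟨V, hV, hxV, hle⟩ := exists_isAffineOpen_mem_and_subset (x := x) (U := g ⁻¹ᵁ U) hxU
  have hu : (g.stalkMap x).hom.FormallyUnramified := by
    rw [H17.OmegaStalk.formallyUnramified_stalkMap_iff hV hU hle hxV]
    have hf : (g.appLE U V hle).hom.FormallyUnramified :=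
      HasRingHomProperty.appLE @FormallyUnramified g inferInstance ⟨U, hU⟩ ⟨V, hV⟩ hle
    letI := (g.appLE U V hle).hom.toAlgebra
    haveI : Algebra.FormallyUnramified Γ(Y, U) Γ(X, V) := hf
    exact Algebra.FormallyUnramified.comp Γ(Y, U) Γ(X, V) _
  letI := (g.stalkMap x).hom.toAlgebra
  haveI : Algebra.FormallySmooth (Y.presheaf.stalk (g x)) (X.presheaf.stalk x) := hs
  haveI : Algebra.FormallyUnramified (Y.presheaf.stalk (g x)) (X.presheaf.stalk x) := hu
  show Algebra.FormallyEtale (Y.presheaf.stalk (g x)) (X.presheaf.stalk x)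
  exact Algebra.FormallyEtale.of_formallyUnramified_and_formallySmooth

attribute [local instance] Groth.Agent.H06Mod.stalkAlgebra

/-- Comparison maps of differentials along étale squares are isomorphisms. -/
theorem isBaseChange_map_stalk_of_etale {X S X' S' : Scheme.{u}} (f : X ⟶ S) (g : S' ⟶ S)
    (g' : X' ⟶ X) (f' : X' ⟶ S') [Etale g] [Etale g'] (w : g' ≫ f = f' ≫ g) (x' : X') :
    letI : Algebra (S.presheaf.stalk (f.base (g'.base x'))) (S'.presheaf.stalk (f'.base x')) :=
      (baseStalkMap f f' g g' w x').hom.toAlgebra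
    letI : Algebra (S.presheaf.stalk (f.base (g'.base x'))) (X'.presheaf.stalk x') :=
      ((g'.stalkMap x').hom.comp (f.stalkMap (g'.base x')).hom).toAlgebra
    haveI : IsScalarTower (S.presheaf.stalk (f.base (g'.base x'))) (X.presheaf.stalk (g'.base x'))
      (X'.presheaf.stalk x') := .of_algebraMap_eq fun _ => rfl
    haveI : IsScalarTower (S.presheaf.stalk (f.base (g'.base x'))) (S'.presheaf.stalk (f'.base x'))
      (X'.presheaf.stalk x') := .of_algebraMap_eq fun r =>
        (congr($(congrArg CommRingCat.Hom.hom (baseStalkMap_comp f f' g g' w x')) r)).symm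
    (IsBaseChange (X'.presheaf.stalk x')
      (KaehlerDifferential.map (S.presheaf.stalk (f.base (g'.base x'))) (S'.presheaf.stalk (f'.base x'))
        (X.presheaf.stalk (g'.base x')) (X'.presheaf.stalk x'))) := by
  letI : Algebra (S.presheaf.stalk (f.base (g'.base x'))) (S'.presheaf.stalk (f'.base x')) :=
    (baseStalkMap f f' g g' w x').hom.toAlgebra
  letI : Algebra (S.presheaf.stalk (f.base (g'.base x'))) (X'.presheaf.stalk x') :=
    ((g'.stalkMap x').hom.comp (f.stalkMap (g'.base x')).hom).toAlgebra
  haveI : IsScalarTower (S.presheaf.stalk (f.base (g'.base x'))) (X.presheaf.stalk (g'.base x'))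
    (X'.presheaf.stalk x') := .of_algebraMap_eq fun _ => rfl
  haveI : IsScalarTower (S.presheaf.stalk (f.base (g'.base x'))) (S'.presheaf.stalk (f'.base x'))
    (X'.presheaf.stalk x') := .of_algebraMap_eq fun r =>
      (congr($(congrArg CommRingCat.Hom.hom (baseStalkMap_comp f f' g g' w x')) r)).symm
  haveI : Algebra.FormallyEtale (X.presheaf.stalk (g'.base x')) (X'.presheaf.stalk x') :=
    formallyEtale_stalkMap g' x'
  have hbase : (baseStalkMap f f' g g' w x').hom.FormallyEtale := by
    have e : g.base (f'.base x') = f.base (g'.base x') := by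
      rw [← Scheme.Hom.comp_apply, ← Scheme.Hom.comp_apply, w]
    haveI : IsIso (S.presheaf.stalkSpecializes (specializes_of_eq e)) :=
      H06EGA9.isIso_stalkSpecializes_of_eq e
    let R₁ := S.presheaf.stalk (f.base (g'.base x'))
    let R₂ := S.presheaf.stalk (g.base (f'.base x'))
    let R₃ := S'.presheaf.stalk (f'.base x')
    letI : Algebra R₁ R₂ := (S.presheaf.stalkSpecializes (specializes_of_eq e)).hom.toAlgebra
    letI : Algebra R₂ R₃ := (g.stalkMap (f'.base x')).hom.toAlgebra
    haveI : IsScalarTower R₁ R₂ R₃ := IsScalarTower.of_algebraMap_eq fun _ => rfl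
    haveI : Algebra.FormallyEtale R₁ R₂ :=
      Algebra.FormallyEtale.of_equiv (AlgEquiv.ofBijective (Algebra.ofId R₁ R₂)
        (ConcreteCategory.bijective_of_isIso (S.presheaf.stalkSpecializes (specializes_of_eq e))))
    haveI : Algebra.FormallyEtale R₂ R₃ := formallyEtale_stalkMap g (f'.base x')
    exact Algebra.FormallyEtale.comp R₁ R₂ R₃
  haveI : Algebra.FormallyEtale (S.presheaf.stalk (f.base (g'.base x'))) (S'.presheaf.stalk (f'.base x')) :=
    hbase
  exact isBaseChange_map_of_formallyEtale _ _ _ _

end Groth.Agent.H29Omega
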