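import Mathlib
import Groth.Prelude.Def_Omega3

/-!
# Derivations on an affine scheme are determined by, and extend from, global sections
-/

set_option autoImplicit false

universe u

open CategoryTheory AlgebraicGeometry TopologicalSpace Opposite

namespace Groth.Agent.H29Omega.DerAffine

variable {X : Scheme.{u}} (F : X.Modules)

/-- restriction of functions -/
noncomputable abbrev rX {U V : X.Opens} (h : U ≤ V) (a : Γ(X, V)) : Γ(X, U) :=
  (X.presheaf.map (homOfLE h).op).hom a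

/-- restriction of sections -/
noncomputable abbrev rF {U V : X.Opens} (h : U ≤ V) (m : Γ(F, V)) : Γ(F, U) :=
  (F.presheaf.map (homOfLE h).op).hom m

lemma rX_rX {U V W : X.Opens} (h : U ≤ V) (h' : V ≤ W) (a : Γ(X, W)) :
    rX h (rX h' a) = rX (h.trans h') a := by
  change (X.presheaf.map _ ≫ X.presheaf.map _).hom a = _
  rw [← X.presheaf.map_comp]; rfl

lemma rF_rF {U V W : X.Opens} (h : U ≤ V) (h' : V ≤ W) (m : Γ(F, W)) :
    rF F h (rF F h' m) = rF F (h.trans h') m := by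
  change (F.presheaf.map _ ≫ F.presheaf.map _).hom m = _
  rw [← F.presheaf.map_comp]; rfl

lemma rF_smul {U V : X.Opens} (h : U ≤ V) (a : Γ(X, V)) (m : Γ(F, V)) :
    rF F h (a • m) = rX h a • rF F h m :=
  Scheme.Modules.map_smul F _ _ _

lemma rX_self {U : X.Opens} (a : Γ(X, U)) : rX (le_refl U) a = a := by
  change (X.presheaf.map (𝟙 _)).hom a = a
  rw [X.presheaf.map_id]; rfl

lemma rF_self {U : X.Opens} (m : Γ(F, U)) : rF F (le_refl U) m = m := by
  change (F.presheaf.map (𝟙 _)).hom m = m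
  rw [F.presheaf.map_id]; rfl

variable [IsAffine X]

/-- two sections agreeing on every standard open are equal -/
lemma sep {U : X.Opens} (m n : Γ(F, U))
    (h : ∀ (a : Γ(X, ⊤)) (ha : X.basicOpen a ≤ U), rF F ha m = rF F ha n) : m = n := by
  refine TopCat.Sheaf.eq_of_locally_eq' ⟨F.presheaf, F.isSheaf⟩
    (fun a : {a : Γ(X, ⊤) // X.basicOpen a ≤ U} ↦ X.basicOpen a.1) U
    (fun a ↦ homOfLE a.2) ?_ m n fun a ↦ h a.1 a.2
  intro x hx
  obtain ⟨_, ⟨a, rfl⟩, hxa, haU⟩ :=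
    Opens.isBasis_iff_nbhd.mp (isBasis_basicOpen X) hx
  exact Opens.mem_iSup.mpr ⟨⟨a, haU⟩, hxa⟩

lemma exists_frac {a₀ : Γ(X, ⊤)} (s : Γ(X, X.basicOpen a₀)) :
    ∃ (n : ℕ) (b : Γ(X, ⊤)), rX le_top (a₀ ^ n) * s = rX le_top b := by
  have := (isAffineOpen_top X).isLocalization_basicOpen a₀
  obtain ⟨⟨b, ⟨_, n, rfl⟩⟩, hb⟩ := IsLocalization.surj (Submonoid.powers a₀) s
  exact ⟨n, b, by rw [mul_comm]; exact hb⟩

lemma exists_torsion {a₀ x : Γ(X, ⊤)} (h : rX (U := X.basicOpen a₀) le_top x = 0) :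
    ∃ m : ℕ, a₀ ^ m * x = 0 := by
  have := (isAffineOpen_top X).isLocalization_basicOpen a₀
  obtain ⟨⟨_, m, rfl⟩, hm⟩ :=
    (IsLocalization.map_eq_zero_iff (Submonoid.powers a₀) Γ(X, X.basicOpen a₀) x).mp h
  exact ⟨m, hm⟩

lemma isUnit_rX (a₀ : Γ(X, ⊤)) (n : ℕ) : IsUnit (rX (U := X.basicOpen a₀) le_top (a₀ ^ n)) := by
  have := (isAffineOpen_top X).isLocalization_basicOpen a₀
  exact IsLocalization.map_units Γ(X, X.basicOpen a₀)
    (⟨a₀ ^ n, n, rfl⟩ : Submonoid.powers a₀)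

/-- `t` is the value at `s` of the extension of `δ`. -/
def Rel (δ : Γ(X, ⊤) →+ Γ(F, ⊤)) {V : X.Opens} (s : Γ(X, V)) (t : Γ(F, V)) : Prop :=
  ∀ a b : Γ(X, ⊤), rX le_top a * s = rX le_top b →
    rX (U := V) le_top a • t + s • rF F (U := V) le_top (δ a) = rF F (U := V) le_top (δ b)

variable {δ : Γ(X, ⊤) →+ Γ(F, ⊤)}
variable (hδ : ∀ a b : Γ(X, ⊤), δ (a * b) = a • δ b + b • δ a)

include hδ

lemma existsUnique_rel {a₀ : Γ(X, ⊤)} (s : Γ(X, X.basicOpen a₀)) : ∃! t, Rel F δ s t := by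
  obtain ⟨n, b₀, hb₀⟩ := exists_frac s
  have hu := isUnit_rX a₀ n
  obtain ⟨u, hu'⟩ := hu
  have hres : ∀ (x y : Γ(X, ⊤)), rF F (U := X.basicOpen a₀) le_top (δ (x * y)) =
      rX le_top x • rF F le_top (δ y) + rX le_top y • rF F le_top (δ x) := fun x y ↦ by
    rw [hδ, ← rF_smul, ← rF_smul]; exact map_add _ _ _
  refine ⟨u⁻¹.val • (rF F le_top (δ b₀) - s • rF F le_top (δ (a₀ ^ n))), ?_, ?_⟩
  · intro a b hab
    have hx : rX (U := X.basicOpen a₀) le_top (a * b₀ - a₀ ^ n * b) = 0 := by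
      simp only [rX, map_sub, map_mul] at hab hb₀ ⊢
      rw [← hb₀, ← hab]; ring
    obtain ⟨m, hm⟩ := exists_torsion hx
    have h0 : rF F (U := X.basicOpen a₀) le_top (δ (a * b₀)) =
        rF F le_top (δ (a₀ ^ n * b)) := by
      have h1 := hres (a₀ ^ m) (a * b₀ - a₀ ^ n * b)
      rw [hm, hx, zero_smul, add_zero, map_zero] at h1
      obtain ⟨v, hv⟩ := isUnit_rX a₀ m
      have h2 : rX (U := X.basicOpen a₀) le_top (a₀ ^ m) •
          rF F (U := X.basicOpen a₀) le_top (δ (a * b₀ - a₀ ^ n * b)) = 0 := by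
        rw [← h1]; exact map_zero _
      rw [← hv, ← Units.smul_def, smul_eq_zero_iff_eq] at h2
      rw [← sub_eq_zero]
      simp only [rF, ← map_sub, ← AddMonoidHom.map_sub]
      exact h2
    rw [hres, hres, ← hb₀, ← hab] at h0
    apply MulAction.injective u
    simp only
    have hu1 : (u : Γ(X, X.basicOpen a₀)) * u⁻¹.val = 1 := u.mul_inv
    rw [Units.smul_def, Units.smul_def, smul_add, smul_smul, smul_smul, smul_smul,
      show (u : Γ(X, X.basicOpen a₀)) * rX le_top a * u⁻¹.val = rX le_top a by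
        rw [mul_right_comm, hu1, one_mul], smul_sub, smul_smul, hu']
    linear_combination (norm := module) h0
  · intro t ht
    have := ht _ _ hb₀
    rw [← this, ← hu', add_sub_cancel_right, smul_smul, u.inv_mul, one_smul]

/-- The extension of `δ` to a standard open. -/
noncomputable def dB {a₀ : Γ(X, ⊤)} (s : Γ(X, X.basicOpen a₀)) :
    Γ(F, X.basicOpen a₀) :=
  (existsUnique_rel F hδ s).choose

lemma rel_dB {a₀ : Γ(X, ⊤)} (s : Γ(X, X.basicOpen a₀)) : Rel F δ s (dB F hδ s) :=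
  (existsUnique_rel F hδ s).choose_spec.1

lemma dB_eq {a₀ a b : Γ(X, ⊤)} (s : Γ(X, X.basicOpen a₀)) (t : Γ(F, X.basicOpen a₀))
    (hu : IsUnit (rX (U := X.basicOpen a₀) le_top a)) (hab : rX (U := X.basicOpen a₀) le_top a * s = rX le_top b)
    (ht : rX (U := X.basicOpen a₀) le_top a • t + s • rF F (U := X.basicOpen a₀) le_top (δ a) =
      rF F (U := X.basicOpen a₀) le_top (δ b)) : dB F hδ s = t := by
  have := rel_dB F hδ s a b hab
  rw [← ht, add_left_inj] at this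
  exact hu.smul_left_cancel.mp this

lemma dB_add {a₀ : Γ(X, ⊤)} (s s' : Γ(X, X.basicOpen a₀)) :
    dB F hδ (s + s') = dB F hδ s + dB F hδ s' := by
  obtain ⟨n, b, hb⟩ := exists_frac s
  obtain ⟨n', b', hb'⟩ := exists_frac s'
  have hab : rX le_top (a₀ ^ n * a₀ ^ n') * s = rX le_top (a₀ ^ n' * b) := by
    simp only [rX, map_mul] at hb ⊢; rw [← hb]; ring
  have hab' : rX le_top (a₀ ^ n * a₀ ^ n') * s' = rX le_top (a₀ ^ n * b') := by
    simp only [rX, map_mul] at hb' ⊢; rw [← hb']; ring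
  refine dB_eq F hδ (a := a₀ ^ n * a₀ ^ n') (b := a₀ ^ n' * b + a₀ ^ n * b') _ _
    (by rw [← pow_add]; exact isUnit_rX a₀ _) (by simp only [rX, map_add] at hab hab' ⊢; rw [mul_add, hab, hab']) ?_
  have h1 := rel_dB F hδ s _ _ hab
  have h2 := rel_dB F hδ s' _ _ hab'
  simp only [rF, map_add] at h1 h2 ⊢
  rw [← h1, ← h2]
  module

lemma dB_mul {a₀ : Γ(X, ⊤)} (s s' : Γ(X, X.basicOpen a₀)) :
    dB F hδ (s * s') = s • dB F hδ s' + s' • dB F hδ s := by
  obtain ⟨n, b, hb⟩ := exists_frac s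
  obtain ⟨n', b', hb'⟩ := exists_frac s'
  have hres : ∀ (x y : Γ(X, ⊤)), rF F (U := X.basicOpen a₀) le_top (δ (x * y)) =
      rX le_top x • rF F le_top (δ y) + rX le_top y • rF F le_top (δ x) := fun x y ↦ by
    rw [hδ, ← rF_smul, ← rF_smul]; exact map_add _ _ _
  refine dB_eq F hδ (a := a₀ ^ n * a₀ ^ n') (b := b * b') _ _
    (by rw [← pow_add]; exact isUnit_rX a₀ _)
    (by simp only [rX, map_mul] at hb hb' ⊢; rw [← hb, ← hb']; ring) ?_
  rw [hres, hres, show rX le_top (a₀ ^ n * a₀ ^ n') =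
    rX (U := X.basicOpen a₀) le_top (a₀ ^ n) * rX le_top (a₀ ^ n') from map_mul _ _ _]
  have h1 := rel_dB F hδ s _ _ hb
  have h2 := rel_dB F hδ s' _ _ hb'
  rw [← h1, ← h2, ← hb, ← hb']
  module

lemma dB_res {a₀ a₁ : Γ(X, ⊤)} (h : X.basicOpen a₁ ≤ X.basicOpen a₀)
    (s : Γ(X, X.basicOpen a₀)) : dB F hδ (rX h s) = rF F h (dB F hδ s) := by
  obtain ⟨n, b, hb⟩ := exists_frac s
  refine dB_eq F hδ (a := a₀ ^ n) (b := b) _ _ ?_ ?_ ?_
  · rw [← rX_rX h le_top]; exact (isUnit_rX a₀ n).map _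
  · rw [← rX_rX h le_top, ← rX_rX h le_top b, ← hb]; exact (map_mul _ _ _).symm
  · have := congrArg (rF F h) (rel_dB F hδ s _ _ hb)
    rw [show ∀ x y, rF F h (x + y) = rF F h x + rF F h y from map_add _, rF_smul, rF_smul,
      rX_rX, rF_rF, rF_rF] at this
    exact this

lemma existsUnique_ext {U : X.Opens} (s : Γ(X, U)) :
    ∃! t : Γ(F, U), ∀ (a : Γ(X, ⊤)) (ha : X.basicOpen a ≤ U), rF F ha t = dB F hδ (rX ha s) := by
  obtain ⟨t, ht, htu⟩ := TopCat.Sheaf.existsUnique_gluing' ⟨F.presheaf, F.isSheaf⟩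
    (fun a : {a : Γ(X, ⊤) // X.basicOpen a ≤ U} ↦ X.basicOpen a.1) U
    (fun a ↦ homOfLE a.2) (by
      intro x hx
      obtain ⟨_, ⟨a, rfl⟩, hxa, haU⟩ :=
        Opens.isBasis_iff_nbhd.mp (isBasis_basicOpen X) hx
      exact Opens.mem_iSup.mpr ⟨⟨a, haU⟩, hxa⟩)
    (fun a ↦ dB F hδ (rX a.2 s)) (by
      intro i j
      refine sep F _ _ fun a ha ↦ ?_
      change rF F ha (rF F inf_le_left _) = rF F ha (rF F inf_le_right _)
      rw [rF_rF, rF_rF, ← dB_res, ← dB_res, rX_rX, rX_rX])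
  exact ⟨t, fun a ha ↦ ht ⟨a, ha⟩, fun y hy ↦ htu y fun i ↦ hy i.1 i.2⟩

/-- The extension of `δ` to an open. -/
noncomputable def dU (U : X.Opens) : Γ(X, U) →+ Γ(F, U) :=
  AddMonoidHom.mk' (fun s ↦ (existsUnique_ext F hδ s).choose) fun s s' ↦ sep F _ _ fun a ha ↦ by
    rw [show rF F ha _ = _ from (existsUnique_ext F hδ _).choose_spec.1 a ha,
      show ∀ x y, rF F ha (x + y) = rF F ha x + rF F ha y from map_add _,
      show rF F ha _ = _ from (existsUnique_ext F hδ s).choose_spec.1 a ha,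
      show rF F ha _ = _ from (existsUnique_ext F hδ s').choose_spec.1 a ha, ← dB_add]
    exact congrArg (dB F hδ) (map_add _ _ _)

lemma rF_dU {U : X.Opens} (s : Γ(X, U)) (a : Γ(X, ⊤)) (ha : X.basicOpen a ≤ U) :
    rF F ha (dU F hδ U s) = dB F hδ (rX ha s) :=
  (existsUnique_ext F hδ s).choose_spec.1 a ha

lemma dU_top : dU F hδ ⊤ = δ := by
  ext s
  refine sep F _ _ fun a ha ↦ ?_
  rw [rF_dU]
  have h1 : δ 1 = 0 := by have := hδ 1 1; rwa [mul_one, one_smul, left_eq_add] at this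
  refine dB_eq F hδ (a := 1) (b := s) _ _ ?_ ?_ ?_
  · simp only [rX, map_one]; exact isUnit_one
  · simp only [rX, map_one, one_mul]
  · simp only [rX, rF, map_one, one_smul, h1, map_zero, smul_zero, add_zero]

lemma dU_mul {U : X.Opens} (s s' : Γ(X, U)) :
    dU F hδ U (s * s') = s • dU F hδ U s' + s' • dU F hδ U s := by
  refine sep F _ _ fun a ha ↦ ?_
  rw [show ∀ x y, rF F ha (x + y) = rF F ha x + rF F ha y from map_add _, rF_smul, rF_smul,
    rF_dU, rF_dU, rF_dU, ← dB_mul]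
  exact congrArg (dB F hδ) (map_mul _ _ _)

lemma dU_res {U V : X.Opens} (h : U ≤ V) (s : Γ(X, V)) :
    dU F hδ U (rX h s) = rF F h (dU F hδ V s) := by
  refine sep F _ _ fun a ha ↦ ?_
  rw [rF_dU, rF_rF, rF_dU, rX_rX]

omit hδ in
/-- A derivation satisfies the defining relation. -/
lemma rel_app {S : Scheme.{u}} {f : X ⟶ S} (D : OmegaSh.Der f F) {V : X.Opens} (s : Γ(X, V)) :
    Rel F (D.app ⊤) s (D.app V s) := by
  intro a b hab
  have hmap : ∀ x : Γ(X, ⊤), rF F (U := V) le_top (D.app ⊤ x) = D.app V (rX le_top x) :=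
    fun x ↦ by
      have := (D.d_map (homOfLE (le_top : V ≤ ⊤)).op x).symm
      exact this
  rw [hmap, hmap, ← hab]
  exact (D.d_mul _ _).symm

omit hδ in
lemma app_top_mul {S : Scheme.{u}} {f : X ⟶ S} (D : OmegaSh.Der f F) (a b : Γ(X, ⊤)) :
    D.app ⊤ (a * b) = a • D.app ⊤ b + b • D.app ⊤ a :=
  D.d_mul a b

omit hδ in
theorem injective_app_top {S : Scheme.{u}} (f : X ⟶ S) :
    Function.Injective (fun D : OmegaSh.Der f F ↦ D.app ⊤) := by
  intro D E hDE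
  simp only at hDE
  have h : ∀ U : X.Opens, D.app U = E.app U := fun U ↦ by
    refine AddMonoidHom.ext fun s ↦ sep F _ _ fun a ha ↦ ?_
    have hD : rF F ha (D.app U s) = D.app _ (rX ha s) := (D.d_map (homOfLE ha).op s).symm
    have hE : rF F ha (E.app U s) = E.app _ (rX ha s) := (E.d_map (homOfLE ha).op s).symm
    rw [hD, hE]
    have r1 := rel_app F D (rX ha s)
    rw [hDE] at r1
    exact (existsUnique_rel F (app_top_mul F E) _).unique r1 (rel_app F E _)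
  ext ⟨U⟩ s
  exact congrArg (fun φ ↦ φ s) (h U)

/-- The derivation extending `δ`. -/
theorem exists_der {S : Scheme.{u}} [IsAffine S] (f : X ⟶ S)
    (hf : ∀ c : Γ(S, ⊤), δ (f.appTop c) = 0) : ∃ D : OmegaSh.Der f F, D.app ⊤ = δ := by
  refine ⟨⟨fun {U} ↦ dU F hδ U.unop, fun {U} a b ↦ dU_mul F hδ a b,
    fun {U V} g x ↦ dU_res F hδ (leOfHom g.unop) x, fun {U} c ↦ ?_⟩, dU_top F hδ⟩
  obtain ⟨V⟩ := U
  change dU F hδ (f ⁻¹ᵁ V) ((f.app V).hom c) = 0
  refine TopCat.Sheaf.eq_of_locally_eq' ⟨F.presheaf, F.isSheaf⟩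
    (fun p : {p : Γ(X, ⊤) × Γ(S, ⊤) // S.basicOpen p.2 ≤ V ∧
      X.basicOpen p.1 ≤ f ⁻¹ᵁ S.basicOpen p.2} ↦ X.basicOpen p.1.1) (f ⁻¹ᵁ V)
    (fun p ↦ homOfLE (p.2.2.trans (f.preimage_mono p.2.1))) ?_ _ _ ?_
  · intro x hx
    obtain ⟨_, ⟨g, rfl⟩, hxg, hgV⟩ :=
      Opens.isBasis_iff_nbhd.mp (isBasis_basicOpen S) (show f x ∈ V from hx)
    obtain ⟨_, ⟨a, rfl⟩, hxa, hag⟩ := Opens.isBasis_iff_nbhd.mp (isBasis_basicOpen X)
      (show x ∈ f ⁻¹ᵁ S.basicOpen g from hxg)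
    exact Opens.mem_iSup.mpr ⟨⟨(a, g), hgV, hag⟩, hxa⟩
  rintro ⟨⟨a, g⟩, hgV, hag⟩
  have hle : X.basicOpen a ≤ f ⁻¹ᵁ V := hag.trans (f.preimage_mono hgV)
  change rF F hle _ = rF F hle 0
  rw [rF_dU, show rF F hle 0 = 0 from map_zero _]
  obtain ⟨n, h, hgh⟩ := exists_frac (X := S) (rX hgV c)
  have key : ∀ {W : S.Opens} (hW : X.basicOpen a ≤ f ⁻¹ᵁ W) (x : Γ(S, ⊤)),
      rX (U := X.basicOpen a) le_top (f.appTop x) = rX hW (f.app W (rX le_top x)) := by
    intro W hW x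
    rw [show (f.app W).hom (rX le_top x) =
      rX (f.preimage_mono le_top) (f.appTop x) from congr($(f.naturality _) x), rX_rX]
    rfl
  refine dB_eq F hδ (a := f.appTop (g ^ n)) (b := f.appTop h) _ _ ?_ ?_ ?_
  · rw [key hag]; exact ((isUnit_rX g n).map _).map _
  · rw [key hag, key hag h, ← hgh, map_mul]
    simp only [rX, map_mul]
    congr 1
    change _ = rX hag ((f.app _).hom (rX hgV c))
    rw [show (f.app (S.basicOpen g)).hom (rX hgV c) =
      rX (f.preimage_mono hgV) ((f.app V).hom c) from congr($(f.naturality _) c), rX_rX]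
  · rw [hf, hf, smul_zero, show rF F (U := X.basicOpen a) (le_top) (0 : Γ(F, ⊤)) = 0 from map_zero _,
      smul_zero, add_zero]

end Groth.Agent.H29Omega.DerAffine
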