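import Groth.Agent.H29Omega.SheafFinite
import Groth.Agent.H29Blow.Basic

/-!
# Fitting ideals of differentials commute with base change
-/

set_option autoImplicit false

universe u

open CategoryTheory Limits AlgebraicGeometry TopologicalSpace Opposite TensorProduct

namespace Groth.Agent.H29Omega

variable {X S S' : Scheme.{u}}

theorem ideal_omega (f : X ⟶ S) [QuasiSeparated f] [LocallyOfFiniteType f] {U : X.Opens}
    (hU : IsAffineOpen U) {V : S.Opens} (hV : IsAffineOpen V) (h : U ≤ f ⁻¹ᵁ V) (k : ℕ) :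
    Fitt.ideal Γ(X, U) Γ(Omega.sheaf f, U) k =
      (letI := (f.appLE V U h).hom.toAlgebra; Fitt.ideal Γ(X, U) Ω[Γ(X, U)⁄Γ(S, V)] k) := by
  have := H17.OmegaLocal.isIso_toSect f hU hV h
  haveI := finite_sections_sheaf f hU hV h
  exact H29Fitt.ideal_congr (asIso (OmAff.toSect f V U h)).toLinearEquiv.symm k

set_option maxHeartbeats 800000 in
theorem sheafIdeal_omega_comap (f : X ⟶ S) [QuasiSeparated f] [LocallyOfFiniteType f] (g : S' ⟶ S)
    (i : ℕ) : (Fitt.sheafIdeal (Omega.sheaf f) i).comap (pullback.fst f g) =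
      Fitt.sheafIdeal (Omega.sheaf (pullback.snd f g)) i := by
  haveI : QuasiSeparated (pullback.snd f g) := MorphismProperty.pullback_snd f g ‹_›
  haveI : LocallyOfFiniteType (pullback.snd f g) := MorphismProperty.pullback_snd f g ‹_›
  have hq := isQCoh_sheaf f
  have hft := isFT_sheaf f
  have hq' := isQCoh_sheaf (pullback.snd f g)
  have hft' := isFT_sheaf (pullback.snd f g)
  have hch : ∀ p : ↑(pullback f g), ∃ (U : X.Opens) (V : S.Opens) (U' : S'.Opens),
      p ∈ pullback.fst f g ⁻¹ᵁ U ⊓ pullback.snd f g ⁻¹ᵁ U' ∧ IsAffineOpen U ∧ IsAffineOpen V ∧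
      IsAffineOpen U' ∧ U ≤ f ⁻¹ᵁ V ∧ U' ≤ g ⁻¹ᵁ V := by
    intro p
    obtain ⟨U, V, hxU, hU, hV, hle⟩ := exists_affine_chart f (pullback.fst f g p)
    have hp : g (pullback.snd f g p) ∈ V := by
      rw [← Scheme.Hom.comp_apply, ← pullback.condition, Scheme.Hom.comp_apply]
      exact hle hxU
    obtain ⟨_, ⟨U', hU' : IsAffineOpen U', rfl⟩, hpU', hle'⟩ :=
      S'.isBasis_affineOpens.exists_subset_of_mem_open (show pullback.snd f g p ∈ g ⁻¹ᵁ V from hp)
        (g ⁻¹ᵁ V).isOpen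
    exact ⟨U, V, U', ⟨hxU, hpU'⟩, hU, hV, hU', hle, hle'⟩
  choose U V U' hp hU hV hU' hle hle' using hch
  let W := fun p => pullback.fst f g ⁻¹ᵁ U p ⊓ pullback.snd f g ⁻¹ᵁ U' p
  have hW : ∀ p, IsAffineOpen (W p) := fun p => by
    have : IsAffine _ := hU p
    have : IsAffine _ := hV p
    have : IsAffine _ := hU' p
    exact .of_isIso (Scheme.Hom.isPullback_resLE (IsPullback.of_hasPullback f g) (hle' p) (hle p) rfl).isoPullback.hom
  refine Scheme.IdealSheafData.ext_of_iSup_eq_top (fun p => ⟨W p, hW p⟩)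
    (eq_top_iff.2 fun p _ => Opens.mem_iSup.2 ⟨p, hp p⟩) fun p => ?_
  have hWU : W p ≤ pullback.fst f g ⁻¹ᵁ U p := inf_le_left
  have hWU' : W p ≤ pullback.snd f g ⁻¹ᵁ U' p := inf_le_right
  rw [H29Blow.ideal_comap _ (pullback.fst f g) ⟨U p, hU p⟩ ⟨W p, hW p⟩ hWU,
    H29Fitt.sheafIdeal_ideal _ hq hft, H29Fitt.sheafIdeal_ideal _ hq' hft',
    ideal_omega f (hU p) (hV p) (hle p), ideal_omega (pullback.snd f g) (hW p) (hU' p) hWU']
  have := isIso_pushoutSection_of_isAffineOpen (IsPullback.of_hasPullback f g) (UY := W p)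
    (hle' p) (hle p) rfl (hV p) (hU' p) (hU p)
  have sq := (isIso_pushoutSection_iff (IsPullback.of_hasPullback f g) (UY := W p)
    (hle' p) (hle p) rfl).mp this
  letI a1 := (f.appLE (V p) (U p) (hle p)).hom.toAlgebra
  letI a2 := (g.appLE (V p) (U' p) (hle' p)).hom.toAlgebra
  letI a3 := ((pullback.fst f g).appLE (U p) (W p) hWU).hom.toAlgebra
  letI a4 := ((pullback.snd f g).appLE (U' p) (W p) hWU').hom.toAlgebra
  letI a5 := ((algebraMap Γ(X, U p) Γ(pullback f g, W p)).comp (algebraMap Γ(S, V p) Γ(X, U p))).toAlgebra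
  haveI : IsScalarTower Γ(S, V p) Γ(X, U p) Γ(pullback f g, W p) := .of_algebraMap_eq' rfl
  haveI : IsScalarTower Γ(S, V p) Γ(S', U' p) Γ(pullback f g, W p) :=
    .of_algebraMap_eq' (congrArg CommRingCat.Hom.hom sq.w)
  haveI hpo : Algebra.IsPushout Γ(S, V p) Γ(X, U p) Γ(S', U' p) Γ(pullback f g, W p) :=
    CommRingCat.isPushout_iff_isPushout.mp sq
  haveI : Algebra.IsPushout Γ(S, V p) Γ(S', U' p) Γ(X, U p) Γ(pullback f g, W p) := hpo.symm
  haveI : Module.Finite Γ(X, U p) Ω[Γ(X, U p)⁄Γ(S, V p)] := by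
    haveI : Algebra.FiniteType Γ(S, V p) Γ(X, U p) := f.finiteType_appLE (hV p) (hU p) (hle p)
    infer_instance
  rw [← H29Fitt.ideal_congr (KaehlerDifferential.tensorKaehlerEquiv Γ(S, V p) Γ(S', U' p) Γ(X, U p)
    Γ(pullback f g, W p)) i, H29Fitt.ideal_baseChange]
  rfl

end Groth.Agent.H29Omega
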